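import Mathlib
import Cfsg.Prelude.Def_PhanSystems
import Cfsg.Agent.Classical.Unitary.Matrix

/-! Unitary matrices acting on coordinate vectors, and coordinate block embeddings. -/

set_option autoImplicit false
set_option linter.unusedSimpArgs false
set_option linter.unusedSectionVars false
set_option linter.style.haveILetI false

namespace Cfsg.Lib.Known.Phan

open Matrix
open Cfsg.Lib.Classical (powConj powConj_isConj powConj_apply stdHerm stdHerm_h suEquiv suEquiv_coe
  unitToGL_mulVec)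

universe u

variable {F : Type u} [Field F] [Fintype F] {q : ℕ} [hF : Fact (Fintype.card F = q ^ 2)]

variable (F q) in
/-- The involutory field automorphism. -/
noncomputable def cb : F →+* F := powConj hF.out

theorem cb_apply (x : F) : cb F q x = x ^ q := powConj_apply hF.out x

theorem cb_cb (x : F) : cb F q (cb F q x) = x := (powConj_isConj hF.out).invol x

theorem cb_eq_zero {x : F} : cb F q x = 0 ↔ x = 0 := map_eq_zero _

variable (F q) in
/-- The standard Hermitian space. -/
noncomputable abbrev HS (N : ℕ) : Cfsg.Lib.Classical.HermSpace F (Fin N → F) := stdHerm N hF.out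

theorem hs_sigma (N : ℕ) : (HS F q N).σ = cb F q := rfl

theorem hs_h {N : ℕ} (u v : Fin N → F) : (HS F q N).h u v = ∑ i, u i * cb F q (v i) := rfl

/-- The underlying matrix. -/
abbrev mat {N : ℕ} (g : Cfsg.SU N F q) : Matrix (Fin N) (Fin N) F :=
  ((g : Matrix.SpecialLinearGroup (Fin N) F) : Matrix (Fin N) (Fin N) F)

/-- The action on column vectors. -/
def act {N : ℕ} (g : Cfsg.SU N F q) (v : Fin N → F) : Fin N → F := mat g *ᵥ v

theorem act_one {N : ℕ} (v : Fin N → F) : act (1 : Cfsg.SU N F q) v = v := Matrix.one_mulVec v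

theorem act_mul {N : ℕ} (g k : Cfsg.SU N F q) (v : Fin N → F) : act (g * k) v = act g (act k v) :=
  (Matrix.mulVec_mulVec v (mat g) (mat k)).symm

theorem act_inv_act {N : ℕ} (g : Cfsg.SU N F q) (v : Fin N → F) : act g⁻¹ (act g v) = v := by
  rw [← act_mul, inv_mul_cancel, act_one]

theorem act_act_inv {N : ℕ} (g : Cfsg.SU N F q) (v : Fin N → F) : act g (act g⁻¹ v) = v := by
  rw [← act_mul, mul_inv_cancel, act_one]

theorem act_inv_eq {N : ℕ} {g : Cfsg.SU N F q} {u v : Fin N → F} (e : act g u = v) : act g⁻¹ v = u := by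
  rw [← e, act_inv_act]

theorem act_add {N : ℕ} (g : Cfsg.SU N F q) (u v : Fin N → F) : act g (u + v) = act g u + act g v :=
  Matrix.mulVec_add _ _ _

theorem act_smul {N : ℕ} (g : Cfsg.SU N F q) (c : F) (v : Fin N → F) : act g (c • v) = c • act g v :=
  Matrix.mulVec_smul _ _ _

theorem act_h {N : ℕ} (g : Cfsg.SU N F q) (u v : Fin N → F) :
    (HS F q N).h (act g u) (act g v) = (HS F q N).h u v := by
  rw [stdHerm_h, stdHerm_h]
  exact g.2 u v

theorem act_ext {N : ℕ} {g k : Cfsg.SU N F q} (e : ∀ v, act g v = act k v) : g = k :=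
  Subtype.ext (Subtype.ext (Matrix.ext_of_mulVec_single fun i => e (Pi.single i 1)))

/-- Coordinate vectors. -/
def ev {N : ℕ} (i : Fin N) : Fin N → F := Pi.single i 1

theorem h_ev {N : ℕ} (v : Fin N → F) (i : Fin N) : (HS F q N).h v (ev i) = v i := by
  rw [hs_h, Finset.sum_eq_single i (fun j _ hj => by simp [ev, hj]) (by simp)]
  simp [ev]

theorem ev_h {N : ℕ} (v : Fin N → F) (i : Fin N) : (HS F q N).h (ev i) v = cb F q (v i) := by
  rw [(HS F q N).symm, h_ev, hs_sigma]

theorem ev_ev {N : ℕ} (i j : Fin N) : (HS F q N).h (ev i) (ev j) = if i = j then 1 else 0 := by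
  rw [h_ev]
  simp [ev, Pi.single_apply, eq_comm]

/-- Vectors of norm one. -/
def IsUnit1 {N : ℕ} (v : Fin N → F) : Prop := (HS F q N).h v v = 1

theorem isUnit1_ev {N : ℕ} (i : Fin N) : IsUnit1 (q := q) (ev i : Fin N → F) := by
  rw [IsUnit1, ev_ev, if_pos rfl]

theorem isUnit1_act {N : ℕ} (g : Cfsg.SU N F q) {v : Fin N → F} (h : IsUnit1 (q := q) v) :
    IsUnit1 (q := q) (act g v) := (act_h g v v).trans h

theorem act_ortho {N : ℕ} (g : Cfsg.SU N F q) {u v : Fin N → F} (h : (HS F q N).h u v = 0) :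
    (HS F q N).h (act g u) (act g v) = 0 := (act_h g u v).trans h

/-- Transitivity on vectors of norm one. -/
theorem exists_act_unit {N : ℕ} (hN : 2 ≤ N) {v v' : Fin N → F} (hv : IsUnit1 (q := q) v)
    (hv' : IsUnit1 (q := q) v') : ∃ g : Cfsg.SU N F q, act g v = v' := by
  set H := HS F q N with hH
  obtain ⟨g, hg⟩ := H.transitive_anisotropic (v := v) (v' := v') (by rw [hv]; exact one_ne_zero)
    (hv'.trans hv.symm)
  have hv0 : v' ≠ 0 := fun e => by rw [IsUnit1, e, H.zero_left] at hv'; exact zero_ne_one hv'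
  have hnd := H.nondegOn_orth (H.nondegOn_span_singleton (v := v') (by rw [hv']; exact one_ne_zero))
  haveI : Nontrivial (H.orth (Submodule.span F {v'})) := Module.nontrivial_of_finrank_pos (R := F) (by
    rw [H.finrank_orth, finrank_span_singleton hv0, Module.finrank_fin_fun]; omega)
  obtain ⟨w, hw⟩ := (H.restrict _ hnd).exists_norm_one
  have hw1 : H.h (w : Fin N → F) w = 1 := hw
  obtain ⟨z, hz⟩ := H.exists_SIsom_correct g hw1
  refine ⟨suEquiv N hF.out ⟨_, hz⟩, ?_⟩
  rw [act, mat, suEquiv_coe, unitToGL_mulVec]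
  change (H.qrefl hw1 z).1 (g.1 v) = v'
  rw [hg]
  exact H.qrefl_orth hw1 z (H.eq_zero_symm (w.2 v' (Submodule.mem_span_singleton_self v')))

/-! ### Blocks -/

section Blk

variable {k N : ℕ}

/-- The splitting of the coordinates along an injection. -/
noncomputable def splitEquiv (κ : Fin k ↪ Fin N) : Fin k ⊕ ↥(Set.range κ)ᶜ ≃ Fin N :=
  ((Equiv.ofInjective κ κ.injective).sumCongr (Equiv.refl _)).trans (Equiv.Set.sumCompl (Set.range κ))

theorem splitEquiv_inl (κ : Fin k ↪ Fin N) (i : Fin k) : splitEquiv κ (Sum.inl i) = κ i := by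
  simp [splitEquiv]

theorem splitEquiv_inr (κ : Fin k ↪ Fin N) (i : ↥(Set.range κ)ᶜ) : splitEquiv κ (Sum.inr i) = i := by
  simp [splitEquiv]

/-- The block matrix. -/
noncomputable def blkMat (κ : Fin k ↪ Fin N) (A : Matrix (Fin k) (Fin k) F) : Matrix (Fin N) (Fin N) F :=
  Matrix.reindex (splitEquiv κ) (splitEquiv κ) (Matrix.fromBlocks A 0 0 1)

theorem blkMat_mulVec (κ : Fin k ↪ Fin N) (A : Matrix (Fin k) (Fin k) F) (v : Fin N → F) :
    ((∀ i, (blkMat κ A *ᵥ v) (κ i) = (A *ᵥ (v ∘ κ)) i) ∧ ∀ j ∉ Set.range κ, (blkMat κ A *ᵥ v) j = v j) := by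
  have key : blkMat κ A *ᵥ v = (Matrix.fromBlocks A 0 0 1 *ᵥ (v ∘ splitEquiv κ)) ∘ (splitEquiv κ).symm := by
    rw [blkMat, Matrix.reindex_apply, Matrix.submatrix_mulVec_equiv, Equiv.symm_symm]
  constructor
  · intro i
    rw [key, Function.comp_apply, show (splitEquiv κ).symm (κ i) = Sum.inl i from
      (Equiv.symm_apply_eq _).mpr (splitEquiv_inl κ i).symm, Matrix.fromBlocks_mulVec, Sum.elim_inl]
    simp only [Matrix.zero_mulVec, Pi.add_apply, Pi.zero_apply, add_zero]
    have e1 : (v ∘ splitEquiv κ) ∘ Sum.inl = v ∘ κ := funext fun j => by simp [splitEquiv_inl]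
    rw [e1]
  · intro j hj
    rw [key, Function.comp_apply, show (splitEquiv κ).symm j = Sum.inr ⟨j, hj⟩ from
      (Equiv.symm_apply_eq _).mpr (splitEquiv_inr κ ⟨j, hj⟩).symm, Matrix.fromBlocks_mulVec, Sum.elim_inr]
    simp [splitEquiv_inr]

theorem h_split (κ : Fin k ↪ Fin N) (u v : Fin N → F) :
    (HS F q N).h u v = (HS F q k).h (u ∘ κ) (v ∘ κ) +
      ∑ j : ↥(Set.range κ)ᶜ, u j * cb F q (v j) := by
  classical
  rw [hs_h, hs_h, ← (splitEquiv κ).sum_comp, Fintype.sum_sum_type]
  simp [splitEquiv_inl, splitEquiv_inr]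

/-- A block embedding. -/
noncomputable def blk (κ : Fin k ↪ Fin N) : Cfsg.SU k F q →* Cfsg.SU N F q where
  toFun g := ⟨⟨blkMat κ (mat g), by
    rw [blkMat, Matrix.det_reindex_self, Matrix.det_fromBlocks_zero₂₁, Matrix.det_one, mul_one]
    exact (g : Matrix.SpecialLinearGroup (Fin k) F).2⟩, by
    intro u v
    change Cfsg.hermForm N F q (blkMat κ (mat g) *ᵥ u) (blkMat κ (mat g) *ᵥ v) = _
    rw [← stdHerm_h hF.out, ← stdHerm_h hF.out, h_split (q := q) κ, h_split (q := q) κ u v]
    congr 1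
    · rw [show (blkMat κ (mat g) *ᵥ u) ∘ κ = act g (u ∘ κ) from funext (blkMat_mulVec κ (mat g) u).1,
        show (blkMat κ (mat g) *ᵥ v) ∘ κ = act g (v ∘ κ) from funext (blkMat_mulVec κ (mat g) v).1,
        act_h]
    · exact Finset.sum_congr rfl fun j _ => by
        rw [(blkMat_mulVec κ (mat g) u).2 j j.2, (blkMat_mulVec κ (mat g) v).2 j j.2]⟩
  map_one' := Subtype.ext (Subtype.ext (by
    change blkMat κ (1 : Matrix (Fin k) (Fin k) F) = 1
    simp [blkMat]))
  map_mul' g g' := Subtype.ext (Subtype.ext (by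
    change blkMat κ (mat g * mat g') = blkMat κ (mat g) * blkMat κ (mat g')
    simp [blkMat, Matrix.submatrix_mul_equiv, Matrix.fromBlocks_multiply]))

theorem blk_apply_mem (κ : Fin k ↪ Fin N) (g : Cfsg.SU k F q) (v : Fin N → F) (i : Fin k) :
    act (blk κ g) v (κ i) = act g (v ∘ κ) i := (blkMat_mulVec κ (mat g) v).1 i

theorem blk_apply_notMem (κ : Fin k ↪ Fin N) (g : Cfsg.SU k F q) (v : Fin N → F) {j : Fin N}
    (hj : j ∉ Set.range κ) : act (blk κ g) v j = v j := (blkMat_mulVec κ (mat g) v).2 j hj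

theorem blk_comp (κ : Fin k ↪ Fin N) (g : Cfsg.SU k F q) (v : Fin N → F) :
    act (blk κ g) v ∘ κ = act g (v ∘ κ) := funext (blk_apply_mem κ g v)

theorem blk_eq_self (κ : Fin k ↪ Fin N) (g : Cfsg.SU k F q) {v : Fin N → F} (h : ∀ i, v (κ i) = 0) :
    act (blk κ g) v = v := by
  funext j
  by_cases hj : j ∈ Set.range κ
  · obtain ⟨i, rfl⟩ := hj
    rw [blk_apply_mem, show v ∘ κ = 0 from funext h, act, Matrix.mulVec_zero, h]
    rfl
  · exact blk_apply_notMem κ g v hj

theorem blk_fix (κ : Fin k ↪ Fin N) (g : Cfsg.SU k F q) {j : Fin N} (hj : j ∉ Set.range κ) :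
    act (blk κ g) (ev j) = ev j :=
  blk_eq_self κ g fun i => by
    rw [ev, Pi.single_eq_of_ne]
    exact fun e => hj ⟨i, e⟩

theorem ev_comp (κ : Fin k ↪ Fin N) (i : Fin k) : (ev (κ i) : Fin N → F) ∘ κ = ev i := by
  funext j
  simp [ev, Pi.single_apply, κ.injective.eq_iff]

theorem blk_blk {m : ℕ} (κ : Fin k ↪ Fin N) (ι : Fin N ↪ Fin m) (g : Cfsg.SU k F q) :
    blk ι (blk κ g) = blk (κ.trans ι) g := by
  refine act_ext fun v => funext fun j => ?_
  by_cases hj : j ∈ Set.range ι
  · obtain ⟨i, rfl⟩ := hj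
    rw [blk_apply_mem]
    by_cases hi : i ∈ Set.range κ
    · obtain ⟨l, rfl⟩ := hi
      rw [blk_apply_mem, show ι (κ l) = (κ.trans ι) l from rfl, blk_apply_mem]
      rfl
    · rw [blk_apply_notMem κ g _ hi, blk_apply_notMem (κ.trans ι) g]
      · rfl
      · rintro ⟨l, hl⟩; exact hi ⟨l, ι.injective hl⟩
  · rw [blk_apply_notMem ι _ _ hj, blk_apply_notMem]
    rintro ⟨l, hl⟩; exact hj ⟨κ l, hl⟩

theorem blk_commute {k' : ℕ} (κ : Fin k ↪ Fin N) (ι : Fin k' ↪ Fin N)
    (h : ∀ i j, κ i ≠ ι j) (g : Cfsg.SU k F q) (g' : Cfsg.SU k' F q) : Commute (blk κ g) (blk ι g') := by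
  refine act_ext fun v => funext fun j => ?_
  rw [act_mul, act_mul]
  by_cases hj : j ∈ Set.range κ
  · obtain ⟨i, rfl⟩ := hj
    have hi : κ i ∉ Set.range ι := fun ⟨l, hl⟩ => h i l hl.symm
    rw [blk_apply_notMem ι g' _ hi, blk_apply_mem, blk_apply_mem]
    congr 1
    funext l
    exact blk_apply_notMem ι g' v fun ⟨l', hl⟩ => h l l' hl.symm
  · rw [blk_apply_notMem κ g _ hj]
    by_cases hj' : j ∈ Set.range ι
    · obtain ⟨i, rfl⟩ := hj'
      rw [blk_apply_mem, blk_apply_mem]
      congr 1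
      funext l
      exact (blk_apply_notMem κ g v fun ⟨l', hl⟩ => h l' l hl).symm
    · rw [blk_apply_notMem ι g' _ hj', blk_apply_notMem ι g' _ hj', blk_apply_notMem κ g _ hj]

theorem blk_injective (κ : Fin k ↪ Fin N) : Function.Injective (blk (F := F) (q := q) κ) := by
  intro g g' h
  refine act_ext fun v => ?_
  have e : Function.extend κ v (0 : Fin N → F) ∘ κ = v := funext fun i => κ.injective.extend_apply v 0 i
  rw [← e, ← blk_comp, ← blk_comp, h]

/-- An element fixing all coordinates outside a block lies in the block. -/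
theorem exists_blk (κ : Fin k ↪ Fin N) {g : Cfsg.SU N F q} (hg : ∀ j ∉ Set.range κ, act g (ev j) = ev j) :
    ∃ g', blk κ g' = g := by
  classical
  have hcol : ∀ j ∉ Set.range κ, ∀ i, mat g i j = (ev j : Fin N → F) i := fun j hj i => by
    rw [← hg j hj, act, ev, Matrix.mulVec_single_one]
    rfl
  have hrow : ∀ j ∉ Set.range κ, ∀ i, mat g j i = (ev i : Fin N → F) j := fun j hj i => by
    have h1 := act_h g (ev i) (ev j)
    rw [hg j hj, h_ev, h_ev, act, ev, Matrix.mulVec_single_one] at h1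
    exact h1
  set A : Matrix (Fin k) (Fin k) F := (mat g).submatrix κ κ with hA
  have hmat : blkMat κ A = mat g := by
    rw [blkMat, Matrix.reindex_apply]
    ext i j
    obtain ⟨a, rfl⟩ := (splitEquiv κ).surjective i
    obtain ⟨b, rfl⟩ := (splitEquiv κ).surjective j
    rw [Matrix.submatrix_apply, Equiv.symm_apply_apply, Equiv.symm_apply_apply]
    rcases a with a | a <;> rcases b with b | b
    · rw [splitEquiv_inl, splitEquiv_inl]; rfl
    · rw [splitEquiv_inl, splitEquiv_inr, hcol b b.2, Matrix.fromBlocks_apply₁₂]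
      simp only [ev, Matrix.zero_apply]
      rw [Pi.single_eq_of_ne]
      exact fun e => b.2 ⟨a, e⟩
    · rw [splitEquiv_inr, splitEquiv_inl, hrow a a.2, Matrix.fromBlocks_apply₂₁]
      simp only [ev, Matrix.zero_apply]
      rw [Pi.single_eq_of_ne]
      exact fun e => a.2 ⟨b, e.symm⟩
    · rw [splitEquiv_inr, splitEquiv_inr, hcol b b.2, Matrix.fromBlocks_apply₂₂, Matrix.one_apply]
      simp [ev, Pi.single_apply, Subtype.ext_iff]
  have hdet : A.det = 1 := by
    have := (g : Matrix.SpecialLinearGroup (Fin N) F).2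
    rw [← mat, ← hmat, blkMat, Matrix.det_reindex_self, Matrix.det_fromBlocks_zero₂₁, Matrix.det_one,
      mul_one] at this
    exact this
  have hmem : (⟨A, hdet⟩ : Matrix.SpecialLinearGroup (Fin k) F) ∈ Cfsg.SU k F q := by
    intro u v
    change Cfsg.hermForm k F q (A *ᵥ u) (A *ᵥ v) = Cfsg.hermForm k F q u v
    have key := act_h g (Function.extend κ u (0 : Fin N → F)) (Function.extend κ v (0 : Fin N → F))
    have e : ∀ w : Fin k → F, Function.extend κ w (0 : Fin N → F) ∘ κ = w :=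
      fun w => funext fun i => κ.injective.extend_apply w (0 : Fin N → F) i
    have e0 : ∀ (w : Fin k → F) (j : ↥(Set.range κ)ᶜ), Function.extend κ w (0 : Fin N → F) (j : Fin N) = 0 :=
      fun w j => Function.extend_apply' w (0 : Fin N → F) _ j.2
    rw [act, act, ← hmat, h_split (q := q) κ, h_split (q := q) κ (Function.extend κ u (0 : Fin N → F))] at key
    have ec : ∀ w : Fin k → F, (blkMat κ A *ᵥ Function.extend κ w (0 : Fin N → F)) ∘ κ = A *ᵥ w := fun w => by
      rw [funext_iff]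
      intro i
      rw [Function.comp_apply, (blkMat_mulVec κ A _).1 i, e]
    rw [ec, ec, e, e] at key
    simp only [fun (w : Fin k → F) (j : ↥(Set.range κ)ᶜ) =>
      ((blkMat_mulVec κ A (Function.extend κ w (0 : Fin N → F))).2 j j.2).trans (e0 w j), e0, zero_mul,
      Finset.sum_const_zero, add_zero, stdHerm_h] at key
    exact key
  exact ⟨⟨⟨A, hdet⟩, hmem⟩, Subtype.ext (Subtype.ext hmat)⟩

end Blk

/-- The block of the prelude. -/
theorem suBlock_eq_range {k N : ℕ} (κ : Fin k ↪ Fin N) (s : Set (Fin N)) (hs : Set.range κ = s) :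
    Cfsg.suBlock N F q s = (blk (F := F) (q := q) κ).range := by
  classical
  subst hs
  refine le_antisymm ((Subgroup.closure_le _).mpr fun g hg => ?_) ?_
  · refine exists_blk κ fun j hj => funext fun i => ?_
    rw [act, ev, Matrix.mulVec_single_one]
    rcases eq_or_ne i j with rfl | hne
    · simpa using (hg i hj).1
    · rw [Pi.single_eq_of_ne hne]
      exact ((hg j hj).2 i hne).2
  · rintro _ ⟨g, rfl⟩
    refine Subgroup.subset_closure fun j hj => ?_
    have col : ∀ i, mat (blk κ g) i j = (Pi.single j (1 : F) : Fin N → F) i := fun i => by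
      have := congrFun (blk_fix κ g hj) i
      rwa [act, ev, Matrix.mulVec_single_one] at this
    have row : ∀ l, mat (blk κ g) j l = (Pi.single l (1 : F) : Fin N → F) j := fun l => by
      have := blk_apply_notMem κ g (Pi.single l (1 : F)) hj
      rwa [act, Matrix.mulVec_single_one] at this
    refine ⟨by simpa using col j, fun l hl => ⟨?_, ?_⟩⟩
    · simpa [hl.symm] using row l
    · simpa [hl] using col l

/-! ### The rank one group -/

/-- The standard element with first column `(a, b)`. -/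
noncomputable def su2 (a b : F) (h : a * cb F q a + b * cb F q b = 1) : Cfsg.SU 2 F q :=
  ⟨⟨!![a, -cb F q b; b, cb F q a], by rw [Matrix.det_fin_two_of]; linear_combination h⟩, by
    intro u v
    change Cfsg.hermForm 2 F q (!![a, -cb F q b; b, cb F q a] *ᵥ u) (!![a, -cb F q b; b, cb F q a] *ᵥ v) = _
    rw [← stdHerm_h hF.out, ← stdHerm_h hF.out, hs_h, hs_h]
    simp [Matrix.mulVec, dotProduct, Fin.sum_univ_two, map_add, map_mul, map_neg, cb_cb]
    linear_combination (u 0 * cb F q (v 0) + u 1 * cb F q (v 1)) * h⟩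

theorem mat_su2 (a b : F) (h : a * cb F q a + b * cb F q b = 1) :
    mat (su2 a b h) = !![a, -cb F q b; b, cb F q a] := rfl

theorem act_su2_zero (a b : F) (h : a * cb F q a + b * cb F q b = 1) : act (su2 a b h) (ev 0) = ![a, b] := by
  rw [act, mat_su2, ev, Matrix.mulVec_single_one]
  funext i
  fin_cases i <;> rfl

theorem act_su2_one (a b : F) (h : a * cb F q a + b * cb F q b = 1) :
    act (su2 a b h) (ev 1) = ![-cb F q b, cb F q a] := by
  rw [act, mat_su2, ev, Matrix.mulVec_single_one]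
  funext i
  fin_cases i <;> rfl

theorem su2_norm (g : Cfsg.SU 2 F q) : mat g 0 0 * cb F q (mat g 0 0) + mat g 1 0 * cb F q (mat g 1 0) = 1 := by
  have := act_h g (ev 0) (ev 0)
  rw [ev_ev, if_pos rfl, hs_h, act, ev, Matrix.mulVec_single_one, Fin.sum_univ_two] at this
  exact this

theorem eq_su2 (g : Cfsg.SU 2 F q) : g = su2 (mat g 0 0) (mat g 1 0) (su2_norm g) := by
  refine Subtype.ext (Subtype.ext ?_)
  change mat g = !![mat g 0 0, -cb F q (mat g 1 0); mat g 1 0, cb F q (mat g 0 0)]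
  have h0 := act_h g (ev 1) (ev 0)
  rw [ev_ev, if_neg (by decide), hs_h, act, act, ev, ev, Matrix.mulVec_single_one, Matrix.mulVec_single_one,
    Fin.sum_univ_two] at h0
  simp only [Matrix.col_apply] at h0
  have hd := (g : Matrix.SpecialLinearGroup (Fin 2) F).2
  rw [Matrix.det_fin_two] at hd
  have hn := su2_norm g
  ext i j
  fin_cases i <;> fin_cases j
  · rfl
  · change mat g 0 1 = -cb F q (mat g 1 0)
    linear_combination (mat g 0 0) * h0 - (cb F q (mat g 1 0)) * hd - (mat g 0 1) * hn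
  · rfl
  · change mat g 1 1 = cb F q (mat g 0 0)
    linear_combination (mat g 1 0) * h0 + (cb F q (mat g 0 0)) * hd - (mat g 1 1) * hn

end Cfsg.Lib.Known.Phan

namespace Cfsg.Lib.Known.Phan

section Pad

universe u

variable {F : Type u} [Field F] [Fintype F] {q : ℕ} [hF : Fact (Fintype.card F = q ^ 2)] {k N : ℕ}

/-- Padding by zeros. -/
noncomputable def pad (κ : Fin k ↪ Fin N) (v : Fin k → F) : Fin N → F := Function.extend κ v (0 : Fin N → F)

theorem pad_mem (κ : Fin k ↪ Fin N) (v : Fin k → F) (i : Fin k) : pad κ v (κ i) = v i :=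
  κ.injective.extend_apply v (0 : Fin N → F) i

theorem pad_notMem (κ : Fin k ↪ Fin N) (v : Fin k → F) {j : Fin N} (hj : j ∉ Set.range κ) : pad κ v j = 0 :=
  Function.extend_apply' v (0 : Fin N → F) _ hj

theorem pad_comp (κ : Fin k ↪ Fin N) (v : Fin k → F) : pad κ v ∘ κ = v := funext (pad_mem κ v)

theorem pad_ev (κ : Fin k ↪ Fin N) (i : Fin k) : pad κ (ev i : Fin k → F) = ev (κ i) := by
  funext j
  by_cases hj : j ∈ Set.range κ
  · obtain ⟨l, rfl⟩ := hj
    rw [pad_mem]
    simp [ev, Pi.single_apply, κ.injective.eq_iff]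
  · rw [pad_notMem κ _ hj, ev, Pi.single_eq_of_ne]
    exact fun e => hj ⟨i, e.symm⟩

theorem h_pad (κ : Fin k ↪ Fin N) (u v : Fin k → F) :
    (HS F q N).h (pad κ u) (pad κ v) = (HS F q k).h u v := by
  rw [h_split κ, pad_comp, pad_comp, Finset.sum_eq_zero, add_zero]
  intro j _
  rw [pad_notMem κ u j.2, zero_mul]

theorem blk_pad (κ : Fin k ↪ Fin N) (g : Cfsg.SU k F q) (v : Fin k → F) :
    act (blk κ g) (pad κ v) = pad κ (act g v) := by
  funext j
  by_cases hj : j ∈ Set.range κ
  · obtain ⟨l, rfl⟩ := hj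
    rw [blk_apply_mem, pad_comp, pad_mem]
  · rw [blk_apply_notMem κ g _ hj, pad_notMem κ _ hj, pad_notMem κ _ hj]

theorem blk_ev (κ : Fin k ↪ Fin N) (g : Cfsg.SU k F q) (i : Fin k) :
    act (blk κ g) (ev (κ i)) = pad κ (act g (ev i)) := by
  rw [← pad_ev, blk_pad]

/-- The first two of three coordinates. -/
def κ01 : Fin 2 ↪ Fin 3 := Fin.castSuccEmb

/-- The last two of three coordinates. -/
def κ12 : Fin 2 ↪ Fin 3 := Fin.succEmb 2

theorem range_κ01 : Set.range κ01 = ({0, 1} : Set (Fin 3)) := by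
  ext i; fin_cases i <;> simp [κ01, Fin.exists_fin_two]

theorem range_κ12 : Set.range κ12 = ({1, 2} : Set (Fin 3)) := by
  ext i; fin_cases i <;> simp [κ12, Fin.exists_fin_two]

theorem κ01_two : (2 : Fin 3) ∉ Set.range κ01 := by rw [range_κ01]; decide

theorem κ12_zero : (0 : Fin 3) ∉ Set.range κ12 := by rw [range_κ12]; decide

theorem blk01_ev0 (a b : F) (h : a * cb F q a + b * cb F q b = 1) :
    act (blk κ01 (su2 a b h)) (ev 0) = ![a, b, 0] := by
  rw [show (0 : Fin 3) = κ01 0 from rfl, blk_ev, act_su2_zero]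
  funext i
  fin_cases i
  · exact pad_mem κ01 _ 0
  · exact pad_mem κ01 _ 1
  · exact pad_notMem κ01 _ κ01_two

theorem blk12_ev1 (a b : F) (h : a * cb F q a + b * cb F q b = 1) :
    act (blk κ12 (su2 a b h)) (ev 1) = ![0, a, b] := by
  rw [show (1 : Fin 3) = κ12 0 from rfl, blk_ev, act_su2_zero]
  funext i
  fin_cases i
  · exact pad_notMem κ12 _ κ12_zero
  · exact pad_mem κ12 _ 0
  · exact pad_mem κ12 _ 1

end Pad

end Cfsg.Lib.Known.Phan
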