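import Cfsg.Agent.Known.Phan.Basic
import Cfsg.Agent.Known.AutPSL2
import Cfsg.Agent.Classical.Unitary.SUTwo

/-! Automorphisms of `SU 2` stabilising the diagonal torus. -/

set_option autoImplicit false
set_option linter.unusedSimpArgs false
set_option linter.unusedSectionVars false
set_option linter.style.haveILetI false

namespace Cfsg.Lib.Known.Phan

open Matrix
open Cfsg.Lib.Classical (fixedField stdHerm_h)

universe u

variable {F : Type u} [Field F] [Fintype F] {q : ℕ} [hF : Fact (Fintype.card F = q ^ 2)]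

local notation "cσ" => cb F q
set_option quotPrecheck false in
local notation "Kf" => ↥(fixedField (cb F q))

/-- `SU 2` is a conjugate of `SL 2` over the fixed field. -/
theorem exists_model : ∃ (E : GL (Fin 2) F) (Ψ : SpecialLinearGroup (Fin 2) Kf ≃* Cfsg.SU 2 F q),
    ∀ A, mat (Ψ A) = (E : Matrix (Fin 2) (Fin 2) F) * A.1.map (fixedField cσ).subtype *
      ((E⁻¹ : GL (Fin 2) F) : Matrix (Fin 2) (Fin 2) F) := by
  classical
  have hσ : Cfsg.Lib.Classical.IsConj cσ := Cfsg.Lib.Classical.powConj_isConj hF.out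
  set H := HS F q 2 with hH
  haveI : Fintype Kf := Fintype.ofFinite _
  have hKcard : Fintype.card Kf = q := by
    rw [← Nat.card_eq_fintype_card]
    exact (Cfsg.Lib.Classical.exists_conj_pow hF.out).choose_spec.2.2
  set ι : Kf →+* F := (fixedField cσ).subtype with hιdef
  have hι : ∀ x, cσ (ι x) = ι x := fun x => x.2
  obtain ⟨c, hc0, hc⟩ := hσ.exists_skew
  have hσc : cσ c = -c := by linear_combination hc
  let H' : Cfsg.Lib.Classical.HermSpace F (Fin 2 → F) :=
    { σ := cσ
      h := fun x y => c * (x 0 * cσ (y 1) - x 1 * cσ (y 0))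
      conj := hσ
      add_left := fun x y z => by simp only [Pi.add_apply]; ring
      smul_left := fun a x z => by simp only [Pi.smul_apply, smul_eq_mul]; ring
      symm := fun x y => by
        simp only [map_mul, map_sub, cb_cb, hσc]
        ring
      nondeg := fun v hv => by
        have h0 := hv ![1, 0]
        have h1 := hv ![0, 1]
        simp [hc0] at h0 h1
        ext i
        fin_cases i
        · exact h1
        · exact h0 }
  obtain ⟨e, he⟩ := H'.exists_isometry H rfl (by rw [Module.finrank_fin_fun])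
  set E := LinearMap.toMatrix' e.toLinearMap with hE
  set E' := LinearMap.toMatrix' e.symm.toLinearMap with hE'
  have hEE : E * E' = 1 := by
    rw [hE, hE', ← LinearMap.toMatrix'_comp, LinearEquiv.comp_coe, LinearEquiv.symm_trans_self,
      LinearEquiv.refl_toLinearMap, LinearMap.toMatrix'_id]
  have hE'E : E' * E = 1 := mul_eq_one_comm.mp hEE
  have hEap : ∀ x, E *ᵥ x = e x := fun x => by rw [hE, LinearMap.toMatrix'_mulVec]; rfl
  have hE'ap : ∀ x, E' *ᵥ x = e.symm x := fun x => by rw [hE', LinearMap.toMatrix'_mulVec]; rfl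
  let f : SpecialLinearGroup (Fin 2) Kf →* SpecialLinearGroup (Fin 2) F :=
    { toFun := fun A => ⟨E * (A.1.map ι) * E', by
        rw [Matrix.det_mul, Matrix.det_mul, mul_comm E.det, mul_assoc, ← Matrix.det_mul, hEE, Matrix.det_one,
          mul_one]
        exact (RingHom.map_det ι A.1).symm.trans (by rw [A.2, map_one])⟩
      map_one' := Subtype.ext (by simp [hEE])
      map_mul' := fun A B => Subtype.ext (by
        show E * ((A * B).1.map ι) * E' = (E * A.1.map ι * E') * (E * B.1.map ι * E')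
        rw [Matrix.SpecialLinearGroup.coe_mul, Matrix.map_mul]
        simp only [Matrix.mul_assoc]
        rw [← Matrix.mul_assoc E' E, hE'E, Matrix.one_mul]) }
  have hf : f.range ≤ Cfsg.SU 2 F q := by
    rintro _ ⟨A, rfl⟩ u v
    show Cfsg.hermForm 2 F q ((E * A.1.map ι * E') *ᵥ u) ((E * A.1.map ι * E') *ᵥ v) = _
    have hd : ι (A.1 0 0) * ι (A.1 1 1) - ι (A.1 0 1) * ι (A.1 1 0) = 1 := by
      have h := A.2
      rw [Matrix.det_fin_two] at h
      rw [← map_mul, ← map_mul, ← map_sub, h, map_one]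
    have key : ∀ x y, H'.h (A.1.map ι *ᵥ x) (A.1.map ι *ᵥ y) = H'.h x y := by
      intro x y
      show c * _ = c * _
      simp only [Matrix.mulVec, dotProduct, Fin.sum_univ_two, Matrix.map_apply, map_add, map_mul, hι]
      linear_combination c * (x 0 * cσ (y 1) - x 1 * cσ (y 0)) * hd
    simp only [← stdHerm_h hF.out, ← Matrix.mulVec_mulVec, hEap, hE'ap]
    change H.h _ _ = H.h _ _
    rw [he, key, ← he, e.apply_symm_apply, e.apply_symm_apply]
  have hinj : Function.Injective f := fun A B h => by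
    have h' : E' * (E * A.1.map ι * E') * E = E' * (E * B.1.map ι * E') * E := by
      rw [show E * A.1.map ι * E' = E * B.1.map ι * E' from congrArg Subtype.val h]
    simp only [Matrix.mul_assoc, hE'E, Matrix.mul_one] at h'
    rw [← Matrix.mul_assoc, ← Matrix.mul_assoc E' E, hE'E, Matrix.one_mul, Matrix.one_mul] at h'
    exact Subtype.ext (Matrix.map_injective ι.injective h')
  have hcard : Nat.card (SpecialLinearGroup (Fin 2) Kf) = Nat.card (Cfsg.SU 2 F q) := by
    obtain ⟨e⟩ := Cfsg.Lib.Classical.su_two_equiv (K := Kf) hF.out hKcard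
    exact (Nat.card_congr e.toEquiv).symm
  let g : SpecialLinearGroup (Fin 2) Kf →* Cfsg.SU 2 F q := f.codRestrict _ fun A => hf ⟨A, rfl⟩
  have hg : Function.Bijective g := (Nat.bijective_iff_injective_and_card g).mpr
    ⟨fun A B h => hinj (congrArg Subtype.val h), hcard⟩
  exact ⟨⟨E, E', hEE, hE'E⟩, MulEquiv.ofBijective g hg, fun A => rfl⟩

/-- Automorphisms of the fixed field extend. -/
theorem exists_extension (τ₀ : Kf ≃+* Kf) : ∃ τ : F ≃+* F, ∀ x : Kf, τ (x : F) = (τ₀ x : F) := by
  haveI : Fact (ringChar F).Prime := ⟨CharP.char_is_prime F (ringChar F)⟩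
  haveI : CharP F (ringChar F) := ringChar.charP F
  haveI : CharP Kf (ringChar F) := RingHom.charP (fixedField cσ).subtype Subtype.val_injective (ringChar F)
  letI : Algebra (ZMod (ringChar F)) Kf := ZMod.algebra Kf (ringChar F)
  let t : Kf ≃ₐ[ZMod (ringChar F)] Kf := AlgEquiv.ofRingEquiv (f := τ₀) fun z =>
    RingHom.congr_fun (Subsingleton.elim ((τ₀ : Kf →+* Kf).comp (algebraMap (ZMod (ringChar F)) Kf))
      (algebraMap (ZMod (ringChar F)) Kf)) z
  obtain ⟨i, hi⟩ := (FiniteField.bijective_frobeniusAlgEquivOfAlgebraic_pow (ZMod (ringChar F)) Kf).2 t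
  haveI : ExpChar F (ringChar F) := ExpChar.prime Fact.out
  refine ⟨RingEquiv.ofBijective (iterateFrobenius F (ringChar F) i)
    (Finite.injective_iff_bijective.mp (iterateFrobenius F (ringChar F) i).injective), fun x => ?_⟩
  show iterateFrobenius F (ringChar F) i (x : F) = _
  rw [iterateFrobenius_def]
  have h2 : t x = x ^ (ringChar F) ^ (i : ℕ) := by
    rw [← hi, AlgEquiv.coe_pow, FiniteField.coe_frobeniusAlgEquivOfAlgebraic, pow_iterate, ZMod.card]
  have h3 := congrArg Subtype.val h2
  rw [SubmonoidClass.coe_pow] at h3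
  exact h3.symm

/-- Two maps to `SL 2` agreeing modulo the centre agree. -/
theorem hom_eq_of_mod_center {R : Type u} [Field R] [Fintype R]
    (f g : SpecialLinearGroup (Fin 2) R →* SpecialLinearGroup (Fin 2) R)
    (h : ∀ x, (g x)⁻¹ * f x ∈ Subgroup.center (SpecialLinearGroup (Fin 2) R)) : f = g := by
  have hl : MonoidHom.eqLocus f g = ⊤ := by
    refine Cfsg.Lib.Classical.eq_top_of_transvection_mem _ fun i j hij c => ?_
    show f _ = g _
    set x := SpecialLinearGroup.transvection hij c with hx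
    set k := (g x)⁻¹ * f x with hk
    have hkc := h x
    have hq : x ^ Fintype.card R = 1 := by
      refine Subtype.ext ?_
      have hpow : ∀ m : ℕ, (x ^ m).1 = Matrix.transvection i j ((m : R) * c) := fun m => by
        induction m with
        | zero => simp
        | succ m ih =>
          rw [pow_succ, Matrix.SpecialLinearGroup.coe_mul, ih, hx, Matrix.SpecialLinearGroup.transvection_coe]
          rw [show (1 + Matrix.single i j c : Matrix (Fin 2) (Fin 2) R) = Matrix.transvection i j c from rfl,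
            Matrix.transvection_mul_transvection_same _ _ hij]
          congr 1
          push_cast
          ring
      rw [hpow, FiniteField.cast_card_eq_zero, zero_mul, Matrix.transvection_zero]
      rfl
    have e : f x = g x * k := by rw [hk, mul_inv_cancel_left]
    have hk1 : k = 1 := by
      obtain ⟨r, h1, h2⟩ := Matrix.SpecialLinearGroup.mem_center_iff.1 hkc
      rw [Fintype.card_fin] at h1
      have e1 : (g x * k) ^ Fintype.card R = 1 := by rw [← e, ← map_pow, hq, map_one]
      rw [Commute.mul_pow (show Commute (g x) k from Subgroup.mem_center_iff.1 hkc (g x)), ← map_pow, hq,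
        map_one, one_mul] at e1
      have e2 : r ^ Fintype.card R = 1 := by
        have := congrArg Subtype.val e1
        rw [Matrix.SpecialLinearGroup.coe_pow, ← h2, ← map_pow] at this
        simpa using congrFun (congrFun this 0) 0
      rw [FiniteField.pow_card] at e2
      refine Subtype.ext ?_
      rw [← h2, e2, map_one]
      rfl
    rw [e, hk1, mul_one]
  exact MonoidHom.ext fun x => hl.ge (Subgroup.mem_top x)

/-- Every automorphism is conjugation composed with a field automorphism. -/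
theorem exists_conj_field (θ : Cfsg.SU 2 F q ≃* Cfsg.SU 2 F q) :
    ∃ (M : GL (Fin 2) F) (τ : F ≃+* F), ∀ g, mat (θ g) * (M : Matrix (Fin 2) (Fin 2) F) =
      (M : Matrix (Fin 2) (Fin 2) F) * (mat g).map τ := by
  classical
  obtain ⟨E, Ψ, hΨ⟩ := exists_model (F := F) (q := q)
  haveI : Fintype Kf := Fintype.ofFinite _
  haveI : CharP Kf (ringChar Kf) := ringChar.charP Kf
  haveI : Fact (ringChar Kf).Prime := ⟨CharP.char_is_prime Kf (ringChar Kf)⟩
  letI : Algebra (ZMod (ringChar Kf)) Kf := ZMod.algebra Kf (ringChar Kf)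
  obtain ⟨f, hp, hf⟩ := FiniteField.card Kf (ringChar Kf)
  set α : MulAut (SpecialLinearGroup (Fin 2) Kf) := (Ψ.trans θ).trans Ψ.symm with hα
  obtain ⟨g, a, τ₀, hd⟩ := AutPSL2.exists_decomp (ringChar Kf) (f := f) f.pos hf (AutPSL2.liftPSL α)
  obtain ⟨g, rfl⟩ := QuotientGroup.mk'_surjective _ g
  set P : GL (Fin 2) Kf := Matrix.SpecialLinearGroup.toGL g * AutPSL2.diagGL a with hPdef
  have hαP : ∀ A : SpecialLinearGroup (Fin 2) Kf, (α A).1 * P.1 = P.1 * A.1.map τ₀ := by
    have e : α.toMonoidHom = (AutPSL2.conjSL P).toMonoidHom.comp (AutPSL2.fieldSL (ringChar Kf) τ₀).toMonoidHom := by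
      refine hom_eq_of_mod_center _ _ fun x => ?_
      rw [← QuotientGroup.eq_one_iff, QuotientGroup.mk_mul, QuotientGroup.mk_inv, inv_mul_eq_one]
      have h := DFunLike.congr_fun hd (AutPSL2.π x)
      rw [AutPSL2.liftPSL_apply] at h
      refine Eq.trans ?_ h.symm
      show AutPSL2.π (AutPSL2.conjSL P (AutPSL2.fieldSL (ringChar Kf) τ₀ x)) = AutPSL2.π g *
        AutPSL2.π (AutPSL2.conjSL (AutPSL2.diagGL a) (AutPSL2.fieldSL (ringChar Kf) τ₀ x)) * (AutPSL2.π g)⁻¹
      rw [← map_inv, ← map_mul, ← map_mul]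
      congr 1
      refine Subtype.ext ?_
      rw [Matrix.SpecialLinearGroup.coe_mul, Matrix.SpecialLinearGroup.coe_mul, AutPSL2.coe_conjSL,
        AutPSL2.coe_conjSL]
      simp only [P, _root_.mul_inv_rev, Units.val_mul, Matrix.mul_assoc]
      rfl
    intro A
    have h := DFunLike.congr_fun e A
    rw [show α A = AutPSL2.conjSL P (AutPSL2.fieldSL (ringChar Kf) τ₀ A) from h, AutPSL2.coe_conjSL,
      Matrix.mul_assoc, Units.inv_mul, Matrix.mul_one]
    rfl
  obtain ⟨τ, hτ⟩ := exists_extension (F := F) (q := q) τ₀.toRingEquiv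
  set ι := (fixedField cσ).subtype with hι
  let P' : GL (Fin 2) F := Matrix.GeneralLinearGroup.map ι P
  let E' : GL (Fin 2) F := Matrix.GeneralLinearGroup.map τ.toRingHom E
  refine ⟨E * P' * E'⁻¹, τ, fun g => ?_⟩
  obtain ⟨A, rfl⟩ := Ψ.surjective g
  have h1 : θ (Ψ A) = Ψ (α A) := by simp [α]
  have h2 : (mat (Ψ A)).map τ = (E' : Matrix (Fin 2) (Fin 2) F) * (A.1.map τ₀).map ι *
      ((E'⁻¹ : GL (Fin 2) F) : Matrix (Fin 2) (Fin 2) F) := by
    rw [hΨ, show (E'⁻¹ : GL (Fin 2) F) = Matrix.GeneralLinearGroup.map τ.toRingHom E⁻¹ from (map_inv _ _).symm]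
    show (E.1 * A.1.map ι * (E⁻¹).1).map τ.toRingHom = _
    rw [Matrix.map_mul, Matrix.map_mul]
    congr 2
    ext i j
    exact hτ _
  have h3 := congrArg (fun B : Matrix (Fin 2) (Fin 2) Kf => B.map ι) (hαP A)
  simp only [Matrix.map_mul] at h3
  rw [h1, h2, hΨ]
  simp only [Units.val_mul, Matrix.mul_assoc]
  rw [Units.inv_mul_cancel_left, Units.inv_mul_cancel_left, ← Matrix.mul_assoc ((α A).1.map ι)]
  rw [show (P' : Matrix (Fin 2) (Fin 2) F) = P.1.map ι from rfl, h3, Matrix.mul_assoc]

theorem exists_torus_elt : ∃ a : F, a * cσ a = 1 ∧ a ≠ cσ a := by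
  obtain ⟨z, hz⟩ := (HS F q 2).exists_norm_ker_sq_ne_one
  have h1 : (z.1 : F) * cσ z.1 = 1 := congrArg Units.val (MonoidHom.mem_ker.mp z.2)
  exact ⟨z.1, h1, fun h => hz (by rw [sq]; nth_rw 2 [h]; exact h1)⟩

theorem ringAut_cb (τ : F ≃+* F) (x : F) : τ (cσ x) = cσ (τ x) := by
  rw [cb_apply, cb_apply, map_pow]

/-- Automorphisms stabilising the diagonal torus are diagonal times field automorphisms. -/
theorem exists_diag_field (θ : Cfsg.SU 2 F q ≃* Cfsg.SU 2 F q)
    (hT : ∀ a (h : a * cσ a + 0 * cσ 0 = 1), mat (θ (su2 a 0 h)) 1 0 = 0) :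
    ∃ (c : F) (τ : F ≃+* F), c * cσ c = 1 ∧
      ∀ g, mat (θ g) 0 0 = τ (mat g 0 0) ∧ mat (θ g) 1 0 = c * τ (mat g 1 0) := by
  obtain ⟨M, τ, hM⟩ := exists_conj_field θ
  obtain ⟨a, ha, hne⟩ := exists_torus_elt (F := F) (q := q)
  have ha' : a * cσ a + 0 * cσ 0 = 1 := by rw [zero_mul, add_zero, ha]
  set b := mat (θ (su2 a 0 ha')) 0 0 with hb
  have hθ : mat (θ (su2 a 0 ha')) = !![b, 0; 0, cσ b] := by
    rw [eq_su2 (θ (su2 a 0 ha')), mat_su2, hT a ha', map_zero, neg_zero]
  have h0 := hM (su2 a 0 ha')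
  rw [hθ, mat_su2] at h0
  have h00 := congrFun (congrFun h0 0) 0
  have h01 := congrFun (congrFun h0 0) 1
  have h10 := congrFun (congrFun h0 1) 0
  have h11 := congrFun (congrFun h0 1) 1
  simp [Matrix.mul_apply, Fin.sum_univ_two, ringAut_cb] at h00 h01 h10 h11
  have hτne : τ a ≠ cσ (τ a) := fun h => hne (τ.injective (h.trans (ringAut_cb τ a).symm))
  have hdet : M.1 0 0 * M.1 1 1 - M.1 0 1 * M.1 1 0 ≠ 0 := by
    have := (Matrix.GeneralLinearGroup.det M).ne_zero
    rwa [Matrix.GeneralLinearGroup.val_det_apply, Matrix.det_fin_two] at this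
  suffices key : ∃ (c : F) (τ' : F ≃+* F),
      ∀ g, mat (θ g) 0 0 = τ' (mat g 0 0) ∧ mat (θ g) 1 0 = c * τ' (mat g 1 0) by
    obtain ⟨c, τ', hk⟩ := key
    refine ⟨c, τ', ?_, hk⟩
    have h1 := su2_norm (θ (su2 (0 : F) 1 (by simp)))
    rw [(hk _).1, (hk _).2, mat_su2] at h1
    simpa using h1
  by_cases hm : M.1 0 0 = 0
  · rw [hm, zero_mul, zero_sub, neg_ne_zero] at hdet
    have hb' : b = cσ (τ a) := mul_right_cancel₀ (left_ne_zero_of_mul hdet) (by linear_combination h01)
    have h11' : M.1 1 1 = 0 := by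
      rw [hb', cb_cb] at h11
      by_contra h
      exact hτne (mul_right_cancel₀ h (by linear_combination h11))
    refine ⟨-(M.1 1 0 / M.1 0 1), (RingEquiv.ofBijective cσ
      (Finite.injective_iff_bijective.mp (cb F q).injective)).trans τ, fun g => ?_⟩
    have e := hM g
    rw [eq_su2 (θ g), mat_su2] at e
    have hg11 : mat g 1 1 = cσ (mat g 0 0) := by conv_lhs => rw [eq_su2 g, mat_su2]; simp
    have hg01 : mat g 0 1 = -cσ (mat g 1 0) := by conv_lhs => rw [eq_su2 g, mat_su2]; simp
    have e01 := congrFun (congrFun e 0) 1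
    have e11 := congrFun (congrFun e 1) 1
    simp [Matrix.mul_apply, Fin.sum_univ_two, hm, h11', hg11, hg01] at e01 e11
    have hM01 : M.1 0 1 ≠ 0 := left_ne_zero_of_mul hdet
    constructor
    · show _ = τ (cσ (mat g 0 0))
      exact mul_right_cancel₀ hM01 (by linear_combination e01)
    · show _ = -(M.1 1 0 / M.1 0 1) * τ (cσ (mat g 1 0))
      field_simp
      linear_combination e11
  · have hb' : b = τ a := mul_right_cancel₀ hm (by linear_combination h00)
    have h01' : M.1 0 1 = 0 := by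
      rw [hb'] at h01
      by_contra h
      exact hτne (mul_right_cancel₀ h (by linear_combination h01))
    have h10' : M.1 1 0 = 0 := by
      rw [hb'] at h10
      by_contra h
      exact hτne (mul_right_cancel₀ h (by linear_combination -h10))
    refine ⟨M.1 1 1 / M.1 0 0, τ, fun g => ?_⟩
    have e := hM g
    rw [eq_su2 (θ g), mat_su2] at e
    have hg11 : mat g 1 1 = cσ (mat g 0 0) := by conv_lhs => rw [eq_su2 g, mat_su2]; simp
    have hg01 : mat g 0 1 = -cσ (mat g 1 0) := by conv_lhs => rw [eq_su2 g, mat_su2]; simp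
    have e00 := congrFun (congrFun e 0) 0
    have e10 := congrFun (congrFun e 1) 0
    simp [Matrix.mul_apply, Fin.sum_univ_two, h01', h10'] at e00 e10
    constructor
    · exact mul_right_cancel₀ hm (by linear_combination e00)
    · field_simp
      linear_combination e10

end Cfsg.Lib.Known.Phan
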