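import Cfsg.Agent.Known.Phan.Vectors
import Cfsg.Agent.Known.Phan.SUTwoAut

/-! Diagonal-field automorphisms and the normalisation of two overlapping rank two maps. -/

set_option autoImplicit false
set_option linter.unusedSimpArgs false
set_option linter.unusedSectionVars false
set_option linter.style.haveILetI false

namespace Cfsg.Lib.Known.Phan

open Matrix

universe u v

variable {F : Type u} [Field F] [Fintype F] {q : ℕ} [hF : Fact (Fintype.card F = q ^ 2)]

local notation "cσ" => cb F q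

/-- A torus element of order at least four. -/
theorem exists_torus_big (hq : 3 ≤ q) : ∃ a : F, a * cσ a = 1 ∧ a ≠ 1 ∧ a ≠ cσ a ∧ a ^ 3 ≠ 1 := by
  classical
  have hσ : Cfsg.Lib.Classical.IsConj (cb F q) := conjF
  haveI : IsCyclic (Cfsg.Lib.Classical.normUnits (cb F q)).ker := Subgroup.isCyclic _
  obtain ⟨z, hz⟩ := IsCyclic.exists_generator (α := (Cfsg.Lib.Classical.normUnits (cb F q)).ker)
  have hord : orderOf z = q + 1 := by
    rw [orderOf_eq_card_of_forall_mem_zpowers hz, hσ.card_norm_ker,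
      show Nat.card (Cfsg.Lib.Classical.fixedField (cb F q)) = q from
        (Cfsg.Lib.Classical.exists_conj_pow hF.out).choose_spec.2.2]
  have h1 : (z.1 : F) * cσ z.1 = 1 := congrArg Units.val (MonoidHom.mem_ker.mp z.2)
  have key : ∀ k : ℕ, 0 < k → k < 4 → (z.1 : F) ^ k ≠ 1 := fun k hk0 hk h => by
    have h2 : z ^ k = 1 := Subtype.ext (Units.ext (by simpa using h))
    have := Nat.le_of_dvd hk0 (orderOf_dvd_of_pow_eq_one h2)
    omega
  refine ⟨z.1, h1, fun h => key 1 one_pos (by norm_num) (by rw [pow_one]; exact h), fun h => ?_,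
    key 3 (by norm_num) (by norm_num)⟩
  exact key 2 (by norm_num) (by norm_num) (by rw [sq]; nth_rw 2 [h]; exact h1)

variable {N : ℕ}

/-- The matrix of a diagonal times field automorphism. -/
noncomputable def dfMat (d : Fin N → F) (τ : F ≃+* F) (A : Matrix (Fin N) (Fin N) F) : Matrix (Fin N) (Fin N) F :=
  Matrix.diagonal d * A.map τ * Matrix.diagonal fun i => cb F q (d i)

theorem dfMat_apply (d : Fin N → F) (τ : F ≃+* F) (A : Matrix (Fin N) (Fin N) F) (i j : Fin N) :
    dfMat (q := q) d τ A i j = d i * τ (A i j) * cσ (d j) := by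
  simp [dfMat, Matrix.diagonal_mul, Matrix.mul_diagonal]

/-- Conjugation by a diagonal unitary matrix composed with a field automorphism. -/
noncomputable def dfield (d : Fin N → F) (hd : ∀ i, d i * cσ (d i) = 1) (τ : F ≃+* F) :
    Cfsg.SU N F q →* Cfsg.SU N F q where
  toFun g := ⟨⟨dfMat (q := q) d τ (mat g), by
    have h0 : Matrix.det ((mat g).map τ) = 1 := by
      rw [show (mat g).map τ = τ.toRingHom.mapMatrix (mat g) from rfl, ← RingHom.map_det,
        show (mat g).det = 1 from (g : Matrix.SpecialLinearGroup (Fin N) F).2, map_one]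
    rw [dfMat, Matrix.det_mul, Matrix.det_mul, h0, Matrix.det_diagonal, Matrix.det_diagonal, mul_one,
      ← Finset.prod_mul_distrib]
    exact Finset.prod_eq_one fun i _ => hd i⟩, by
    intro u v
    change Cfsg.hermForm N F q (dfMat (q := q) d τ (mat g) *ᵥ u) (dfMat (q := q) d τ (mat g) *ᵥ v) = _
    have key : ∀ x : Fin N → F, dfMat (q := q) d τ (mat g) *ᵥ x =
        fun i => d i * τ (act g (fun j => τ.symm (cσ (d j) * x j)) i) := by
      intro x
      funext i
      simp only [Matrix.mulVec, dotProduct, dfMat_apply, act, map_sum, map_mul, τ.apply_symm_apply,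
        Finset.mul_sum]
      exact Finset.sum_congr rfl fun j _ => by ring
    rw [key, key, ← Cfsg.Lib.Classical.stdHerm_h hF.out, ← Cfsg.Lib.Classical.stdHerm_h hF.out, hs_h, hs_h]
    have h0 := act_h g (fun j => τ.symm (cσ (d j) * u j)) (fun j => τ.symm (cσ (d j) * v j))
    generalize act g (fun j => τ.symm (cσ (d j) * u j)) = A at h0 ⊢
    generalize act g (fun j => τ.symm (cσ (d j) * v j)) = B at h0 ⊢
    rw [hs_h, hs_h] at h0
    have h1 := congrArg τ h0
    simp only [map_sum, map_mul, ringAut_cb, τ.apply_symm_apply] at h1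
    refine Eq.trans (Finset.sum_congr rfl fun i _ => ?_) (h1.trans (Finset.sum_congr rfl fun i _ => ?_))
    · rw [map_mul]
      linear_combination (τ (A i) * cσ (τ (B i))) * hd i
    · rw [cb_cb]
      linear_combination (u i * cσ (v i)) * hd i⟩
  map_one' := Subtype.ext (Subtype.ext (by
    show dfMat (q := q) d τ 1 = 1
    ext i j
    rw [dfMat_apply, Matrix.one_apply]
    rcases eq_or_ne i j with rfl | h
    · rw [if_pos rfl, map_one, mul_one, hd]
    · rw [if_neg h, map_zero, mul_zero, zero_mul]))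
  map_mul' g k := Subtype.ext (Subtype.ext (by
    show dfMat (q := q) d τ (mat g * mat k) = dfMat (q := q) d τ (mat g) * dfMat (q := q) d τ (mat k)
    ext i j
    simp only [Matrix.mul_apply, dfMat_apply, map_sum, map_mul, Finset.mul_sum, Finset.sum_mul]
    refine Finset.sum_congr rfl fun l _ => ?_
    linear_combination -(d i * τ (mat g i l) * τ (mat k l j) * cσ (d j)) * hd l))

theorem mat_dfield (d : Fin N → F) (hd : ∀ i, d i * cσ (d i) = 1) (τ : F ≃+* F) (g : Cfsg.SU N F q)
    (i j : Fin N) : mat (dfield d hd τ g) i j = d i * τ (mat g i j) * cσ (d j) := dfMat_apply d τ (mat g) i j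

theorem dfield_bijective (d : Fin N → F) (hd : ∀ i, d i * cσ (d i) = 1) (τ : F ≃+* F) :
    Function.Bijective (dfield (q := q) d hd τ) := by
  haveI : Finite (Matrix.SpecialLinearGroup (Fin N) F) := Subtype.finite
  refine Finite.injective_iff_bijective.mp fun g k h => Subtype.ext (Subtype.ext ?_)
  ext i j
  have := congrArg (fun x => mat x i j) h
  simp only [mat_dfield] at this
  have h0 : ∀ l, d l ≠ 0 := fun l e => by simpa [e] using hd l
  exact τ.injective (mul_left_cancel₀ (h0 i) (mul_right_cancel₀ (fun e => h0 j (cb_eq_zero.mp e)) this))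

theorem dfield_blk {k : ℕ} (κ : Fin k ↪ Fin N) (d : Fin N → F) (hd : ∀ i, d i * cσ (d i) = 1) (τ : F ≃+* F)
    (g : Cfsg.SU k F q) : dfield d hd τ (blk κ g) = blk κ (dfield (d ∘ κ) (fun i => hd (κ i)) τ g) := by
  refine Subtype.ext (Subtype.ext ?_)
  show dfMat (q := q) d τ (blkMat κ (mat g)) = blkMat κ (dfMat (q := q) (d ∘ κ) τ (mat g))
  ext i j
  obtain ⟨a, rfl⟩ := (splitEquiv κ).surjective i
  obtain ⟨b, rfl⟩ := (splitEquiv κ).surjective j
  rw [dfMat_apply, blkMat, blkMat, Matrix.reindex_apply, Matrix.reindex_apply, Matrix.submatrix_apply,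
    Matrix.submatrix_apply, Equiv.symm_apply_apply, Equiv.symm_apply_apply]
  rcases a with a | a <;> rcases b with b | b
  · simp [splitEquiv_inl, dfMat_apply]
  · simp
  · simp
  · rw [splitEquiv_inr, splitEquiv_inr, Matrix.fromBlocks_apply₂₂, Matrix.fromBlocks_apply₂₂, Matrix.one_apply]
    rcases eq_or_ne a b with rfl | h
    · rw [if_pos rfl, map_one, mul_one, hd]
    · rw [if_neg h, map_zero, mul_zero, zero_mul]

/-- The effect on the standard elements of rank one. -/
theorem dfield_su2 (d : Fin 2 → F) (hd : ∀ i, d i * cσ (d i) = 1) (τ : F ≃+* F) (g : Cfsg.SU 2 F q) :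
    mat (dfield d hd τ g) 0 0 = τ (mat g 0 0) ∧
      mat (dfield d hd τ g) 1 0 = d 1 * cσ (d 0) * τ (mat g 1 0) := by
  constructor
  · rw [mat_dfield]; linear_combination τ (mat g 0 0) * hd 0
  · rw [mat_dfield]; ring

theorem su2_ext {g k : Cfsg.SU 2 F q} (h0 : mat g 0 0 = mat k 0 0) (h1 : mat g 1 0 = mat k 1 0) : g = k := by
  rw [eq_su2 g, eq_su2 k]
  simp [h0, h1]

/-- Central elements of `SU 3` are scalar. -/
theorem central_scalar (hq : 3 ≤ q) {z : Cfsg.SU 3 F q} (hz : z ∈ Subgroup.center (Cfsg.SU 3 F q)) :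
    ∃ l : F, l ^ 3 = 1 ∧ ∀ v, act z v = l • v := by
  obtain ⟨a, ha, ha1, hane, -⟩ := exists_torus_big (F := F) hq
  have ha' : a * cσ a + 0 * cσ 0 = 1 := by rw [zero_mul, add_zero, ha]
  have hw : (0 : F) * cσ 0 + 1 * cσ 1 = 1 := by simp
  have hb1 : cσ a ≠ 1 := fun h => ha1 (by rw [← cb_cb (q := q) a, h, map_one])
  have eD : mat (blk κ01 (su2 a 0 ha')) = !![a, 0, 0; 0, cσ a, 0; 0, 0, 1] := by
    ext i j
    have e : mat (blk κ01 (su2 a 0 ha')) i j = act (blk κ01 (su2 a 0 ha')) (ev j) i := by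
      rw [act, ev, Matrix.mulVec_single_one]; rfl
    rw [e]
    fin_cases j
    · rw [show ((⟨0, _⟩ : Fin 3)) = κ01 0 from rfl, blk_ev, act_su2_zero]
      fin_cases i
      · exact pad_mem κ01 _ 0
      · exact pad_mem κ01 _ 1
      · exact pad_notMem κ01 _ κ01_two
    · rw [show ((⟨1, _⟩ : Fin 3)) = κ01 1 from rfl, blk_ev, act_su2_one]
      fin_cases i
      · refine (pad_mem κ01 _ 0).trans ?_; simp [κ01]
      · exact pad_mem κ01 _ 1
      · exact pad_notMem κ01 _ κ01_two
    · rw [show ((⟨2, _⟩ : Fin 3)) = (2 : Fin 3) from rfl, blk_fix _ _ κ01_two]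
      fin_cases i <;> simp [ev]
  have hc := congrArg mat (Subgroup.mem_center_iff.mp hz (blk κ01 (su2 a 0 ha')))
  have hc' : mat (blk κ01 (su2 a 0 ha')) * mat z = mat z * mat (blk κ01 (su2 a 0 ha')) := hc
  rw [eD] at hc'
  have e01 := congrFun (congrFun hc' 0) 1
  have e02 := congrFun (congrFun hc' 0) 2
  have e10 := congrFun (congrFun hc' 1) 0
  have e12 := congrFun (congrFun hc' 1) 2
  have e20 := congrFun (congrFun hc' 2) 0
  have e21 := congrFun (congrFun hc' 2) 1
  simp [Matrix.mul_apply, Fin.sum_univ_three] at e01 e02 e10 e12 e20 e21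
  have nz : ∀ {x y w : F}, x ≠ y → x * w = w * y → w = 0 := fun {x y w} hxy h => by
    have : (x - y) * w = 0 := by linear_combination h
    exact (mul_eq_zero.mp this).resolve_left (sub_ne_zero.mpr hxy)
  have z01 : mat z 0 1 = 0 := nz hane e01
  have z02 : mat z 0 2 = 0 := nz ha1 (by rw [mul_one]; exact e02)
  have z10 : mat z 1 0 = 0 := nz hane.symm e10
  have z12 : mat z 1 2 = 0 := nz hb1 (by rw [mul_one]; exact e12)
  have z20 : mat z 2 0 = 0 := nz ha1.symm (by rw [one_mul]; exact e20)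
  have z21 : mat z 2 1 = 0 := nz hb1.symm (by rw [one_mul]; exact e21)
  have hfix : ∀ j, act z (ev j) = mat z j j • ev j := fun j => by
    rw [act, ev, Matrix.mulVec_single_one]
    funext i
    fin_cases j <;> fin_cases i <;> simp [z01, z02, z10, z12, z20, z21]
  have swp : ∀ (κ : Fin 2 ↪ Fin 3), mat z (κ 0) (κ 0) = mat z (κ 1) (κ 1) := fun κ => by
    have h := congrArg (fun k => act k (ev (κ 0))) (Subgroup.mem_center_iff.mp hz (blk κ (su2 0 1 hw)))
    simp only [act_mul] at h
    have e : act (blk κ (su2 (0 : F) 1 hw)) (ev (κ 0)) = ev (κ 1) := by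
      rw [blk_ev, act_su2_zero, show ![(0 : F), 1] = ev 1 from by funext i; fin_cases i <;> simp [ev], pad_ev]
    rw [hfix, act_smul, e, hfix] at h
    simpa [ev] using congrFun h (κ 1)
  have h01 : mat z 0 0 = mat z 1 1 := swp κ01
  have h12 : mat z 1 1 = mat z 2 2 := swp κ12
  have hd := (z : Matrix.SpecialLinearGroup (Fin 3) F).2
  rw [Matrix.det_fin_three] at hd
  refine ⟨mat z 0 0, ?_, fun v => ?_⟩
  · change mat z 0 0 * mat z 1 1 * mat z 2 2 - _ - _ + _ + _ - _ = 1 at hd
    simp only [z01, z02, z10, z12, z20, z21] at hd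
    rw [← h12, ← h01] at hd
    linear_combination hd
  · funext i
    rw [act, Matrix.mulVec, dotProduct, Fin.sum_univ_three, Pi.smul_apply, smul_eq_mul]
    fin_cases i <;> simp [z01, z02, z10, z12, z20, z21, ← h01, ← h12]

variable {G : Type v} [Group G]

/-- A rank two map. -/
structure Edge (f : Cfsg.SU 3 F q →* G) (U W : Subgroup G) : Prop where
  left : (f.comp (blk κ01)).range = U
  right : (f.comp (blk κ12)).range = W
  injl : Function.Injective (f.comp (blk κ01))
  injr : Function.Injective (f.comp (blk κ12))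
  ker : f.ker ≤ Subgroup.center (Cfsg.SU 3 F q)

/-- Block elements normalising the other block are diagonal. -/
theorem normalising_diag (hq : 3 ≤ q) {f : Cfsg.SU 3 F q →* G} (hker : f.ker ≤ Subgroup.center (Cfsg.SU 3 F q))
    (x : Cfsg.SU 2 F q) (hx : ∀ y, ∃ y', f (blk κ01 x) * f (blk κ12 y) * (f (blk κ01 x))⁻¹ = f (blk κ12 y')) :
    mat x 1 0 = 0 := by
  by_contra hp
  obtain ⟨a, ha, ha1, hane, ha3⟩ := exists_torus_big (F := F) hq
  have ha' : a * cσ a + 0 * cσ 0 = 1 := by rw [zero_mul, add_zero, ha]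
  obtain ⟨y', hy'⟩ := hx (su2 a 0 ha')
  rw [← map_mul, ← map_inv, ← map_mul] at hy'
  set g := blk κ01 x * blk κ12 (su2 a 0 ha') * (blk κ01 x)⁻¹ with hg
  obtain ⟨l, hl3, hl⟩ := central_scalar hq (z := (blk κ12 y')⁻¹ * g) (hker (by
    rw [MonoidHom.mem_ker, map_mul, map_inv, hy', inv_mul_cancel]))
  have hge : act g (ev 0) = l • ev 0 := by
    rw [show g = blk κ12 y' * ((blk κ12 y')⁻¹ * g) from (mul_inv_cancel_left _ _).symm, act_mul, hl, act_smul,
      blk_fix _ _ κ12_zero]
  set u : Fin 3 → F := act (blk κ01 x)⁻¹ (ev 0) with hu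
  have heig : act (blk κ12 (su2 a 0 ha')) u = l • u := by
    have := congrArg (act (blk κ01 x)⁻¹) hge
    rwa [hg, act_mul, act_mul, act_inv_act, act_smul, ← hu] at this
  have hu1 : u 1 = -mat x 1 0 := by
    rw [hu, ← map_inv, show (0 : Fin 3) = κ01 0 from rfl, blk_ev]
    refine (pad_mem κ01 _ 1).trans ?_
    rw [act, ev, Matrix.mulVec_single_one]
    show mat x⁻¹ 1 0 = _
    rw [show mat x⁻¹ = (mat x).adjugate from Matrix.SpecialLinearGroup.coe_inv _, Matrix.adjugate_fin_two]
    simp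
  have hl1 : l = a := by
    have h := congrFun heig 1
    rw [show (1 : Fin 3) = κ12 0 from rfl, blk_apply_mem, Pi.smul_apply, smul_eq_mul] at h
    rw [act, mat_su2, Matrix.mulVec, dotProduct, Fin.sum_univ_two] at h
    simp at h
    rw [show κ12 0 = (1 : Fin 3) from rfl, hu1] at h
    rcases h with h | h
    · exact h.symm
    · exact absurd h (neg_ne_zero.mpr hp)
  exact ha3 (hl1 ▸ hl3)

/-- Two overlapping maps can be made to agree. -/
theorem exists_agree (hq : 3 ≤ q) {f f' : Cfsg.SU 3 F q →* G} {U W X : Subgroup G} (hf : Edge f U W)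
    (hf' : Edge f' W X) (hc : ∀ u ∈ U, ∀ x ∈ X, Commute u x) :
    ∃ f'' : Cfsg.SU 3 F q →* G, Edge f'' W X ∧ f''.comp (blk κ01) = f.comp (blk κ12) := by
  classical
  let e1 : Cfsg.SU 2 F q ≃* W := (MonoidHom.ofInjective hf.injr).trans (MulEquiv.subgroupCongr hf.right)
  let e2 : Cfsg.SU 2 F q ≃* W := (MonoidHom.ofInjective hf'.injl).trans (MulEquiv.subgroupCongr hf'.left)
  let θ := e2.trans e1.symm
  have hθ : ∀ x, f (blk κ12 (θ x)) = f' (blk κ01 x) := fun x =>
    congrArg Subtype.val (e1.apply_symm_apply (e2 x))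
  obtain ⟨c, hc1, -, hcne, -⟩ := exists_torus_big (F := F) hq
  have hc' : c * cσ c + 0 * cσ 0 = 1 := by rw [zero_mul, add_zero, hc1]
  have hT : ∀ a (h : a * cσ a + 0 * cσ 0 = 1), mat (θ (su2 a 0 h)) 1 0 = 0 := by
    intro a h
    set t := su2 a 0 h with ht
    set M := θ t with hM
    set m := mat M 0 0 with hm
    set p := mat M 1 0 with hp
    have hn : m * cσ m + (c * p) * cσ (c * p) = 1 := by
      rw [map_mul]; linear_combination su2_norm M + (p * cσ p) * hc1
    set M' := su2 m (c * p) hn with hM'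
    have hd : ∀ i, (![c, cσ c, 1] : Fin 3 → F) i * cσ ((![c, cσ c, 1] : Fin 3 → F) i) = 1 := by
      intro i; fin_cases i
      · exact hc1
      · simp [cb_cb, mul_comm, hc1]
      · simp
    have econj : blk κ01 (su2 c 0 hc') * blk κ12 M * (blk κ01 (su2 c 0 hc'))⁻¹ = blk κ12 M' := by
      have e2 : dfield ![c, cσ c, 1] hd (RingEquiv.refl F) (blk κ12 M) = blk κ12 M' := by
        rw [dfield_blk]
        congr 1
        obtain ⟨h0, h1⟩ := dfield_su2 (![c, cσ c, 1] ∘ κ12) (fun i => hd (κ12 i)) (RingEquiv.refl F) M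
        refine su2_ext (h0.trans ?_) (h1.trans ?_)
        · rw [hM', mat_su2]; rfl
        · rw [hM', mat_su2]
          show (![c, cσ c, 1] : Fin 3 → F) 2 * cσ ((![c, cσ c, 1] : Fin 3 → F) 1) * mat M 1 0 = c * p
          simp [cb_cb, ← hp]
      rw [← e2, mul_inv_eq_iff_eq_mul]
      refine Subtype.ext (Subtype.ext ?_)
      show mat (blk κ01 (su2 c 0 hc')) * mat (blk κ12 M) =
        dfMat (q := q) ![c, cσ c, 1] (RingEquiv.refl F) (mat (blk κ12 M)) * mat (blk κ01 (su2 c 0 hc'))
      have eD : mat (blk κ01 (su2 c 0 hc')) = Matrix.diagonal ![c, cσ c, 1] := by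
        ext i j
        have e : mat (blk κ01 (su2 c 0 hc')) i j = act (blk κ01 (su2 c 0 hc')) (ev j) i := by
          rw [act, ev, Matrix.mulVec_single_one]; rfl
        rw [e]
        fin_cases j
        · rw [show ((⟨0, _⟩ : Fin 3)) = κ01 0 from rfl, blk_ev, act_su2_zero]
          fin_cases i
          · exact pad_mem κ01 _ 0
          · exact pad_mem κ01 _ 1
          · exact pad_notMem κ01 _ κ01_two
        · rw [show ((⟨1, _⟩ : Fin 3)) = κ01 1 from rfl, blk_ev, act_su2_one]
          fin_cases i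
          · refine (pad_mem κ01 _ 0).trans ?_; simp [κ01]
          · exact pad_mem κ01 _ 1
          · exact pad_notMem κ01 _ κ01_two
        · rw [show ((⟨2, _⟩ : Fin 3)) = (2 : Fin 3) from rfl, blk_fix _ _ κ01_two]
          fin_cases i <;> simp [ev]
      rw [eD]
      ext i j
      rw [Matrix.diagonal_mul, Matrix.mul_diagonal, dfMat_apply, RingEquiv.refl_apply]
      linear_combination -((![c, cσ c, 1] : Fin 3 → F) i * mat (blk κ12 M) i j) * hd j
    -- the transported element normalises the far block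
    obtain ⟨x, hx⟩ := θ.surjective M'
    have hnorm : ∀ y, ∃ y', f' (blk κ01 x) * f' (blk κ12 y) * (f' (blk κ01 x))⁻¹ = f' (blk κ12 y') := by
      intro y
      have hcom : ∀ z, Commute (f (blk κ01 (su2 c 0 hc'))) (f' (blk κ12 z)) := fun z =>
        hc _ (hf.left.le ⟨_, rfl⟩) _ (hf'.right.le ⟨z, rfl⟩)
      obtain ⟨z, hz⟩ : ∃ z, f' (blk κ01 t) * f' (blk κ12 y) * (f' (blk κ01 t))⁻¹ = f' (blk κ12 z) := by
        obtain ⟨hd', he⟩ : ∃ z, blk κ01 t * blk κ12 y * (blk κ01 t)⁻¹ = blk κ12 z := by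
          obtain ⟨z, hz⟩ := exists_blk κ12 (g := blk κ01 t * blk κ12 y * (blk κ01 t)⁻¹) (fun j hj => by
            have hj0 : j = 0 := by fin_cases j <;> simp_all [range_κ12]
            subst hj0
            have h0 : act (blk κ01 t) (ev 0) = a • ev 0 := by
              rw [ht, blk01_ev0]; funext i; fin_cases i <;> simp [ev]
            have h1 : act (blk κ01 t)⁻¹ (ev 0) = cσ a • ev 0 := by
              refine act_inv_eq ?_
              rw [act_smul, h0, smul_smul]
              have haa : a * cσ a = 1 := by simpa using h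
              rw [mul_comm, haa, one_smul]
            rw [act_mul, act_mul, h1, act_smul, blk_fix _ _ κ12_zero, act_smul, h0, smul_smul]
            have haa : a * cσ a = 1 := by simpa using h
            rw [mul_comm, haa, one_smul])
          exact ⟨z, hz.symm⟩
        exact ⟨hd', by rw [← map_mul, ← map_inv, ← map_mul, he]⟩
      refine ⟨z, ?_⟩
      have e : f' (blk κ01 x) = f (blk κ01 (su2 c 0 hc')) * f' (blk κ01 t) * (f (blk κ01 (su2 c 0 hc')))⁻¹ := by
        rw [← hθ, hx, ← econj, map_mul, map_mul, map_inv, hθ]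
      rw [e]
      have c1 := hcom z
      have c2 := hcom y
      calc f (blk κ01 (su2 c 0 hc')) * f' (blk κ01 t) * (f (blk κ01 (su2 c 0 hc')))⁻¹ * f' (blk κ12 y) *
            (f (blk κ01 (su2 c 0 hc')) * f' (blk κ01 t) * (f (blk κ01 (su2 c 0 hc')))⁻¹)⁻¹
          = f (blk κ01 (su2 c 0 hc')) * (f' (blk κ01 t) * ((f (blk κ01 (su2 c 0 hc')))⁻¹ * f' (blk κ12 y) *
              f (blk κ01 (su2 c 0 hc'))) * (f' (blk κ01 t))⁻¹) * (f (blk κ01 (su2 c 0 hc')))⁻¹ := by group
        _ = f' (blk κ12 z) := by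
          rw [show (f (blk κ01 (su2 c 0 hc')))⁻¹ * f' (blk κ12 y) * f (blk κ01 (su2 c 0 hc')) = f' (blk κ12 y) by
            rw [mul_assoc, ← c2.eq, inv_mul_cancel_left], hz, c1.eq, mul_inv_cancel_right]
    have hx0 := normalising_diag hq hf'.ker x hnorm
    -- commuting forces the lower entry to vanish
    have hcomm : x * t = t * x := by
      rw [eq_su2 x]
      refine su2_ext ?_ ?_ <;>
        simp [show ∀ g k : Cfsg.SU 2 F q, mat (g * k) = mat g * mat k from fun _ _ => rfl, Matrix.mul_apply,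
          Fin.sum_univ_two, mat_su2, hx0, ht, mul_comm]
    have h2 := congrArg θ hcomm
    rw [map_mul, map_mul, hx, ← hM] at h2
    have h3 := congrArg (fun g => mat g 0 0) h2
    simp only [show ∀ g k : Cfsg.SU 2 F q, mat (g * k) = mat g * mat k from fun _ _ => rfl, Matrix.mul_apply,
      Fin.sum_univ_two, hM', mat_su2] at h3
    have hM01 : mat M 0 1 = -cσ p := by conv_lhs => rw [eq_su2 M, mat_su2]; simp [← hp]
    simp [← hm, ← hp, hM01] at h3
    have h4 : p * cσ p * (cσ c - c) = 0 := by linear_combination h3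
    rcases mul_eq_zero.mp h4 with h5 | h5
    · rcases mul_eq_zero.mp h5 with h6 | h6
      · exact h6
      · exact cb_eq_zero.mp h6
    · exact absurd (sub_eq_zero.mp h5).symm hcne
  obtain ⟨b, τ, hb, hshape⟩ := exists_diag_field θ hT
  set d : Fin 3 → F := ![cσ b, 1, 1] with hd
  have hdn : ∀ i, d i * cσ (d i) = 1 := by
    intro i; fin_cases i
    · simp [hd, cb_cb, mul_comm, hb]
    · simp [hd]
    · simp [hd]
  let Θ := MulEquiv.ofBijective (dfield d hdn τ) (dfield_bijective d hdn τ)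
  have hΘ01 : ∀ x, Θ (blk κ01 x) = blk κ01 (θ x) := fun x => by
    show dfield d hdn τ (blk κ01 x) = _
    rw [dfield_blk]
    congr 1
    obtain ⟨h0, h1⟩ := dfield_su2 (d ∘ κ01) (fun i => hdn (κ01 i)) τ x
    refine su2_ext (h0.trans (hshape x).1.symm) (h1.trans ?_)
    rw [(hshape x).2, show (d ∘ κ01) 1 = 1 from rfl, show (d ∘ κ01) 0 = cσ b from rfl, cb_cb, one_mul]
  let f'' := f'.comp Θ.symm.toMonoidHom
  have h01 : f''.comp (blk κ01) = f.comp (blk κ12) := MonoidHom.ext fun y => by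
    obtain ⟨x, rfl⟩ := θ.surjective y
    show f' (Θ.symm (blk κ01 (θ x))) = f (blk κ12 (θ x))
    rw [← hΘ01, Θ.symm_apply_apply, hθ]
  let Θ2 := MulEquiv.ofBijective (dfield (d ∘ κ12) (fun i => hdn (κ12 i)) τ) (dfield_bijective _ _ τ)
  have h12 : ∀ y, f'' (blk κ12 (Θ2 y)) = f' (blk κ12 y) := fun y => by
    show f' (Θ.symm (blk κ12 (Θ2 y))) = _
    rw [show blk κ12 (Θ2 y) = Θ (blk κ12 y) from (dfield_blk κ12 d hdn τ y).symm, Θ.symm_apply_apply]
  refine ⟨f'', ⟨by rw [h01, hf.right], ?_, by rw [h01]; exact hf.injr, ?_, ?_⟩, h01⟩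
  · rw [← hf'.right]
    refine le_antisymm ?_ ?_
    · rintro _ ⟨y, rfl⟩; exact ⟨Θ2.symm y, by simpa using (h12 (Θ2.symm y)).symm⟩
    · rintro _ ⟨y, rfl⟩; exact ⟨Θ2 y, h12 y⟩
  · intro y y' h
    obtain ⟨z, rfl⟩ := Θ2.surjective y
    obtain ⟨z', rfl⟩ := Θ2.surjective y'
    exact congrArg Θ2 (hf'.injr ((h12 z).symm.trans (h.trans (h12 z'))))
  · intro z hz
    have := Subgroup.mem_center_iff.mp (hf'.ker (show Θ.symm z ∈ f'.ker from hz))
    refine Subgroup.mem_center_iff.mpr fun g => Θ.symm.injective ?_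
    rw [map_mul, map_mul]
    exact this _

end Cfsg.Lib.Known.Phan
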