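import Cfsg.Agent.Known.Phan.Glue
import Cfsg.Agent.Known.Phan.Normal

/-! Generation by rank one blocks, compatible chains, and the inductive construction. -/

set_option autoImplicit false
set_option linter.unusedSimpArgs false
set_option linter.unusedSectionVars false
set_option linter.style.haveILetI false

namespace Cfsg.Lib.Known.Phan

open Matrix

universe u v

variable {F : Type u} [Field F] [Fintype F] {q : ℕ} [hF : Fact (Fintype.card F = q ^ 2)]

local notation "cσ" => cb F q

/-- `SU 3` is generated by its two rank one blocks. -/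
theorem gen_three (hq : 3 ≤ q) (S : Subgroup (Cfsg.SU 3 F q)) (h01 : (blk κ01).range ≤ S)
    (h12 : (blk κ12).range ≤ S) : S = ⊤ := by
  have hfix : ∀ k : Cfsg.SU 3 F q, act k (ev 0) = ev 0 → k ∈ S := fun k hk => by
    refine h12 (exists_blk κ12 fun j hj => ?_)
    have hj0 : j = 0 := by fin_cases j <;> simp_all [range_κ12]
    rw [hj0, hk]
  suffices hv : ∀ v : Fin 3 → F, (HS F q 3).h v v = 1 → ∃ g ∈ S, act g (ev 0) = v by
    refine (Subgroup.eq_top_iff' S).mpr fun k => ?_
    obtain ⟨g, hg, hgv⟩ := hv (act k (ev 0)) (by rw [act_h, ev_ev, if_pos rfl])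
    have := hfix (g⁻¹ * k) (by rw [act_mul]; exact act_inv_eq hgv)
    have h := mul_mem hg this
    rwa [mul_inv_cancel_left] at h
  have good : ∀ v : Fin 3 → F, (HS F q 3).h v v = 1 → v 0 * cσ (v 0) ≠ 1 → ∃ g ∈ S, act g (ev 0) = v := by
    intro v hv hne
    rw [hs_h, Fin.sum_univ_three] at hv
    obtain ⟨c, hc⟩ := (conjF (F := F) (q := q)).norm_surjective (a := v 1 * cσ (v 1) + v 2 * cσ (v 2))
      (by simp only [map_add, map_mul, cb_cb]; ring)
    have hc0 : c * cσ c ≠ 0 := by rw [hc]; intro h; exact hne (by linear_combination hv - h)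
    have hcne : c ≠ 0 := fun h => hc0 (by rw [h, zero_mul])
    have hσc : cσ c ≠ 0 := fun h => hcne (cb_eq_zero.mp h)
    have hn1 : v 0 * cσ (v 0) + c * cσ c = 1 := by rw [hc]; linear_combination hv
    have hn2 : (v 1 / c) * cσ (v 1 / c) + (v 2 / c) * cσ (v 2 / c) = 1 := by
      rw [map_div₀, map_div₀]; field_simp; linear_combination -hc
    refine ⟨blk κ12 (su2 _ _ hn2) * blk κ01 (su2 _ _ hn1), mul_mem (h12 ⟨_, rfl⟩) (h01 ⟨_, rfl⟩), ?_⟩
    have e : act (blk κ01 (su2 _ _ hn1)) (ev 0) = v 0 • ev 0 + c • (ev 1 : Fin 3 → F) := by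
      rw [blk01_ev0]; funext i; fin_cases i <;> simp [ev]
    rw [act_mul, e, act_add, act_smul, act_smul, blk_fix _ _ κ12_zero, blk12_ev1]
    funext i
    fin_cases i <;> simp [ev]
    · field_simp
    · field_simp
  have hswap : ∀ v : Fin 3 → F, (HS F q 3).h v v = 1 → v 1 * cσ (v 1) ≠ 1 → ∃ g ∈ S, act g (ev 0) = v := by
    intro v hv hne
    have hn : (0 : F) * cσ 0 + 1 * cσ 1 = 1 := by simp
    obtain ⟨g, hg, e⟩ := good (act (blk κ01 (su2 0 1 hn)) v) (by rw [act_h]; exact hv) (by
      rw [show (0 : Fin 3) = κ01 0 from rfl, blk_apply_mem, act, mat_su2]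
      simpa [Matrix.mulVec, dotProduct, Fin.sum_univ_two, κ01] using hne)
    exact ⟨(blk κ01 (su2 0 1 hn))⁻¹ * g, mul_mem (inv_mem (h01 ⟨_, rfl⟩)) hg, by rw [act_mul, e, act_inv_act]⟩
  intro v hv
  by_cases h0 : v 0 * cσ (v 0) = 1
  swap
  · exact good v hv h0
  by_cases h1 : v 1 * cσ (v 1) = 1
  swap
  · exact hswap v hv h1
  set r : Fin 2 → F := ![cσ (v 1), cσ (v 2)] with hr
  have hrr : (HS F q 2).h r r = 0 := by
    rw [hs_h, Fin.sum_univ_two]
    rw [hs_h, Fin.sum_univ_three] at hv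
    simp [hr, cb_cb]
    linear_combination hv - h0
  have hzr : (HS F q 2).h (ev 0) r = v 1 := by rw [ev_h]; simp [hr, cb_cb]
  obtain ⟨c, d, hc0, hc1, hn, hcr⟩ := adjust (q := q) hq (z := ev 0) (by rw [ev_ev, if_pos rfl]) hrr
    (by rw [hzr]; intro h; rw [h, zero_mul] at h1; exact zero_ne_one h1)
  set u := c • ev 0 + d • r with hu
  have hu1 : u 0 * v 1 + u 1 * v 2 = c * v 1 := by
    have e := hcr
    rw [hzr, hs_h, Fin.sum_univ_two] at e
    simpa [hr, cb_cb] using e
  have hnorm : cσ (u 0) * cσ (cσ (u 0)) + cσ (u 1) * cσ (cσ (u 1)) = 1 := by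
    rw [hs_h, Fin.sum_univ_two] at hn
    rw [cb_cb, cb_cb]
    linear_combination hn
  -- the inverse moves `v` to a vector with small second coordinate
  have hkey : act (blk κ12 (su2 _ _ hnorm))⁻¹ v 1 = c * v 1 := by
    rw [← map_inv, show (1 : Fin 3) = κ12 0 from rfl, blk_apply_mem, act,
      show mat (su2 _ _ hnorm)⁻¹ = (mat (su2 _ _ hnorm)).adjugate from Matrix.SpecialLinearGroup.coe_inv _,
      mat_su2, Matrix.adjugate_fin_two_of]
    simp [Matrix.mulVec, dotProduct, Fin.sum_univ_two, cb_cb, κ12]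
    exact hu1
  obtain ⟨g, hg, e⟩ := hswap (act (blk κ12 (su2 _ _ hnorm))⁻¹ v) (by rw [act_h]; exact hv) (by
    rw [hkey, map_mul]
    intro h
    exact hc1 (by linear_combination h - c * cσ c * h1))
  exact ⟨blk κ12 (su2 _ _ hnorm) * g, mul_mem (h12 ⟨_, rfl⟩) hg, by rw [act_mul, e, act_act_inv]⟩

/-- Consecutive coordinates. -/
def win (k : ℕ) {N : ℕ} (j : ℕ) (h : j + k ≤ N) : Fin k ↪ Fin N where
  toFun i := ⟨j + i, by omega⟩
  inj' a b e := Fin.ext (by simpa using congrArg Fin.val e)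

theorem win_trans {k l N : ℕ} (i j : ℕ) (h : i + k ≤ l) (h' : j + l ≤ N) :
    (win k i h).trans (win l j h') = win k (j + i) (by omega) := by
  exact DFunLike.ext _ _ fun x => Fin.ext (show j + (i + x.1) = j + i + x.1 by omega)

theorem κ3_eq_win {m : ℕ} (hm : 2 ≤ m) : κ3 hm = win 3 (N := m + 2) 0 (by omega) := by
  ext i; simp [κ3, win]

theorem κs_eq_win (n : ℕ) : κs n = win n (N := n + 1) 1 (by omega) := by
  exact DFunLike.ext _ _ fun i => Fin.ext (show i.1 + 1 = 1 + i.1 by omega)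

theorem κss_eq_win (n : ℕ) : κss n = win n (N := n + 2) 2 (by omega) := by
  exact DFunLike.ext _ _ fun i => Fin.ext (show i.1 + 1 + 1 = 2 + i.1 by omega)

theorem κ01_eq_win : κ01 = win 2 (N := 3) 0 (by omega) := by
  ext i; simp [κ01, win]

theorem κ12_eq_win : κ12 = win 2 (N := 3) 1 (by omega) := by
  exact DFunLike.ext _ _ fun i => Fin.ext (show i.1 + 1 = 1 + i.1 by omega)

/-- Generation by rank one blocks. -/
theorem gen_blocks (hq : 3 ≤ q) : ∀ (N : ℕ) (S : Subgroup (Cfsg.SU N F q)), 2 ≤ N →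
    (∀ j (h : j + 2 ≤ N), (blk (win 2 j h)).range ≤ S) → S = ⊤ := by
  intro N
  induction N with
  | zero => intro S h; omega
  | succ N ih =>
    intro S h2 hS
    rcases Nat.lt_or_ge N 2 with h | h
    · have hN : N = 1 := by omega
      subst hN
      refine (Subgroup.eq_top_iff' S).mpr fun g => hS 0 le_rfl ⟨g, ?_⟩
      refine act_ext fun v => funext fun i => ?_
      have e : (win 2 0 (le_refl 2) : Fin 2 ↪ Fin 2) i = i := by ext; simp [win]
      conv_lhs => rw [← e]
      rw [blk_apply_mem]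
      congr 1
      funext l
      exact congrArg v (by ext; simp [win])
    rcases Nat.lt_or_ge N 3 with h' | h'
    · have hN : N = 2 := by omega
      subst hN
      exact gen_three hq S (by rw [κ01_eq_win]; exact hS 0 (by omega)) (by rw [κ12_eq_win]; exact hS 1 (by omega))
    obtain ⟨m, rfl⟩ : ∃ m, N = m + 1 := ⟨N - 1, by omega⟩
    refine gen_top (m := m) (by omega) S ?_ ?_
    · intro g hg
      obtain ⟨g', rfl⟩ := exists_blk_stab hg
      have := ih (S.comap (blk (κs (m + 1)))) (by omega) (fun j hj => by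
        rintro _ ⟨s, rfl⟩
        rw [Subgroup.mem_comap, blk_blk, κs_eq_win, win_trans]
        exact hS _ (by omega) ⟨s, rfl⟩)
      exact (this ▸ Subgroup.mem_top g' : g' ∈ S.comap (blk (κs (m + 1))))
    · have := gen_three hq (S.comap (blk (κ3 (show 2 ≤ m by omega)))) ?_ ?_
      · exact (this ▸ Subgroup.mem_top (w3 F q) : w3 F q ∈ S.comap (blk (κ3 (show 2 ≤ m by omega))))
      · rintro _ ⟨s, rfl⟩
        rw [Subgroup.mem_comap, blk_blk, κ3_eq_win, κ01_eq_win, win_trans]
        exact hS _ (by omega) ⟨s, rfl⟩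
      · rintro _ ⟨s, rfl⟩
        rw [Subgroup.mem_comap, blk_blk, κ3_eq_win, κ12_eq_win, win_trans]
        exact hS _ (by omega) ⟨s, rfl⟩

variable {G : Type v} [Group G]

/-- The range of a homomorphism is generated by the images of rank one blocks. -/
theorem range_le_of_blocks (hq : 3 ≤ q) {N : ℕ} (hN : 2 ≤ N) (Φ : Cfsg.SU N F q →* G) {S : Subgroup G}
    (h : ∀ j (hj : j + 2 ≤ N), (Φ.comp (blk (win 2 j hj))).range ≤ S) : Φ.range ≤ S := by
  have := gen_blocks hq N (S.comap Φ) hN (fun j hj => by rintro _ ⟨s, rfl⟩; exact h j hj ⟨s, rfl⟩)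
  rintro _ ⟨g, rfl⟩
  exact (this ▸ Subgroup.mem_top g : g ∈ S.comap Φ)

/-- A compatible family of rank two maps. -/
structure Family (k : ℕ) (U : ℕ → Subgroup G) (f : ℕ → (Cfsg.SU 3 F q →* G)) : Prop where
  edge : ∀ i < k, Edge (f i) (U i) (U (i + 1))
  agree : ∀ i, i + 1 < k → (f (i + 1)).comp (blk κ01) = (f i).comp (blk κ12)

theorem exists_family (hq : 3 ≤ q) {k : ℕ} {U : ℕ → Subgroup G}
    (hU : ∀ i, i + 1 < k → ∀ u ∈ U i, ∀ x ∈ U (i + 2), Commute u x)
    (f : ℕ → (Cfsg.SU 3 F q →* G)) (hf : ∀ i < k, Edge (f i) (U i) (U (i + 1))) :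
    ∃ f', Family (F := F) (q := q) k U f' := by
  induction k with
  | zero => exact ⟨f, fun i hi => absurd hi (Nat.not_lt_zero i), fun i hi => absurd hi (Nat.not_lt_zero _)⟩
  | succ k ih =>
    obtain ⟨g, hg⟩ := ih (fun i hi => hU i (by omega)) (fun i hi => hf i (by omega))
    rcases Nat.eq_zero_or_pos k with rfl | hk
    · exact ⟨f, hf, fun i hi => by omega⟩
    obtain ⟨j, rfl⟩ : ∃ j, k = j + 1 := ⟨k - 1, by omega⟩
    obtain ⟨f'', h1, h2⟩ := exists_agree hq (hg.edge j (by omega)) (hf (j + 1) (by omega)) (hU j (by omega))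
    refine ⟨Function.update g (j + 1) f'', fun i hi => ?_, fun i hi => ?_⟩
    · rcases eq_or_ne i (j + 1) with rfl | hne
      · rw [Function.update_self]; exact h1
      · rw [Function.update_of_ne hne]; exact hg.edge i (by omega)
    · rw [Function.update_of_ne (show i ≠ j + 1 by omega)]
      rcases eq_or_ne i j with rfl | hne
      · rw [Function.update_self]; exact h2
      · rw [Function.update_of_ne (show i + 1 ≠ j + 1 by omega)]; exact hg.agree i (by omega)

theorem Family.block_range {k : ℕ} {U : ℕ → Subgroup G} {f : ℕ → (Cfsg.SU 3 F q →* G)}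
    (h : Family k U f) {N i : ℕ} {Φ : Cfsg.SU N F q →* G} (hN : 3 ≤ N) (hi : i + N ≤ k + 2)
    (hΦ : ∀ j (hj : j + 3 ≤ N), Φ.comp (blk (win 3 j hj)) = f (i + j)) (j : ℕ) (hj : j + 2 ≤ N) :
    (Φ.comp (blk (win 2 j hj))).range = U (i + j) := by
  rcases Nat.lt_or_ge (j + 2) N with h' | h'
  · rw [← (h.edge (i + j) (by omega)).left, ← hΦ j (by omega)]
    congr 1
    refine MonoidHom.ext fun s => ?_
    simp only [MonoidHom.comp_apply]
    rw [blk_blk, κ01_eq_win, win_trans]
    rfl
  · obtain ⟨j', rfl⟩ : ∃ j', j = j' + 1 := ⟨j - 1, by omega⟩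
    rw [show i + (j' + 1) = i + j' + 1 from rfl, ← (h.edge (i + j') (by omega)).right, ← hΦ j' (by omega)]
    congr 1
    refine MonoidHom.ext fun s => ?_
    simp only [MonoidHom.comp_apply]
    rw [blk_blk, κ12_eq_win, win_trans]

/-- The construction. -/
theorem exists_glued (hq : 3 ≤ q) {k : ℕ} {U : ℕ → Subgroup G} {f : ℕ → (Cfsg.SU 3 F q →* G)}
    (h : Family k U f) (hU : ∀ i j, i + 2 ≤ j → j ≤ k → ∀ u ∈ U i, ∀ x ∈ U j, Commute u x)
    (h4 : 4 ≤ q ∨ ∀ i, i + 2 ≤ k → ∃ Φ : Cfsg.SU 4 F q →* G,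
      ∀ j (hj : j + 3 ≤ 4), Φ.comp (blk (win 3 j hj)) = f (i + j)) :
    ∀ N i, 3 ≤ N → i + N ≤ k + 2 → ∃ Φ : Cfsg.SU N F q →* G,
      ∀ j (hj : j + 3 ≤ N), Φ.comp (blk (win 3 j hj)) = f (i + j) := by
  intro N
  induction N with
  | zero => intro i h; omega
  | succ N ih =>
    intro i h3 hik
    rcases Nat.lt_or_ge N 3 with hN | hN
    · have hN2 : N = 2 := by omega
      subst hN2
      refine ⟨f i, fun j hj => ?_⟩
      have hj0 : j = 0 := by omega
      subst hj0
      refine MonoidHom.ext fun s => ?_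
      rw [MonoidHom.comp_apply]
      congr 1
      refine act_ext fun v => funext fun l => ?_
      have e : (win 3 0 (le_refl 3) : Fin 3 ↪ Fin 3) l = l := by ext; simp [win]
      conv_lhs => rw [← e]
      rw [blk_apply_mem]
      congr 1
      funext l'
      exact congrArg v (by ext; simp [win])
    obtain ⟨m, rfl⟩ : ∃ m, N = m + 1 := ⟨N - 1, by omega⟩
    have hm : 2 ≤ m := by omega
    by_cases hbase : 5 ≤ m + 2 ∨ 4 ≤ q
    swap
    · push Not at hbase
      have hm2 : m = 2 := by omega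
      subst hm2
      exact (h4.resolve_left (by omega)) i (by omega)
    obtain ⟨Ψ, hΨ⟩ := ih (i + 1) (by omega) (by omega)
    let ι : ↥(stab0 F q m) →* Cfsg.SU (m + 1) F q :=
      (MonoidHom.ofInjective (blk_injective (F := F) (q := q) (κs (m + 1)))).symm.toMonoidHom.comp
        (Subgroup.inclusion fun g hg => exists_blk_stab hg)
    have hι : ∀ g, blk (κs (m + 1)) (ι g) = g.1 := fun g =>
      MonoidHom.apply_ofInjective_symm (blk_injective (F := F) (q := q) (κs (m + 1))) _
    have hι' : ∀ x hx, ι ⟨blk (κs (m + 1)) x, hx⟩ = x := fun x hx => blk_injective (κs (m + 1)) (hι _)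
    have hagree : ∀ (x : Cfsg.SU 3 F q) (hx : blk (κ3 hm) x ∈ stab0 F q m),
        (Ψ.comp ι) ⟨_, hx⟩ = f i x := by
      intro x hx
      have hx0 : act x (ev 0) = ev 0 := by
        have := congrArg (fun v => v ∘ κ3 hm) (mem_stab0.mp hx)
        rwa [blk_comp, show (0 : Fin (m + 2)) = κ3 hm 0 from rfl, ev_comp] at this
      obtain ⟨y, rfl⟩ := exists_blk κ12 (g := x) fun j hj => by
        have hj0 : j = 0 := by fin_cases j <;> simp_all [range_κ12]
        rw [hj0, hx0]
      have e : blk (κ3 hm) (blk κ12 y) = blk (κs (m + 1)) (blk (win 2 0 (by omega)) y) := by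
        rw [blk_blk, blk_blk, κ3_eq_win, κ12_eq_win, κs_eq_win, win_trans, win_trans]
      have hx' := hx
      rw [e] at hx'
      rw [MonoidHom.comp_apply, show (⟨_, hx⟩ : ↥(stab0 F q m)) = ⟨_, hx'⟩ from Subtype.ext e, hι']
      have e2 := DFunLike.congr_fun (h.agree i (by omega)) y
      rw [MonoidHom.comp_apply, MonoidHom.comp_apply] at e2
      rw [← e2, ← add_zero (i + 1), ← hΨ 0 (by omega), MonoidHom.comp_apply, blk_blk, κ01_eq_win, win_trans]
    let D : Gluing F q m G :=
      { hm := hm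
        ψ := Ψ.comp ι
        φ := f i
        agree := hagree
        comm := by
          intro s b hb
          obtain ⟨b', hb'⟩ := exists_blk (κss m) (g := b.1) fun j hj => by
            rcases notMem_κss hj with rfl | rfl
            · exact b.2
            · exact hb
          have e : blk (κss m) b' = blk (κs (m + 1)) (blk (win m 1 (by omega)) b') := by
            rw [blk_blk, κss_eq_win, κs_eq_win, win_trans]
          have eb : ι b = blk (win m 1 (by omega)) b' :=
            blk_injective (κs (m + 1)) (by rw [hι, ← e, hb'])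
          have hr : (Ψ.comp (blk (win m 1 (by omega)))).range ≤ Subgroup.centralizer (U i : Set G) := by
            refine range_le_of_blocks hq hm _ fun j hj => ?_
            have e' : (Ψ.comp (blk (win m 1 (by omega)))).comp (blk (win 2 j hj)) =
                Ψ.comp (blk (win 2 (1 + j) (show 1 + j + 2 ≤ m + 1 by omega))) := MonoidHom.ext fun t => by
              simp only [MonoidHom.comp_apply]; rw [blk_blk, win_trans]
            rw [e', h.block_range hN (by omega) hΨ]
            intro x hx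
            rw [Subgroup.mem_centralizer_iff]
            exact fun u hu => (hU i _ (by omega) (by omega) u hu x hx).eq
          have hu : f i (blk κ01 s) ∈ U i := (h.edge i (by omega)).left.le ⟨s, rfl⟩
          show Commute (f i (blk κ01 s)) (Ψ (ι b))
          rw [eb]
          exact Subgroup.mem_centralizer_iff.mp (hr ⟨b', rfl⟩) _ hu }
    obtain ⟨Φ, hΦA, hΦ3, -⟩ := D.exists_hom hq hbase
    refine ⟨Φ, fun j hj => ?_⟩
    refine MonoidHom.ext fun s => ?_
    rw [MonoidHom.comp_apply]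
    rcases Nat.eq_zero_or_pos j with rfl | hjpos
    · rw [add_zero]
      have := hΦ3 s
      rw [κ3_eq_win] at this
      exact this
    obtain ⟨j', rfl⟩ : ∃ j', j = 1 + j' := ⟨j - 1, by omega⟩
    have e : blk (win 3 (1 + j') hj) s = blk (κs (m + 1)) (blk (win 3 j' (by omega)) s) := by
      rw [blk_blk, κs_eq_win, win_trans]
    rw [e, show blk (κs (m + 1)) (blk (win 3 j' (by omega)) s) =
      (⟨_, blk_κs_mem _⟩ : ↥(stab0 F q m)).1 from rfl, hΦA]
    show Ψ (ι _) = _
    rw [hι', ← Nat.add_assoc, ← hΨ j' (by omega), MonoidHom.comp_apply]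

end Cfsg.Lib.Known.Phan
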