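import Cfsg.Agent.Known.Phan.Vectors

/-! The covering argument on the orthogonality graph of unit vectors: gluing a point stabiliser and a rank two
block to the whole special unitary group. -/

set_option autoImplicit false
set_option linter.unusedSimpArgs false
set_option linter.unusedSectionVars false
set_option linter.style.haveILetI false

namespace Cfsg.Lib.Known.Phan

open Matrix

universe u v

variable {F : Type u} [Field F] [Fintype F] {q : ℕ} [hF : Fact (Fintype.card F = q ^ 2)] {m : ℕ}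

/-- The first three coordinates. -/
def κ3 (hm : 2 ≤ m) : Fin 3 ↪ Fin (m + 2) := Fin.castLEEmb (by omega)

theorem κ3_zero (hm : 2 ≤ m) : κ3 hm 0 = 0 := rfl

theorem κ3_one (hm : 2 ≤ m) : κ3 hm 1 = 1 := rfl

/-- All coordinates but the first. -/
def κs (n : ℕ) : Fin n ↪ Fin (n + 1) := Fin.succEmb n

/-- All coordinates but the first two. -/
def κss (n : ℕ) : Fin n ↪ Fin (n + 2) := (κs n).trans (κs (n + 1))

variable (F q m) in
/-- The stabiliser of the first coordinate vector. -/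
def stab0 : Subgroup (Cfsg.SU (m + 2) F q) where
  carrier := {g | act g (ev 0) = ev 0}
  mul_mem' {a b} ha hb := by rw [Set.mem_ofPred_eq] at *; rw [act_mul, hb, ha]
  one_mem' := act_one _
  inv_mem' {a} ha := act_inv_eq ha

theorem mem_stab0 {g : Cfsg.SU (m + 2) F q} : g ∈ stab0 F q m ↔ act g (ev 0) = ev 0 := Iff.rfl

theorem notMem_κs {n : ℕ} {j : Fin (n + 1)} (hj : j ∉ Set.range (κs n)) : j = 0 := by
  by_contra h
  exact hj ⟨j.pred h, Fin.succ_pred j h⟩

theorem notMem_κss {n : ℕ} {j : Fin (n + 2)} (hj : j ∉ Set.range (κss n)) : j = 0 ∨ j = 1 := by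
  by_contra h
  push Not at h
  have h1 : j.pred h.1 ≠ 0 := fun e => h.2 (by rw [← Fin.succ_pred j h.1, e]; rfl)
  exact hj ⟨(j.pred h.1).pred h1, (congrArg Fin.succ (Fin.succ_pred _ h1)).trans (Fin.succ_pred j h.1)⟩

theorem exists_blk_stab {g : Cfsg.SU (m + 2) F q} (hg : g ∈ stab0 F q m) :
    ∃ g', blk (κs (m + 1)) g' = g :=
  exists_blk _ fun j hj => by rw [notMem_κs hj]; exact hg

theorem blk_κs_mem (g : Cfsg.SU (m + 1) F q) : blk (κs (m + 1)) g ∈ stab0 F q m :=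
  blk_fix _ _ (by rintro ⟨i, hi⟩; exact Fin.succ_ne_zero i hi)

theorem blk_κss_fix (g : Cfsg.SU m F q) :
    act (blk (κss m) g) (ev 0) = ev 0 ∧ act (blk (κss m) g) (ev 1) = ev 1 :=
  ⟨blk_fix _ _ (by rintro ⟨i, hi⟩; exact Fin.succ_ne_zero _ hi),
    blk_fix _ _ (by rintro ⟨i, hi⟩; exact Fin.succ_ne_zero i (Fin.succ_injective _ hi))⟩

/-- The stabiliser is transitive on unit vectors orthogonal to the fixed vector. -/
theorem exists_stab_move (hm2 : 2 ≤ m + 1) {v : Fin (m + 2) → F} (hv : (HS F q _).h v v = 1)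
    (hv0 : (HS F q _).h v (ev 0) = 0) : ∃ a ∈ stab0 F q m, act a (ev 1) = v := by
  rw [h_ev] at hv0
  have e : pad (κs (m + 1)) (v ∘ κs (m + 1)) = v := funext fun j => by
    by_cases hj : j ∈ Set.range (κs (m + 1))
    · obtain ⟨i, rfl⟩ := hj; rw [pad_mem]; rfl
    · rw [pad_notMem _ _ hj, notMem_κs hj, hv0]
  obtain ⟨g, hg⟩ := exists_act_unit (q := q) (N := m + 1) hm2 (v := ev 0) (v' := v ∘ κs (m + 1))
    (isUnit1_ev 0) (by rw [IsUnit1, ← h_pad (κs (m + 1)), e]; exact hv)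
  refine ⟨blk (κs (m + 1)) g, blk_κs_mem g, ?_⟩
  rw [show (1 : Fin (m + 2)) = κs (m + 1) 0 from rfl, blk_ev, hg, e]

/-- The common stabiliser is transitive on unit vectors orthogonal to the first two. -/
theorem exists_stab2_move (hm : 2 ≤ m) {v : Fin (m + 2) → F} (hv : (HS F q _).h v v = 1)
    (hv0 : (HS F q _).h v (ev 0) = 0) (hv1 : (HS F q _).h v (ev 1) = 0) :
    ∃ b ∈ stab0 F q m, act b (ev 1) = ev 1 ∧ act b (ev (κ3 hm 2)) = v := by
  rw [h_ev] at hv0 hv1
  have e : pad (κss m) (v ∘ κss m) = v := funext fun j => by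
    by_cases hj : j ∈ Set.range (κss m)
    · obtain ⟨i, rfl⟩ := hj; rw [pad_mem]; rfl
    · rw [pad_notMem _ _ hj]
      rcases notMem_κss hj with rfl | rfl
      · rw [hv0]
      · rw [hv1]
  obtain ⟨g, hg⟩ := exists_act_unit (q := q) hm (v := ev ⟨0, by omega⟩) (v' := v ∘ κss m)
    (isUnit1_ev _) (by rw [IsUnit1, ← h_pad (κss m), e]; exact hv)
  refine ⟨blk (κss m) g, (blk_κss_fix g).1, (blk_κss_fix g).2, ?_⟩
  rw [show κ3 hm 2 = κss m ⟨0, by omega⟩ from Fin.ext rfl, blk_ev, hg, e]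

variable (F q) in
/-- The involution exchanging the first two coordinate vectors of three. -/
noncomputable def w3 : Cfsg.SU 3 F q :=
  ⟨⟨!![0, 1, 0; 1, 0, 0; 0, 0, -1], by simp [Matrix.det_fin_three]⟩, by
    intro u v
    change Cfsg.hermForm 3 F q (!![0, 1, 0; 1, 0, 0; 0, 0, -1] *ᵥ u) (!![0, 1, 0; 1, 0, 0; 0, 0, -1] *ᵥ v) = _
    rw [← Cfsg.Lib.Classical.stdHerm_h hF.out, ← Cfsg.Lib.Classical.stdHerm_h hF.out, hs_h, hs_h]
    simp [Matrix.mulVec, dotProduct, Fin.sum_univ_three]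
    ring⟩

theorem w3_sq : w3 F q * w3 F q = 1 := by
  refine Subtype.ext (Subtype.ext ?_)
  change (!![0, 1, 0; 1, 0, 0; 0, 0, -1] : Matrix (Fin 3) (Fin 3) F) * !![0, 1, 0; 1, 0, 0; 0, 0, -1] = 1
  ext i j
  fin_cases i <;> fin_cases j <;> simp [Matrix.mul_apply, Fin.sum_univ_three]

theorem w3_ev0 : act (w3 F q) (ev 0) = ev 1 := by
  rw [act, ev, Matrix.mulVec_single_one]
  funext i
  fin_cases i <;> simp [mat, w3, ev]

theorem blk3_w3 (hm : 2 ≤ m) : act (blk (κ3 hm) (w3 F q)) (ev 0) = ev 1 := by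
  rw [show (0 : Fin (m + 2)) = κ3 hm 0 from rfl, blk_ev, w3_ev0, pad_ev, κ3_one]

/-- Connectedness: the stabiliser and the involution generate. -/
theorem gen_top (hm : 2 ≤ m) (S : Subgroup (Cfsg.SU (m + 2) F q)) (hA : stab0 F q m ≤ S)
    (hw : blk (κ3 hm) (w3 F q) ∈ S) : S = ⊤ := by
  refine (Subgroup.eq_top_iff' S).mpr fun s => ?_
  have hreach : ∀ v : Fin (m + 2) → F, (HS F q _).h v v = 1 → (HS F q _).h v (ev 0) = 0 →
      ∃ g ∈ S, act g (ev 0) = v := by
    intro v hv hv0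
    obtain ⟨a, ha, hav⟩ := exists_stab_move (by omega) hv hv0
    exact ⟨a * blk (κ3 hm) (w3 F q), mul_mem (hA ha) hw, by rw [act_mul, blk3_w3, hav]⟩
  have hs : (HS F q _).h (act s (ev 0)) (act s (ev 0)) = 1 := by rw [act_h, ev_ev, if_pos rfl]
  obtain ⟨x, hx, hx0, hxv⟩ := exists_perp2 (q := q) (N := m + 2) (by omega)
    (u := ev 0) (by rw [ev_ev, if_pos rfl]) hs
  obtain ⟨g, hg, hgx⟩ := hreach x hx hx0
  obtain ⟨g', hg', hgv⟩ := hreach (act g⁻¹ (act s (ev 0))) (by rw [act_h]; exact hs) (by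
    rw [← act_h g, act_act_inv, hgx]; exact (HS F q _).eq_zero_symm hxv)
  have : (g * g')⁻¹ * s ∈ stab0 F q m := by
    rw [mem_stab0, act_mul]
    refine act_inv_eq ?_
    rw [act_mul, hgv, act_act_inv]
  have h := mul_mem (mul_mem hg hg') (hA this)
  rwa [mul_inv_cancel_left] at h

end Cfsg.Lib.Known.Phan
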