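import Cfsg.Agent.Known.Phan.Indep

/-! Degenerate squares in four dimensions. -/

set_option autoImplicit false
set_option linter.unusedSimpArgs false
set_option linter.unusedSectionVars false
set_option linter.style.haveILetI false

namespace Cfsg.Lib.Known.Phan

universe u v

variable {F : Type u} [Field F] [Fintype F] {q : ℕ} [hF : Fact (Fintype.card F = q ^ 2)]

local notation "σ" => cb F q

theorem exists_fixed_avoid {a b c d : F} (h : ({a, b, c, d} : Set F).ncard < q) :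
    ∃ A : F, σ A = A ∧ A ≠ a ∧ A ≠ b ∧ A ≠ c ∧ A ≠ d := by
  have hc : (Cfsg.Lib.Classical.fixedField σ : Set F).ncard = q := by
    rw [← Nat.card_coe_set_eq]
    exact (Cfsg.Lib.Classical.exists_conj_pow hF.out).choose_spec.2.2
  obtain ⟨A, hA, hA'⟩ := Set.exists_mem_notMem_of_ncard_lt_ncard (hc ▸ h)
  simp only [Set.mem_insert_iff, Set.mem_singleton_iff, not_or] at hA'
  exact ⟨A, hA, hA'⟩

namespace Gluing

variable {m : ℕ} {G : Type v} [Group G] (D : Gluing F q m G)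

local notation "V" => (Fin (m + 2) → F)
set_option quotPrecheck false in
local notation "⟪" x ", " y "⟫" => (HS F q (m + 2)).h x y

theorem exists_partner_in {e x r : V} (he : ⟪e, e⟫ = 1) (hx : ⟪x, x⟫ = 1) (hxe : ⟪x, e⟫ = 0) (hr : ⟪r, r⟫ = 0)
    (hre : ⟪r, e⟫ = 0) (hrx : ⟪r, x⟫ = 0) (hr0 : r ≠ 0) :
    ∃ f : V, ⟪r, f⟫ = 1 ∧ ⟪f, f⟫ = 0 ∧ ⟪f, e⟫ = 0 ∧ ⟪f, x⟫ = 0 := by
  have hE : (HS F q (m + 2)).NondegOn (Submodule.span F ({e, x} : Set V)) := fun z hz h => by
    obtain ⟨a, b, rfl⟩ := Submodule.mem_span_pair.mp hz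
    have h1 := h e (Submodule.subset_span (by simp))
    have h2 := h x (Submodule.subset_span (by simp))
    rw [(HS F q (m + 2)).add_right, (HS F q (m + 2)).smul_right, (HS F q (m + 2)).smul_right, he, (HS F q (m + 2)).eq_zero_symm hxe, mul_one, mul_zero, add_zero] at h1
    rw [(HS F q (m + 2)).add_right, (HS F q (m + 2)).smul_right, (HS F q (m + 2)).smul_right, hx, hxe, mul_one, mul_zero, zero_add] at h2
    rw [(HS F q (m + 2)).conj.eq_zero.mp h1, (HS F q (m + 2)).conj.eq_zero.mp h2, zero_smul, zero_smul, add_zero]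
  have hrW : r ∈ (HS F q (m + 2)).orth (Submodule.span F ({e, x} : Set V)) := (HS F q (m + 2)).mem_orth_span.mpr fun w hw => by
    rcases hw with rfl | hw
    · exact hre
    · rw [Set.mem_singleton_iff.mp hw]; exact hrx
  obtain ⟨f, hf, hff⟩ := ((HS F q (m + 2)).restrict _ ((HS F q (m + 2)).nondegOn_orth hE)).exists_hyperbolic
    (v := ⟨r, hrW⟩) (fun h => hr0 (congrArg Subtype.val h)) hr
  exact ⟨f, hf, hff, f.2 e (Submodule.subset_span (by simp)), f.2 x (Submodule.subset_span (by simp))⟩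

variable (hq : 3 ≤ q)
include hq

/-- The ladder. -/
theorem ladder {X : D.Lift} {x y v : V} {t A : F} (hv : ⟪v, v⟫ = 1) (hx : D.Common X x v) (hy : D.Common X y v)
    (hk : ⟪v, D.pt X⟫ * σ ⟪v, D.pt X⟫ = 1) (hl : ⟪y, x⟫ * σ ⟪y, x⟫ = 1)
    (hr0 : v - ⟪v, D.pt X⟫ • D.pt X ≠ 0)
    (ht : y - ⟪y, x⟫ • x = t • (v - ⟪v, D.pt X⟫ • D.pt X))
    (hAσ : σ A = A) (hA0 : A ≠ 0) (hA1 : A ≠ 1) (hAT : A ≠ t * σ t) (hA1T : A ≠ 1 + t * σ t) :
    D.via X x v = D.via X y v := by
  have sy := @Cfsg.Lib.Classical.HermSpace.eq_zero_symm _ _ _ _ _ (HS F q (m + 2))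
  set e := D.pt X with he
  set a := ⟪v, e⟫ with ha
  set μ := ⟪y, x⟫ with hμ
  set r := v - a • e with hr
  have hee : ⟪e, e⟫ = 1 := D.pt_unit X
  have hre : ⟪r, e⟫ = 0 := by rw [hr, (HS F q (m + 2)).sub_left, (HS F q (m + 2)).smul_left, hee, mul_one, ← ha, sub_self]
  have hrx : ⟪r, x⟫ = 0 := by rw [hr, (HS F q (m + 2)).sub_left, (HS F q (m + 2)).smul_left, sy hx.2.2, sy hx.2.1]; ring
  have hry : ⟪r, y⟫ = 0 := by rw [hr, (HS F q (m + 2)).sub_left, (HS F q (m + 2)).smul_left, sy hy.2.2, sy hy.2.1]; ring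
  have hrv : ⟪r, v⟫ = 0 := by
    rw [hr, (HS F q (m + 2)).sub_left, (HS F q (m + 2)).smul_left, hv, (HS F q (m + 2)).symm e v, ← ha, hs_sigma]
    linear_combination -hk
  have hrr : ⟪r, r⟫ = 0 := by
    conv_lhs => arg 3; rw [hr]
    rw [(HS F q (m + 2)).sub_right, (HS F q (m + 2)).smul_right, hre, hrv, mul_zero, sub_zero]
  obtain ⟨f, hrf, hff, hfe, hfx⟩ := exists_partner_in hee hx.1 hx.2.1 hrr hre hrx hr0
  have hfr : ⟪f, r⟫ = 1 := by rw [(HS F q (m + 2)).symm, hrf, map_one]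
  have hfv : ⟪f, v⟫ = 1 := by
    rw [show v = r + a • e by rw [hr]; abel, (HS F q (m + 2)).add_right, (HS F q (m + 2)).smul_right, hfr, hfe, mul_zero, add_zero]
  have hfy : ⟪f, y⟫ = σ t := by
    rw [show y = t • r + μ • x by rw [← ht]; abel, (HS F q (m + 2)).add_right, (HS F q (m + 2)).smul_right, (HS F q (m + 2)).smul_right, hfr, hfx,
      hs_sigma]
    ring
  set T := t * σ t with hT
  set B := 1 + T - A with hB
  have hTσ : σ T = T := by rw [hT, map_mul, cb_cb, mul_comm]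
  have hB0 : B ≠ 0 := fun h => hA1T (sub_eq_zero.mp h).symm
  have hB1 : B ≠ 1 := fun h => hAT (by linear_combination -h + hB)
  obtain ⟨w, hw⟩ := (conjF (F := F) (q := q)).norm_surjective (a := A⁻¹) (by rw [map_inv₀, hAσ])
  obtain ⟨w', hw'⟩ := (conjF (F := F) (q := q)).norm_surjective (a := B⁻¹) (by
    rw [map_inv₀, hB, map_sub, map_add, map_one, hAσ, hTσ])
  have hw0 : w ≠ 0 := fun h => inv_ne_zero hA0 (by rw [← hw, h, zero_mul])
  have hσw : σ w ≠ 0 := fun h => hw0 (cb_eq_zero.mp h)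
  obtain ⟨u, hu⟩ := exists_trace_eq (q := q) (x := σ w) hσw (a := 1 - w * σ w)
    (by rw [map_sub, map_one, map_mul, cb_cb, mul_comm])
  set u' := -(w' * σ u) / σ w with hu'
  have hu'0 : u' * σ w = -(w' * σ u) := div_mul_cancel₀ _ hσw
  set y2 := (-(a * w)) • e + u • r + w • f with hy2
  set x2 := (-(μ * σ t * w')) • x + u' • r + w' • f with hx2
  have hxe : ⟪x, e⟫ = 0 := hx.2.1
  have y2y2 : ⟪y2, y2⟫ = 1 := by
    simp only [hy2, (HS F q (m + 2)).add_left, (HS F q (m + 2)).add_right, (HS F q (m + 2)).smul_left, (HS F q (m + 2)).smul_right, hee, hrr, hff, hre, hfe, sy hre,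
      sy hfe, hrf, hfr, hs_sigma, map_neg, map_mul]
    rw [map_mul, cb_cb] at hu
    linear_combination hu + (w * σ w) * hk
  have y2x : ⟪y2, x⟫ = 0 := by
    simp only [hy2, (HS F q (m + 2)).add_left, (HS F q (m + 2)).smul_left, sy hxe, hrx, hfx]; ring
  have y2v : ⟪y2, v⟫ = 0 := by
    simp only [hy2, (HS F q (m + 2)).add_left, (HS F q (m + 2)).smul_left, (HS F q (m + 2)).symm e v, ← ha, hs_sigma, hrv, hfv]
    linear_combination -w * hk
  have x2e : ⟪x2, e⟫ = 0 := by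
    simp only [hx2, (HS F q (m + 2)).add_left, (HS F q (m + 2)).smul_left, hxe, hre, hfe]; ring
  have x2y : ⟪x2, y⟫ = 0 := by
    simp only [hx2, (HS F q (m + 2)).add_left, (HS F q (m + 2)).smul_left, (HS F q (m + 2)).symm x y, ← hμ, hs_sigma, hry, hfy]
    linear_combination -(σ t * w') * hl
  have x2y2 : ⟪x2, y2⟫ = 0 := by
    simp only [hx2, hy2, (HS F q (m + 2)).add_left, (HS F q (m + 2)).add_right, (HS F q (m + 2)).smul_left, (HS F q (m + 2)).smul_right, hxe, sy hrx, sy hfx, hre, hrr,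
      hrf, hfe, hfr, hff, hs_sigma]
    linear_combination hu'0
  have x2x2 : ⟪x2, x2⟫ = 1 := by
    simp only [hx2, (HS F q (m + 2)).add_left, (HS F q (m + 2)).add_right, (HS F q (m + 2)).smul_left, (HS F q (m + 2)).smul_right, hx.1, hrr, hff, hrx, hfx, sy hrx,
      sy hfx, hrf, hfr, hs_sigma, map_neg, map_mul, cb_cb]
    have hσu' : σ u' * w = -(σ w' * u) := by
      have := congrArg σ hu'0
      rwa [map_mul, map_neg, map_mul, cb_cb, cb_cb] at this
    rw [map_mul, cb_cb] at hu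
    have e1 : A * (w * σ w) = 1 := by rw [hw, mul_inv_cancel₀ hA0]
    have e2 : B * (w' * σ w') = 1 := by rw [hw', mul_inv_cancel₀ hB0]
    linear_combination (w' * σ w' * T) * hl + (A * w * σ w') * hu'0 + (A * σ w * w') * hσu'
      - (A * (w' * σ w')) * hu + (w' * σ w' - u' * σ w' - σ u' * w') * e1 + e2
  have cx : ⟪x2, v⟫ * σ ⟪x2, v⟫ ≠ 1 := by
    have : ⟪x2, v⟫ = w' := by
      simp only [hx2, (HS F q (m + 2)).add_left, (HS F q (m + 2)).smul_left, hx.2.2, hrv, hfv]; ring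
    rw [this, hw']
    exact fun h => hB1 (inv_eq_one.mp h)
  have cy : ⟪y2, e⟫ * σ ⟪y2, e⟫ ≠ 1 := by
    have : ⟪y2, e⟫ = -(a * w) := by
      simp only [hy2, (HS F q (m + 2)).add_left, (HS F q (m + 2)).smul_left, hee, hre, hfe]; ring
    rw [this, map_neg, neg_mul_neg, map_mul, mul_mul_mul_comm, hk, one_mul, hw]
    exact fun h => hA1 (inv_eq_one.mp h)
  -- the lifts
  have sX := D.step_spec hx.1 hx.2.1
  have sY := D.step_spec hy.1 hy.2.1
  have sV := D.via_spec hx hv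
  have sX2 := D.step_spec x2x2 x2e
  have sY2 := D.step_spec (X := D.step X x) y2y2 (by rw [sX.2]; exact y2x)
  have a1 : D.Adj (D.step (D.step X x) y2) (D.via X x v) :=
    D.triangle sV.1 y2y2 (by rw [sX.2]; exact y2x) (by rw [sV.2]; exact y2v)
  have a2 : D.Adj (D.step X x2) (D.step X y) := D.triangle sY.1 x2x2 x2e (by rw [sY.2]; exact x2y)
  have e1 := D.indep_nondeg hq y2y2 cy x x2 ⟨hx.1, hxe, sy y2x⟩ ⟨x2x2, x2e, x2y2⟩
  change D.step (D.step X x) y2 = D.step (D.step X x2) y2 at e1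
  have a3 : D.Adj (D.step X x2) (D.step (D.step X x) y2) := by
    rw [e1]
    exact (D.step_spec y2y2 (by rw [sX2.2]; exact sy x2y2)).1
  have hne : ⟪v, x2⟫ * σ ⟪v, x2⟫ ≠ 1 := by
    rw [(HS F q (m + 2)).symm v x2, hs_sigma, cb_cb, mul_comm]; exact cx
  have e2 := D.indep_nondeg hq (X := D.step X x2) hv (by rw [sX2.2]; exact hne) y2 y
    ⟨y2y2, by rw [sX2.2]; exact sy x2y2, y2v⟩ ⟨hy.1, by rw [sX2.2]; exact sy x2y, hy.2.2⟩
  change D.step (D.step (D.step X x2) y2) v = D.step (D.step (D.step X x2) y) v at e2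
  rw [D.step_eq a3 sY2.2, D.step_eq a1 sV.2, D.step_eq a2 sY.2] at e2
  exact e2

theorem via_eq_four (hm : m = 2) (hq4 : 4 ≤ q) {X : D.Lift} {x y v : V} (hv : ⟪v, v⟫ = 1)
    (hx : D.Common X x v) (hy : D.Common X y v) (hk : ⟪v, D.pt X⟫ * σ ⟪v, D.pt X⟫ = 1) :
    D.via X x v = D.via X y v := by
  have sy := @Cfsg.Lib.Classical.HermSpace.eq_zero_symm _ _ _ _ _ (HS F q (m + 2))
  set e := D.pt X with he
  set a := ⟪v, e⟫ with ha
  set r := v - a • e with hr
  by_cases hr0 : r = 0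
  · exact D.indep_scalar hq hv (sub_eq_zero.mp hr0) x y hx hy
  have hee : ⟪e, e⟫ = 1 := D.pt_unit X
  have hre : ⟪r, e⟫ = 0 := by rw [hr, (HS F q (m + 2)).sub_left, (HS F q (m + 2)).smul_left, hee, mul_one, ← ha, sub_self]
  have hro : ∀ z : V, D.Common X z v → ⟪r, z⟫ = 0 := fun z hz => by
    rw [hr, (HS F q (m + 2)).sub_left, (HS F q (m + 2)).smul_left, sy hz.2.2, sy hz.2.1]; ring
  have hrr : ⟪r, r⟫ = 0 := by
    conv_lhs => arg 3; rw [hr]
    rw [(HS F q (m + 2)).sub_right, (HS F q (m + 2)).smul_right, hre, mul_zero, sub_zero, hr, (HS F q (m + 2)).sub_left, (HS F q (m + 2)).smul_left, hv, (HS F q (m + 2)).symm e v,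
      ← ha, hs_sigma]
    linear_combination -hk
  have main : ∀ x y : V, D.Common X x v → D.Common X y v → ⟪y, x⟫ * σ ⟪y, x⟫ = 1 →
      ∃ t : F, y - ⟪y, x⟫ • x = t • r := by
    intro x y hx hy hl
    obtain ⟨f, hrf, hff, hfe, hfx⟩ := exists_partner_in hee hx.1 hx.2.1 hrr hre (hro x hx) hr0
    set ry := y - ⟪y, x⟫ • x with hry
    have hxe : ⟪x, e⟫ = 0 := hx.2.1
    have h1 : ⟪ry, e⟫ = 0 := by rw [hry, (HS F q (m + 2)).sub_left, (HS F q (m + 2)).smul_left, hy.2.1, hx.2.1]; ring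
    have h2 : ⟪ry, x⟫ = 0 := by rw [hry, (HS F q (m + 2)).sub_left, (HS F q (m + 2)).smul_left, hx.1]; ring
    have h3 : ⟪ry, r⟫ = 0 := by
      rw [hry, (HS F q (m + 2)).sub_left, (HS F q (m + 2)).smul_left, sy (hro x hx), sy (hro y hy)]; ring
    refine ⟨⟪ry, f⟫, sub_eq_zero.mp ?_⟩
    set z := ry - ⟪ry, f⟫ • r with hz
    set S := Submodule.span F ({r, f} : Set V) with hS
    set E := Submodule.span F ({e, x} : Set V) with hE
    have hli : LinearIndependent F ![e, x] := by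
      rw [LinearIndependent.pair_iff]
      intro c d hcd
      have e1 := congrArg (fun w => ⟪w, e⟫) hcd
      have e2 := congrArg (fun w => ⟪w, x⟫) hcd
      simp only [(HS F q (m + 2)).add_left, (HS F q (m + 2)).smul_left, hee, hxe, hx.1, sy hxe, (HS F q (m + 2)).zero_left, mul_zero, mul_one,
        add_zero, zero_add] at e1 e2
      exact ⟨e1, e2⟩
    have hE2 : Module.finrank F E = 2 := by
      have := finrank_span_eq_card hli
      rwa [Matrix.range_cons_cons_empty, Fintype.card_fin] at this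
    have hSW : S ≤ (HS F q (m + 2)).orth E := Submodule.span_le.mpr fun w hw => (HS F q (m + 2)).mem_orth_span.mpr fun w' hw' => by
      simp only [Set.mem_insert_iff, Set.mem_singleton_iff] at hw hw'
      rcases hw with rfl | rfl <;> rcases hw' with rfl | rfl
      · exact hre
      · exact hro _ hx
      · exact hfe
      · exact hfx
    have heq : S = (HS F q (m + 2)).orth E := Submodule.eq_of_le_of_finrank_eq hSW (by
      rw [(HS F q (m + 2)).finrank_hyperbolic hrr hrf, (HS F q (m + 2)).finrank_orth, hE2, Module.finrank_fin_fun, hm])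
    have hzW : z ∈ (HS F q (m + 2)).orth E := (HS F q (m + 2)).mem_orth_span.mpr fun w hw => by
      simp only [Set.mem_insert_iff, Set.mem_singleton_iff] at hw
      rcases hw with rfl | rfl
      · rw [hz, (HS F q (m + 2)).sub_left, (HS F q (m + 2)).smul_left, h1, hre]; ring
      · rw [hz, (HS F q (m + 2)).sub_left, (HS F q (m + 2)).smul_left, h2, hro _ hx]; ring
    refine (HS F q (m + 2)).nondegOn_hyperbolic hrr hrf z (by rw [← hS, heq]; exact hzW) fun w hw => ?_
    apply (HS F q (m + 2)).eq_zero_symm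
    refine ((HS F q (m + 2)).mem_orth_span.mpr fun w' hw' => ?_ : z ∈ (HS F q (m + 2)).orth S) w hw
    simp only [Set.mem_insert_iff, Set.mem_singleton_iff] at hw'
    rcases hw' with rfl | rfl
    · rw [hz, (HS F q (m + 2)).sub_left, (HS F q (m + 2)).smul_left, h3, hrr]; ring
    · rw [hz, (HS F q (m + 2)).sub_left, (HS F q (m + 2)).smul_left, hrf]; ring
  by_cases hl : ⟪y, x⟫ * σ ⟪y, x⟫ = 1
  swap
  · exact D.swap_ok hq hv hx hy (Or.inl hl)
  set μ := ⟪y, x⟫ with hμ
  obtain ⟨t, ht⟩ := main x y hx hy hl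
  have good : ∀ (x y : V) (t : F), D.Common X x v → D.Common X y v → ⟪y, x⟫ * σ ⟪y, x⟫ = 1 →
      y - ⟪y, x⟫ • x = t • r → (5 ≤ q ∨ t * σ t = 1) → D.via X x v = D.via X y v := by
    intro x y t hx hy hl ht hgood
    obtain ⟨A, hA, h0, h1, h2, h3⟩ := exists_fixed_avoid (F := F) (q := q)
      (a := 0) (b := 1) (c := t * σ t) (d := 1 + t * σ t) (by
        rcases hgood with h5 | hT
        · refine lt_of_le_of_lt ?_ h5
          refine (Set.ncard_insert_le _ _).trans (Nat.succ_le_succ ?_)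
          refine (Set.ncard_insert_le _ _).trans (Nat.succ_le_succ ?_)
          exact (Set.ncard_insert_le _ _).trans (by simp)
        · rw [hT, Set.insert_eq_of_mem (a := (1 : F)) (by simp)]
          refine lt_of_le_of_lt ?_ hq4
          refine (Set.ncard_insert_le _ _).trans (Nat.succ_le_succ ?_)
          exact (Set.ncard_insert_le _ _).trans (by simp))
    exact D.ladder hq hv hx hy hk hl hr0 ht hA h0 h1 h2 h3
  rcases Nat.lt_or_ge q 5 with h4 | h5
  swap
  · exact good x y t hx hy hl ht (Or.inl h5)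
  by_cases hT : t * σ t = 1
  · exact good x y t hx hy hl ht (Or.inr hT)
  by_cases ht0 : t = 0
  · exact D.swap_ok hq hv hx hy (Or.inr (sub_eq_zero.mp (by rw [ht, ht0, zero_smul])))
  have hμ0 : μ ≠ 0 := fun h => by rw [h, zero_mul] at hl; exact zero_ne_one hl
  have hT' : (t / μ) * σ (t / μ) ≠ 1 := by
    rw [map_div₀, div_mul_div_comm, hl, div_one]; exact hT
  obtain ⟨k, hk1, hk2⟩ := exists_split_four (by omega) hT' (div_ne_zero ht0 hμ0)
  set y' := μ • x + (μ * k) • r with hy'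
  have hrx := hro x hx
  have cy' : D.Common X y' v := by
    refine ⟨?_, ?_, ?_⟩
    · simp only [hy', (HS F q (m + 2)).add_left, (HS F q (m + 2)).add_right, (HS F q (m + 2)).smul_left, (HS F q (m + 2)).smul_right, hx.1, hrr, hrx, sy hrx, hs_sigma]
      linear_combination hl
    · simp only [hy', (HS F q (m + 2)).add_left, (HS F q (m + 2)).smul_left]
      rw [← he, hx.2.1, hre]; ring
    · have : ⟪r, v⟫ = 0 := by
        rw [hr, (HS F q (m + 2)).sub_left, (HS F q (m + 2)).smul_left, hv, (HS F q (m + 2)).symm e v, ← ha, hs_sigma]; linear_combination -hk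
      simp only [hy', (HS F q (m + 2)).add_left, (HS F q (m + 2)).smul_left, hx.2.2, this]; ring
  have h1 : ⟪y', x⟫ = μ := by
    simp only [hy', (HS F q (m + 2)).add_left, (HS F q (m + 2)).smul_left, hx.1, hrx]; ring
  have h2 : ⟪y, y'⟫ = 1 := by
    rw [hy', (HS F q (m + 2)).add_right, (HS F q (m + 2)).smul_right, (HS F q (m + 2)).smul_right, sy (hro y hy), ← hμ, hs_sigma]
    linear_combination hl
  rw [good x y' (μ * k) hx cy' (by rw [h1]; exact hl) (by rw [h1, hy']; abel) (Or.inr (by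
    rw [map_mul]; linear_combination (k * σ k) * hl + hk1))]
  refine good y' y (t - μ * k) cy' hy (by rw [h2, map_one, mul_one]) ?_ (Or.inr ?_)
  · rw [h2, one_smul, hy', sub_smul, ← ht]; abel
  · rw [show t - μ * k = μ * (t / μ - k) by field_simp, map_mul]
    linear_combination ((t / μ - k) * σ (t / μ - k)) * hl + hk2

/-- Two step lifts do not depend on the middle vertex. -/
theorem indep_all (hbig : 5 ≤ m + 2 ∨ 4 ≤ q) {X : D.Lift} {v : V} (hv : ⟪v, v⟫ = 1) : D.Indep X v := by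
  intro x y hx hy
  by_cases hk : ⟪v, D.pt X⟫ * σ ⟪v, D.pt X⟫ = 1
  swap
  · exact D.indep_nondeg hq hv hk x y hx hy
  rcases Nat.lt_or_ge (m + 2) 5 with h | h
  · exact D.via_eq_four hq (by have := D.hm; omega) (by omega) hv hx hy hk
  · exact D.via_eq_five hq h hv hx hy

end Gluing

end Cfsg.Lib.Known.Phan
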