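import Cfsg.Agent.Known.Phan.Four

/-! The global section and the glued homomorphism. -/

set_option autoImplicit false
set_option linter.unusedSimpArgs false
set_option linter.unusedSectionVars false
set_option linter.style.haveILetI false

namespace Cfsg.Lib.Known.Phan

universe u v

variable {F : Type u} [Field F] [Fintype F] {q : ℕ} [hF : Fact (Fintype.card F = q ^ 2)]

local notation "σ" => cb F q

namespace Gluing

variable {m : ℕ} {G : Type v} [Group G] (D : Gluing F q m G)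

local notation "V" => (Fin (m + 2) → F)
set_option quotPrecheck false in
local notation "⟪" x ", " y "⟫" => (HS F q (m + 2)).h x y

theorem exists_common_base {v : V} (hv : ⟪v, v⟫ = 1) : ∃ x, D.Common D.base x v := by
  obtain ⟨x, hx, h0, h1⟩ := exists_perp2 (q := q) (N := m + 2) (by have := D.hm; omega) (D.pt_unit D.base) hv
  exact ⟨x, hx, h0, h1⟩

/-- The lift of a unit vector. -/
noncomputable def sec (v : V) : D.Lift :=
  @dite _ (∃ x, D.Common D.base x v) (Classical.propDecidable _) (fun h => D.via D.base h.choose v) fun _ => D.base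

theorem adj_step_base {v : V} (hv : ⟪v, v⟫ = 1) (h0 : ⟪v, D.pt D.base⟫ = 0) :
    D.Adj D.base (D.step D.base v) := (D.step_spec hv h0).1

variable (hq : 3 ≤ q) (hbig : 5 ≤ m + 2 ∨ 4 ≤ q)
include hq hbig

theorem sec_eq {x v : V} (hv : ⟪v, v⟫ = 1) (hx : D.Common D.base x v) : D.sec v = D.via D.base x v := by
  have h : ∃ x, D.Common D.base x v := ⟨x, hx⟩
  rw [sec, dif_pos h]
  exact D.indep_all hq hbig hv _ _ h.choose_spec hx

theorem sec_pt {v : V} (hv : ⟪v, v⟫ = 1) : D.pt (D.sec v) = v := by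
  obtain ⟨x, hx⟩ := D.exists_common_base hv
  rw [D.sec_eq hq hbig hv hx, (D.via_spec hx hv).2]

theorem sec_base : D.sec (D.pt D.base) = D.base := by
  obtain ⟨x, hx⟩ := D.exists_common_base (D.pt_unit D.base)
  rw [D.sec_eq hq hbig (D.pt_unit D.base) hx]
  exact D.step_eq (D.step_spec hx.1 hx.2.1).1.symm rfl

theorem sec_of_adj {v : V} (hv : ⟪v, v⟫ = 1) (h0 : ⟪v, D.pt D.base⟫ = 0) : D.sec v = D.step D.base v := by
  obtain ⟨x, hx⟩ := D.exists_common_base hv
  rw [D.sec_eq hq hbig hv hx]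
  have h := D.triangle (D.step_spec hv h0).1 hx.1 hx.2.1 (by rw [(D.step_spec hv h0).2]; exact hx.2.2)
  exact D.step_eq h (D.step_spec hv h0).2

/-- Adjacency through a common neighbour. -/
theorem sec_adj_common {v v' z : V} (hv : ⟪v, v⟫ = 1) (hv' : ⟪v', v'⟫ = 1) (hvv : ⟪v, v'⟫ = 0)
    (hz : D.Common D.base z v) (hz' : D.Common D.base z v') : D.Adj (D.sec v) (D.sec v') := by
  rw [D.sec_eq hq hbig hv hz, D.sec_eq hq hbig hv' hz']
  have sv := D.via_spec hz' hv'
  exact D.triangle sv.1 hv (by rw [(D.step_spec hz.1 hz.2.1).2]; exact (HS F q _).eq_zero_symm hz.2.2)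
    (by rw [sv.2]; exact hvv)

theorem sec_adj {v v' : V} (hv : ⟪v, v⟫ = 1) (hv' : ⟪v', v'⟫ = 1) (hvv : ⟪v, v'⟫ = 0) :
    D.Adj (D.sec v) (D.sec v') := by
  have sy := @Cfsg.Lib.Classical.HermSpace.eq_zero_symm _ _ _ _ _ (HS F q (m + 2))
  have hee := D.pt_unit D.base
  set e := D.pt D.base with he
  by_cases h0 : ⟪v, e⟫ = 0
  · rw [D.sec_of_adj hq hbig hv h0, D.sec_eq hq hbig hv' (x := v) ⟨hv, h0, hvv⟩]
    exact (D.via_spec ⟨hv, h0, hvv⟩ hv').1
  by_cases h0' : ⟪v', e⟫ = 0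
  · rw [D.sec_of_adj hq hbig hv' h0', D.sec_eq hq hbig hv (x := v') ⟨hv', h0', sy hvv⟩]
    exact (D.via_spec ⟨hv', h0', sy hvv⟩ hv).1.symm
  by_cases hc : ⟪v, e⟫ * σ ⟪v, e⟫ + ⟪v', e⟫ * σ ⟪v', e⟫ = 1
  swap
  · obtain ⟨z, hz, hze, hzv, hzv'⟩ := exists_perp3 (q := q) (N := m + 2) (by have := D.hm; omega) hee hv hv' hvv
      (Or.inr (by
        rw [(HS F q _).symm e v, (HS F q _).symm e v', hs_sigma, cb_cb, cb_cb]
        intro h; exact hc (by linear_combination h)))
    exact D.sec_adj_common hq hbig hv hv' hvv ⟨hz, hze, hzv⟩ ⟨hz, hze, hzv'⟩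
  set a := ⟪v, e⟫ with ha
  set b := ⟪v', e⟫ with hb
  have ha0 : a * σ a ≠ 0 := mul_ne_zero h0 fun h => h0 (cb_eq_zero.mp h)
  obtain ⟨y, hy, hye, hyv', hne⟩ : ∃ y, ⟪y, y⟫ = 1 ∧ ⟪y, e⟫ = 0 ∧ ⟪y, v'⟫ = 0 ∧
      ⟪v, y⟫ * σ ⟪v, y⟫ + a * σ a ≠ 1 := by
    obtain ⟨y0, h1, h2, h3⟩ := exists_perp2 (q := q) (N := m + 2) (by have := D.hm; omega) hee hv'
    by_cases hb0 : ⟪v, y0⟫ * σ ⟪v, y0⟫ + a * σ a = 1
    swap
    · exact ⟨y0, h1, h2, h3, hb0⟩
    have hb' : ⟪v, y0⟫ * σ ⟪v, y0⟫ = b * σ b := by linear_combination hb0 - hc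
    have hbne : b * σ b ≠ 0 := mul_ne_zero h0' fun h => h0' (cb_eq_zero.mp h)
    set e' := e - σ b • v' with he'
    have he'v' : ⟪e', v'⟫ = 0 := by
      rw [he', (HS F q _).sub_left, (HS F q _).smul_left, hv', (HS F q _).symm e v', hs_sigma, ← hb, mul_one,
        sub_self]
    have he'e : ⟪e', e⟫ = a * σ a := by
      rw [he', (HS F q _).sub_left, (HS F q _).smul_left, hee, ← hb]
      linear_combination -hc
    set r := v - (a / (a * σ a)) • e' with hr'
    have hve' : ⟪v, e'⟫ = a := by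
      rw [he', (HS F q _).sub_right, (HS F q _).smul_right, hvv, mul_zero, sub_zero]
    have hre' : ⟪r, e⟫ = 0 := by
      rw [hr', (HS F q _).sub_left, (HS F q _).smul_left, he'e, div_mul_cancel₀ _ ha0, sub_self]
    have hrv' : ⟪r, v'⟫ = 0 := by
      rw [hr', (HS F q _).sub_left, (HS F q _).smul_left, he'v', hvv, mul_zero, sub_zero]
    have hrr : ⟪r, r⟫ = 0 := by
      have h5 : ⟪r, e'⟫ = 0 := by
        rw [he', (HS F q _).sub_right, (HS F q _).smul_right, hre', hrv', mul_zero, sub_zero]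
      conv_lhs => arg 3; rw [hr']
      rw [(HS F q _).sub_right, (HS F q _).smul_right, h5, mul_zero, sub_zero, hr', (HS F q _).sub_left,
        (HS F q _).smul_left, hv, (HS F q _).symm e' v, hve', hs_sigma]
      have hσa : σ a ≠ 0 := fun h => h0 (cb_eq_zero.mp h)
      field_simp
      ring
    have hy0r : ⟪y0, r⟫ = σ ⟪v, y0⟫ := by
      rw [hr', (HS F q _).sub_right, (HS F q _).smul_right, he', (HS F q _).sub_right, (HS F q _).smul_right,
        h2, h3, (HS F q _).symm y0 v, hs_sigma]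
      ring
    obtain ⟨c, d, hc0, hc1, hn, hcr⟩ := adjust (q := q) hq h1 hrr (by
      rw [hy0r]; intro h; rw [h, mul_zero] at hb'; exact hbne hb'.symm)
    refine ⟨c • y0 + d • r, hn, ?_, ?_, ?_⟩
    · rw [(HS F q _).add_left, (HS F q _).smul_left, (HS F q _).smul_left, h2, hre']; ring
    · rw [(HS F q _).add_left, (HS F q _).smul_left, (HS F q _).smul_left, h3, hrv']; ring
    · have e5 : ⟪v, c • y0 + d • r⟫ = σ c * ⟪v, y0⟫ := by
        conv_lhs => rw [show v = r + (a / (a * σ a)) • e' by rw [hr']; abel]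
        have : ⟪e', c • y0 + d • r⟫ = 0 := by
          rw [he', (HS F q _).sub_left, (HS F q _).smul_left, (HS F q _).add_right, (HS F q _).smul_right,
            (HS F q _).smul_right, sy h2, sy hre', (HS F q _).add_right, (HS F q _).smul_right,
            (HS F q _).smul_right, sy h3, sy hrv']
          ring
        rw [(HS F q _).add_left, (HS F q _).smul_left, this, mul_zero, add_zero, (HS F q _).symm r, hcr,
          hs_sigma, map_mul, hy0r, cb_cb]
      intro h
      rw [e5, map_mul, cb_cb] at h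
      refine hc1 (mul_right_cancel₀ hbne ?_)
      linear_combination h - hc - c * σ c * hb'
  obtain ⟨z, hz, hzv, hzy, hze⟩ := exists_perp3 (q := q) (N := m + 2) (by have := D.hm; omega) hv hy hee hye
    (Or.inr (by rw [← ha]; exact hne))
  have hcy : D.Common D.base y v' := ⟨hy, hye, hyv'⟩
  have hcz : D.Common D.base z v := ⟨hz, hze, hzv⟩
  -- the square through `z`, `v`, `v'`, `y`
  have sZ := D.step_spec hz hze
  have sY := D.step_spec hy hye
  have sV := D.via_spec hcz hv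
  have sV' := D.via_spec hcy hv'
  have aZY : D.Adj (D.step D.base z) (D.step D.base y) :=
    D.triangle sY.1 hz hze (by rw [sY.2]; exact hzy)
  have c1 : D.Common (D.step D.base z) y v' := ⟨hy, by rw [sZ.2]; exact sy hzy, hyv'⟩
  have c2 : D.Common (D.step D.base z) v v' := ⟨hv, by rw [sZ.2]; exact sy hzv, hvv⟩
  have key := D.indep_all hq hbig hv' _ _ c1 c2
  rw [via, D.step_eq aZY sY.2] at key
  change D.via D.base y v' = D.step (D.via D.base z v) v' at key
  rw [D.sec_eq hq hbig hv hcz, D.sec_eq hq hbig hv' hcy, key]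
  exact (D.step_spec hv' (by rw [sV.2]; exact sy hvv)).1

/-- Sections are unique. -/
theorem sec_unique (S : V → D.Lift) (hpt : ∀ v, ⟪v, v⟫ = 1 → D.pt (S v) = v) (h0 : S (D.pt D.base) = D.base)
    (hadj : ∀ v v', ⟪v, v⟫ = 1 → ⟪v', v'⟫ = 1 → ⟪v, v'⟫ = 0 → D.Adj (S v) (S v')) {v : V}
    (hv : ⟪v, v⟫ = 1) : S v = D.sec v := by
  obtain ⟨x, hx⟩ := D.exists_common_base hv
  rw [D.sec_eq hq hbig hv hx, via]
  have h1 := hadj _ _ (D.pt_unit D.base) hx.1 ((HS F q _).eq_zero_symm hx.2.1)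
  rw [h0] at h1
  rw [D.step_eq h1 (hpt x hx.1), D.step_eq (hadj x v hx.1 hv hx.2.2) (hpt v hv)]

omit hq hbig in
/-- Elements compatible with the section. -/
def Good (g : ↥(Cfsg.SU (m + 2) F q) × G) : Prop := ∀ v : V, ⟪v, v⟫ = 1 → g • D.sec v = D.sec (act g.1 v)

theorem good_of_base {g : ↥(Cfsg.SU (m + 2) F q) × G} (h : g • D.base = D.sec (act g.1 (D.pt D.base))) :
    D.Good g := by
  intro v hv
  have hu : ∀ w : V, ⟪w, w⟫ = 1 → ⟪act g.1 w, act g.1 w⟫ = 1 := fun w hw => (act_h g.1 w w).trans hw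
  have := D.sec_unique hq hbig (fun w => g⁻¹ • D.sec (act g.1 w))
    (fun w hw => by rw [pt_smul, D.sec_pt hq hbig (hu w hw), Prod.fst_inv, act_inv_act])
    (by rw [← h, inv_smul_smul])
    (fun w w' hw hw' hww => (D.sec_adj hq hbig (hu w hw) (hu w' hw') (by rw [act_h]; exact hww)).smul _) hv
  rw [← this, smul_inv_smul]

theorem good_graphA {a : ↥(Cfsg.SU (m + 2) F q) × G} (ha : a ∈ D.graphA) : D.Good a := by
  refine D.good_of_base hq hbig ?_
  rw [D.smul_base_of_mem ha, ← D.pt_smul, D.smul_base_of_mem ha, D.sec_base hq hbig]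

theorem good_kp (k : Cfsg.SU 3 F q) : D.Good (D.kp k) := by
  refine D.good_of_base hq hbig ?_
  rw [D.smul_base, show act (D.kp k).1 (D.pt D.base) = D.pt (D.cl (D.kp k)) from by rw [D.pt_base]; rfl]
  have direct : ∀ k' : Cfsg.SU 3 F q, (act k' (ev 0)) 0 * σ ((act k' (ev 0)) 0) ≠ 1 →
      D.sec (D.pt (D.cl (D.kp k'))) = D.cl (D.kp k') := by
    intro k' hk'
    set u := act k' (ev 0) with hu
    have hu1 : u 0 * σ (u 0) + u 1 * σ (u 1) + u 2 * σ (u 2) = 1 := by
      have := act_h k' (ev 0) (ev 0)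
      rwa [ev_ev, if_pos rfl, ← hu, hs_h, Fin.sum_univ_three] at this
    obtain ⟨c, hc⟩ := (conjF (F := F) (q := q)).norm_surjective (a := u 1 * σ (u 1) + u 2 * σ (u 2))
      (by simp only [map_add, map_mul, cb_cb]; ring)
    have hc0 : c * σ c ≠ 0 := by
      rw [hc]; intro h; exact hk' (by linear_combination hu1 - h)
    have hcne : c ≠ 0 := fun h => hc0 (by rw [h, zero_mul])
    have hσc : σ c ≠ 0 := fun h => hcne (cb_eq_zero.mp h)
    have hn : (-σ (u 2) / c) * σ (-σ (u 2) / c) + (σ (u 1) / c) * σ (σ (u 1) / c) = 1 := by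
      rw [map_div₀, map_div₀, map_neg, cb_cb, cb_cb]
      field_simp
      linear_combination -hc
    set k'' := blk κ12 (su2 _ _ hn) * w3 F q with hk''
    have h'' : act k'' (ev 0) = ![0, -σ (u 2) / c, σ (u 1) / c] := by
      rw [hk'', act_mul, w3_ev0, blk12_ev1]
    have horth : (HS F q 3).h u (act k'' (ev 0)) = 0 := by
      rw [h'', hs_h, Fin.sum_univ_three]
      simp [map_div₀, cb_cb]
      ring
    have a1 : D.Adj D.base (D.cl (D.kp k'')) := D.adj_base_kp (by rw [h'']; rfl)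
    have a2 : D.Adj (D.cl (D.kp k'')) (D.cl (D.kp k')) := D.adj_kp_kp horth
    have hco : D.Common D.base (D.pt (D.cl (D.kp k''))) (D.pt (D.cl (D.kp k'))) :=
      ⟨D.pt_unit _, a1.ortho, a2.symm.ortho⟩
    rw [D.sec_eq hq hbig (D.pt_unit _) hco, via, D.step_eq a1 rfl, D.step_eq a2 rfl]
  by_cases hk : (act k (ev 0)) 0 * σ ((act k (ev 0)) 0) = 1
  swap
  · exact (direct k hk).symm
  -- choose a neighbour inside the block with norm different from one
  have hz1 : (HS F q 3).h (act k (ev 1)) (act k (ev 1)) = 1 := by rw [act_h, ev_ev, if_pos rfl]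
  obtain ⟨s, hs⟩ : ∃ s : Cfsg.SU 2 F q, (act (k * blk κ12 s) (ev 1)) 0 * σ ((act (k * blk κ12 s) (ev 1)) 0) ≠ 1 := by
    set z := act k (ev 1) with hz
    set v := act k (ev 0) with hv
    by_cases hb : z 0 * σ (z 0) = 1
    swap
    · refine ⟨1, ?_⟩
      rw [map_one, mul_one]
      exact hb
    set r : Fin 3 → F := ev 0 - σ (v 0) • v with hr
    have hvv : (HS F q 3).h v v = 1 := by rw [hv, act_h, ev_ev, if_pos rfl]
    have hrv : (HS F q 3).h r v = 0 := by
      rw [hr, (HS F q _).sub_left, (HS F q _).smul_left, hvv, ev_h, mul_one, sub_self]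
    have hzv : (HS F q 3).h z v = 0 := by rw [hz, hv, act_h, ev_ev, if_neg (by decide)]
    have hrr : (HS F q 3).h r r = 0 := by
      conv_lhs => arg 3; rw [hr]
      rw [(HS F q _).sub_right, (HS F q _).smul_right, hrv, mul_zero, sub_zero, hr, (HS F q _).sub_left,
        (HS F q _).smul_left, ev_ev, if_pos rfl, h_ev]
      linear_combination -hk
    have hzr : (HS F q 3).h z r = z 0 := by
      rw [hr, (HS F q _).sub_right, (HS F q _).smul_right, hzv, h_ev, mul_zero, sub_zero]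
    obtain ⟨c, d, hc0, hc1, hn, hcr⟩ := adjust (q := q) hq hz1 hrr (by
      rw [hzr]; intro h; rw [h, zero_mul] at hb; exact zero_ne_one hb)
    set u := c • z + d • r with hu
    have huv : (HS F q 3).h u v = 0 := by
      rw [hu, (HS F q _).add_left, (HS F q _).smul_left, (HS F q _).smul_left, hzv, hrv]; ring
    set u' := act k⁻¹ u with hu'
    have hu'0 : u' 0 = 0 := by
      rw [← h_ev (q := q) u' 0, hu', ← act_h k, act_act_inv, ← hv, huv]
    have hnorm : u' 1 * σ (u' 1) + u' 2 * σ (u' 2) = 1 := by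
      have : (HS F q 3).h u' u' = 1 := by rw [hu', act_h]; exact hn
      rw [hs_h, Fin.sum_univ_three, hu'0] at this
      linear_combination this
    refine ⟨su2 _ _ hnorm, ?_⟩
    rw [act_mul, blk12_ev1, show ![0, u' 1, u' 2] = u' from by
      funext i; fin_cases i <;> simp [hu'0], hu', act_act_inv]
    have hu0 : u 0 = c * z 0 := by
      have e1 : (HS F q 3).h u r = u 0 := by
        rw [hr, (HS F q _).sub_right, (HS F q _).smul_right, huv, h_ev, mul_zero, sub_zero]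
      rw [← e1, hcr, hzr]
    intro h
    refine hc1 ?_
    rw [hu0, map_mul] at h
    linear_combination h - c * σ c * hb
  set k' := k * blk κ12 s * w3 F q with hk'
  have h' : act k' (ev 0) = act (k * blk κ12 s) (ev 1) := by rw [hk', act_mul, w3_ev0]
  have e1 := direct k' (by rw [h']; exact hs)
  have a2 : D.Adj (D.cl (D.kp k)) (D.cl (D.kp k')) := D.adj_kp_kp (by
    rw [h', act_mul, act_h, show act (blk κ12 s) (ev 1) = pad κ12 (act s (ev 0)) from blk_ev κ12 s 0, h_ev,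
      pad_notMem _ _ κ12_zero])
  have h3 := D.sec_adj hq hbig (D.pt_unit (D.cl (D.kp k'))) (D.pt_unit (D.cl (D.kp k))) a2.ortho
  rw [e1] at h3
  rw [← D.step_eq h3 (D.sec_pt hq hbig (D.pt_unit _)), D.step_eq a2.symm rfl]

omit hq hbig in
/-- The graph of the glued map. -/
noncomputable def graph : Subgroup (↥(Cfsg.SU (m + 2) F q) × G) :=
  Subgroup.closure ((D.graphA : Set (↥(Cfsg.SU (m + 2) F q) × G)) ∪ Set.range D.kp)

theorem good_graph {g : ↥(Cfsg.SU (m + 2) F q) × G} (hg : g ∈ D.graph) : D.Good g := by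
  induction hg using Subgroup.closure_induction with
  | mem x hx =>
    rcases hx with hx | ⟨k, rfl⟩
    · exact D.good_graphA hq hbig hx
    · exact D.good_kp hq hbig k
  | one => intro v _; rw [one_smul, Prod.fst_one, act_one]
  | mul x y _ _ hx hy =>
    intro v hv
    rw [mul_smul, hy v hv, hx _ ((act_h _ _ _).trans hv), Prod.fst_mul, act_mul]
  | inv x _ hx =>
    intro v hv
    rw [inv_smul_eq_iff, hx _ ((act_h _ _ _).trans hv), Prod.fst_inv, act_act_inv]

theorem graph_inj {g : G} (hg : ((1 : ↥(Cfsg.SU (m + 2) F q)), g) ∈ D.graph) : g = 1 := by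
  have := D.good_graph hq hbig hg _ (D.pt_unit D.base)
  rw [act_one, D.sec_base hq hbig, D.smul_base] at this
  obtain ⟨a, ha⟩ := QuotientGroup.eq.mp (this.symm : D.cl 1 = D.cl (1, g))
  rw [inv_one, one_mul] at ha
  have h1 : a = 1 := Subtype.ext (congrArg Prod.fst ha)
  have h2 : D.ψ a = g := congrArg Prod.snd ha
  rw [← h2, h1, map_one]

/-- The glued homomorphism. -/
theorem exists_hom : ∃ Φ : ↥(Cfsg.SU (m + 2) F q) →* G, (∀ a : ↥(stab0 F q m), Φ a.1 = D.ψ a) ∧
    (∀ k : Cfsg.SU 3 F q, Φ (blk (κ3 D.hm) k) = D.φ k) ∧ Φ.range ≤ D.ψ.range ⊔ D.φ.range := by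
  let p := (MonoidHom.fst ↥(Cfsg.SU (m + 2) F q) G).comp D.graph.subtype
  have hinj : Function.Injective p := by
    rw [injective_iff_map_eq_one]
    rintro ⟨⟨s, g⟩, h⟩ (rfl : s = 1)
    exact Subtype.ext (Prod.ext rfl (D.graph_inj hq hbig h))
  have hsurj : Function.Surjective p := by
    rw [← MonoidHom.range_eq_top]
    refine gen_top D.hm _ (fun a ha => ?_) ?_
    · exact ⟨⟨(a, D.ψ ⟨a, ha⟩), Subgroup.subset_closure (Or.inl (D.mem_graphA ha))⟩, rfl⟩
    · exact ⟨⟨D.kp (w3 F q), Subgroup.subset_closure (Or.inr ⟨_, rfl⟩)⟩, rfl⟩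
  let E := MulEquiv.ofBijective p ⟨hinj, hsurj⟩
  let Φ : ↥(Cfsg.SU (m + 2) F q) →* G :=
    ((MonoidHom.snd ↥(Cfsg.SU (m + 2) F q) G).comp D.graph.subtype).comp E.symm.toMonoidHom
  have hΦ : ∀ x : D.graph, Φ x.1.1 = x.1.2 := fun x => by
    show (((E.symm (p x)) : D.graph) : ↥(Cfsg.SU (m + 2) F q) × G).2 = _
    rw [show p x = E x from rfl, E.symm_apply_apply]
  refine ⟨Φ, fun a => hΦ ⟨_, Subgroup.subset_closure (Or.inl (D.mem_graphA a.2))⟩,
    fun k => hΦ ⟨_, Subgroup.subset_closure (Or.inr ⟨k, rfl⟩)⟩, ?_⟩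
  rintro _ ⟨s, rfl⟩
  have hle : D.graph.map (MonoidHom.snd _ G) ≤ D.ψ.range ⊔ D.φ.range := by
    rw [graph, MonoidHom.map_closure, Subgroup.closure_le]
    rintro _ ⟨x, hx | ⟨k, rfl⟩, rfl⟩
    · obtain ⟨a, rfl⟩ := hx
      exact Subgroup.mem_sup_left ⟨a, rfl⟩
    · exact Subgroup.mem_sup_right ⟨k, rfl⟩
  exact hle ⟨_, (E.symm s).2, rfl⟩

end Gluing

end Cfsg.Lib.Known.Phan
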