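import Cfsg.Agent.Known.Phan.Lifts

/-! Two step lifts do not depend on the middle vertex. -/

set_option autoImplicit false
set_option linter.unusedSimpArgs false
set_option linter.unusedSectionVars false
set_option linter.style.haveILetI false

namespace Cfsg.Lib.Known.Phan

universe u v

variable {F : Type u} [Field F] [Fintype F] {q : ℕ} [hF : Fact (Fintype.card F = q ^ 2)]

local notation "σ" => cb F q

/-- For four elements: a point of norm one at distance of norm one. -/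
theorem exists_split_four (hq : q = 4) {t : F} (h1 : t * σ t ≠ 1) (h0 : t ≠ 0) :
    ∃ k : F, k * σ k = 1 ∧ (t - k) * σ (t - k) = 1 := by
  have hcard : Fintype.card F = 4 ^ 2 := hq ▸ hF.out
  have two : (2 : F) = 0 := by
    have h := FiniteField.cast_card_eq_zero F
    rw [hcard] at h
    have h' : (2 : F) ^ 4 = 0 := by rw [← h]; push_cast; norm_num
    exact pow_eq_zero_iff (by norm_num) |>.mp h'
  set T := t * σ t with hT
  have hσt : σ t ≠ 0 := fun h => h0 (cb_eq_zero.mp h)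
  have hT0 : T ≠ 0 := mul_ne_zero h0 hσt
  have hT4 : T ^ 4 = T := by rw [← hq, ← cb_apply (q := q), hT, map_mul, cb_cb, mul_comm]
  have hT2 : T ^ 2 + T + 1 = 0 := by
    have : (T - 1) * T * (T ^ 2 + T + 1) = 0 := by linear_combination hT4
    rcases mul_eq_zero.mp this with h | h
    · rcases mul_eq_zero.mp h with h | h
      · exact absurd (sub_eq_zero.mp h) h1
      · exact absurd h hT0
    · exact h
  obtain ⟨Y, hY⟩ := (conjF (F := F) (q := q)).exists_trace_one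
  have hY1 : σ Y = Y + 1 := by linear_combination hY - Y * two
  obtain ⟨Y, hY1, hY2⟩ : ∃ Y : F, σ Y = Y + 1 ∧ Y ^ 2 + Y = T ^ 2 := by
    have hZ0 : Y ^ 2 + Y ≠ 0 := fun h => by
      rcases mul_eq_zero.mp (show Y * (Y + 1) = 0 by linear_combination h) with h' | h'
      · rw [h', map_zero, zero_add] at hY1; exact zero_ne_one hY1
      · rw [show Y = 1 by linear_combination h' - two, map_one] at hY1
        exact one_ne_zero (by linear_combination -hY1 : (1 : F) = 0)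
    have hZ1 : Y ^ 2 + Y ≠ 1 := fun h => by
      rw [cb_apply, hq] at hY1
      exact one_ne_zero (by linear_combination hY1 - (Y ^ 2 - Y + 2) * h + (2 * Y) * two : (1 : F) = 0)
    have hZ4 : σ (Y ^ 2 + Y) = Y ^ 2 + Y := by
      rw [map_add, map_pow, hY1]
      linear_combination (Y + 1) * two
    have key : (Y ^ 2 + Y - T) * (Y ^ 2 + Y - T ^ 2) = 0 := by
      have hZ2 : (Y ^ 2 + Y) ^ 2 + (Y ^ 2 + Y) + 1 = 0 := by
        rw [cb_apply, hq] at hZ4
        have : (Y ^ 2 + Y - 1) * (Y ^ 2 + Y) * ((Y ^ 2 + Y) ^ 2 + (Y ^ 2 + Y) + 1) = 0 := by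
          linear_combination hZ4
        rcases mul_eq_zero.mp this with h | h
        · rcases mul_eq_zero.mp h with h | h
          · exact absurd (sub_eq_zero.mp h) hZ1
          · exact absurd h hZ0
        · exact h
      linear_combination hZ2 + ((T - 1) - (Y ^ 2 + Y)) * hT2
    rcases mul_eq_zero.mp key with h | h
    · refine ⟨Y ^ 2, by rw [map_pow, hY1]; linear_combination Y * two, ?_⟩
      linear_combination (Y ^ 2 + Y + T) * h - (Y ^ 3) * two
    · exact ⟨Y, hY1, sub_eq_zero.mp h⟩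
  set s := T * Y with hs
  have hσT : σ T = T := by rw [hT, map_mul, cb_cb, mul_comm]
  have hNs : s * σ s = T := by
    rw [hs, map_mul, hσT, hY1]
    linear_combination T ^ 2 * hY2 + hT4
  have htr : s + σ s = T := by
    rw [hs, map_mul, hσT, hY1]
    linear_combination T * Y * two
  refine ⟨σ (s / t), ?_, ?_⟩
  · rw [cb_cb, map_div₀]
    field_simp
    linear_combination hNs + hT
  · rw [map_sub, cb_cb]
    have e1 : t * (s / t) = s := mul_div_cancel₀ _ h0
    have e2 : σ (s / t) * σ t = σ s := by rw [← map_mul, div_mul_cancel₀ _ h0]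
    have e3 : σ (s / t) * (s / t) = 1 := by
      rw [map_div₀, div_mul_div_comm, mul_comm (σ s) s, hNs, mul_comm (σ t) t, ← hT, div_self hT0]
    linear_combination e3 - e1 - e2 - htr - hT

namespace Gluing

variable {m : ℕ} {G : Type v} [Group G] (D : Gluing F q m G)

local notation "V" => (Fin (m + 2) → F)
set_option quotPrecheck false in
local notation "⟪" x ", " y "⟫" => (HS F q (m + 2)).h x y

theorem common_symm_pt {X : D.Lift} {x v : V} (hx : D.Common X x v) :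
    ⟪D.pt X, D.pt (D.step X x)⟫ = 0 := (D.step_spec hx.1 hx.2.1).1.symm.ortho

/-- The two base vectors span: explicit lift. -/
theorem via_base_pair {c s : F} (hn : c * σ c + s * σ s = 1) (hs : s ≠ 0) {x : V}
    (hx : D.Common D.base x (pad (κ3 D.hm) ![c, s, 0])) :
    D.via D.base x (pad (κ3 D.hm) ![c, s, 0]) = D.cl (D.kp (blk κ01 (su2 c s hn))) := by
  obtain ⟨hx1, hx2, hx3⟩ := hx
  rw [D.pt_base] at hx2
  have e : pad (κ3 D.hm) ![c, s, 0] = c • ev 0 + s • (ev 1 : V) := by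
    rw [← κ3_zero D.hm, ← κ3_one D.hm]
    funext j
    by_cases hj : j ∈ Set.range (κ3 D.hm)
    · obtain ⟨i, rfl⟩ := hj
      rw [pad_mem]
      fin_cases i <;> simp [ev, (κ3 D.hm).injective.eq_iff]
    · rw [pad_notMem _ _ hj]
      have hne : ∀ i, j ≠ κ3 D.hm i := fun i h => hj ⟨i, h.symm⟩
      simp [ev, hne 0, hne 1]
  have hx3' : ⟪x, ev 1⟫ = 0 := by
    rw [e, (HS F q _).add_right, (HS F q _).smul_right, (HS F q _).smul_right, hx2, mul_zero, zero_add,
      mul_eq_zero] at hx3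
    exact hx3.resolve_left fun h => hs (cb_eq_zero.mp h)
  obtain ⟨b, hb, hb1, hb2⟩ := exists_stab2_move (q := q) D.hm hx1 hx2 hx3'
  set β : ↥(Cfsg.SU (m + 2) F q) × G := (b, D.ψ ⟨b, hb⟩) with hβ
  set g := blk κ01 (su2 c s hn) with hg
  set h3 : Cfsg.SU 3 F q := blk κ12 (su2 0 1 (by simp)) * w3 F q with hh3
  have hh : act h3 (ev 0) = ev 2 := by
    rw [hh3, act_mul, w3_ev0, blk12_ev1]
    funext i
    fin_cases i <;> simp [ev]
  have a1 : D.Adj D.base (β • D.cl (D.kp h3)) := by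
    have := (D.adj_base_kp (k := h3) (by rw [hh]; simp [ev])).smul β
    rwa [D.smul_base_of_mem (D.mem_graphA hb)] at this
  have hgv : act g (ev 0) = ![c, s, 0] := blk01_ev0 _ _ _
  have a2 : D.Adj (β • D.cl (D.kp h3)) (D.cl (D.kp g)) := by
    have := (D.adj_kp_kp (k := h3) (k' := g) (by rw [hh, hgv, h_ev]; rfl)).smul β
    rwa [D.smul_cl β (D.kp g), D.cl_kp01 ⟨b, hb⟩ hb1] at this
  have hp : D.pt (β • D.cl (D.kp h3)) = x := by rw [pt_smul, D.pt_kp, hh, pad_ev, hb2]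
  rw [via, D.step_eq a1 hp]
  exact D.step_eq a2 (by rw [D.pt_kp, hgv])

variable (hq : 3 ≤ q)
include hq

theorem indep_scalar {X : D.Lift} {c : F} {v : V} (hv : ⟪v, v⟫ = 1) (hc : v = c • D.pt X) :
    D.Indep X v := by
  intro x y hx hy
  obtain ⟨z, z', hz, hz', hzu, hz'u, hxz, hzz, hzy⟩ :=
    exists_link (q := q) (N := m + 2) (by have := D.hm; omega) hq (D.pt_unit X) hx.1 hy.1 hx.2.1 hy.2.1
  have com : ∀ w : V, ⟪w, D.pt X⟫ = 0 → ⟪w, v⟫ = 0 := fun w hw => by
    rw [hc, (HS F q _).smul_right, hw, mul_zero]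
  rw [D.wheel hx ⟨hz, hzu, com z hzu⟩ hxz hv, D.wheel ⟨hz, hzu, com z hzu⟩ ⟨hz', hz'u, com z' hz'u⟩ hzz hv,
    D.wheel ⟨hz', hz'u, com z' hz'u⟩ hy hzy hv]

theorem indep_nondeg {X : D.Lift} {v : V} (hv : ⟪v, v⟫ = 1) (hne : ⟪v, D.pt X⟫ * σ ⟪v, D.pt X⟫ ≠ 1) :
    D.Indep X v := by
  obtain ⟨γ, rfl⟩ := D.cl_surjective X
  rw [pt_cl, ← act_act_inv γ.1 v, act_h] at hne
  set v0 := act γ.1⁻¹ v with hv0def
  have hv0 : ⟪v0, v0⟫ = 1 := by rw [hv0def, act_h]; exact hv
  set c := ⟪v0, ev 0⟫ with hc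
  set v' := v0 - c • ev 0 with hv'
  have hv'0 : ⟪v', ev 0⟫ = 0 := by
    rw [hv', (HS F q _).sub_left, (HS F q _).smul_left, ev_ev, if_pos rfl, mul_one, ← hc, sub_self]
  have hn' : ⟪v', v'⟫ = 1 - c * σ c := by
    have : ⟪v', v'⟫ = ⟪v', v0⟫ := by
      conv_lhs => arg 3; rw [hv']
      rw [(HS F q _).sub_right, (HS F q _).smul_right, hv'0, mul_zero, sub_zero]
    rw [this, hv', (HS F q _).sub_left, (HS F q _).smul_left, hv0, (HS F q _).symm (ev 0) v0, hs_sigma, ← hc]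
  obtain ⟨d, hd0, hd⟩ := exists_scale_unit (q := q) (w := v') (by
    rw [hn']; exact fun h => hne (sub_eq_zero.mp h).symm)
  obtain ⟨a, ha, hav⟩ := exists_stab_move (q := q) (by have := D.hm; omega) hd
    (by rw [(HS F q _).smul_left, hv'0, mul_zero])
  have hsum : v0 = act a (c • ev 0 + d⁻¹ • ev 1) := by
    rw [act_add, act_smul, act_smul, mem_stab0.mp ha, hav, smul_smul, inv_mul_cancel₀ hd0, one_smul, hv']
    abel
  have hnorm : c * σ c + d⁻¹ * σ d⁻¹ = 1 := by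
    rw [(HS F q _).smul_left, (HS F q _).smul_right, hn', hs_sigma] at hd
    have hσd : σ d ≠ 0 := fun h => hd0 (cb_eq_zero.mp h)
    rw [map_inv₀]
    field_simp
    linear_combination -hd
  have hpad : pad (κ3 D.hm) ![c, d⁻¹, 0] = c • ev 0 + d⁻¹ • (ev 1 : V) := by
    rw [← κ3_zero D.hm, ← κ3_one D.hm]
    funext j
    by_cases hj : j ∈ Set.range (κ3 D.hm)
    · obtain ⟨i, rfl⟩ := hj
      rw [pad_mem]
      fin_cases i <;> simp [ev, (κ3 D.hm).injective.eq_iff]
    · rw [pad_notMem _ _ hj]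
      have hne : ∀ i, j ≠ κ3 D.hm i := fun i h => hj ⟨i, h.symm⟩
      simp [ev, hne 0, hne 1]
  have key : D.Indep D.base (pad (κ3 D.hm) ![c, d⁻¹, 0]) := fun x y hx hy => by
    rw [D.via_base_pair hnorm (inv_ne_zero hd0) hx, D.via_base_pair hnorm (inv_ne_zero hd0) hy]
  have hu : ⟪pad (κ3 D.hm) ![c, d⁻¹, 0], pad (κ3 D.hm) ![c, d⁻¹, 0]⟫ = 1 := by
    rw [h_pad, hs_h, Fin.sum_univ_three]
    simpa using hnorm
  have fin := D.indep_smul (γ * (a, D.ψ ⟨a, ha⟩)) hu key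
  rw [D.smul_base, D.cl_mul_of_mem (D.mem_graphA ha), hpad, Prod.fst_mul, act_mul, ← hsum, hv0def,
    act_act_inv] at fin
  exact fin

/-- Exchange of diagonals. -/
theorem swap {X : D.Lift} {x y v : V} (hv : ⟪v, v⟫ = 1) (hx : D.Common X x v) (hy : D.Common X y v)
    (h : D.Indep (D.step X x) y) : D.via X x v = D.via X y v := by
  have sx := D.step_spec hx.1 hx.2.1
  have sy := D.step_spec hy.1 hy.2.1
  have sv := D.via_spec hx hv
  have c1 : D.Common (D.step X x) (D.pt X) y :=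
    ⟨D.pt_unit X, sx.1.symm.ortho, (HS F q _).eq_zero_symm hy.2.1⟩
  have c2 : D.Common (D.step X x) v y :=
    ⟨hv, by rw [sx.2]; exact (HS F q _).eq_zero_symm hx.2.2, (HS F q _).eq_zero_symm hy.2.2⟩
  have e := h _ _ c1 c2
  rw [via, D.step_eq sx.1.symm rfl] at e
  change D.step X y = D.step (D.via X x v) y at e
  have a : D.Adj (D.via X x v) (D.step X y) := by
    rw [e]
    exact (D.step_spec hy.1 (by rw [sv.2]; exact hy.2.2)).1
  exact (D.step_eq a.symm sv.2).symm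

theorem swap_ok {X : D.Lift} {x y v : V} (hv : ⟪v, v⟫ = 1) (hx : D.Common X x v) (hy : D.Common X y v)
    (h : ⟪y, x⟫ * σ ⟪y, x⟫ ≠ 1 ∨ y = ⟪y, x⟫ • x) : D.via X x v = D.via X y v := by
  refine D.swap hq hv hx hy ?_
  rcases h with h | h
  · exact D.indep_nondeg hq hy.1 (by rw [(D.step_spec hx.1 hx.2.1).2]; exact h)
  · exact D.indep_scalar hq hy.1 (c := ⟪y, x⟫) (by rw [(D.step_spec hx.1 hx.2.1).2]; exact h)

/-- At least five dimensions. -/
theorem via_eq_five (h5 : 5 ≤ m + 2) {X : D.Lift} {x y v : V} (hv : ⟪v, v⟫ = 1) (hx : D.Common X x v)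
    (hy : D.Common X y v) : D.via X x v = D.via X y v := by
  by_cases hk : ⟪y, x⟫ * σ ⟪y, x⟫ = 1
  swap
  · exact D.swap_ok hq hv hx hy (Or.inl hk)
  have sy := @Cfsg.Lib.Classical.HermSpace.eq_zero_symm _ _ _ _ _ (HS F q (m + 2))
  obtain ⟨z, hz, hzv, hzp, hzx⟩ := exists_perp3 (q := q) (N := m + 2) (by omega) hv (D.pt_unit X) hx.1
    (sy hx.2.1) (Or.inl h5)
  obtain ⟨u, hu, huv, hup, hux, hne⟩ : ∃ u, ⟪u, u⟫ = 1 ∧ ⟪u, v⟫ = 0 ∧ ⟪u, D.pt X⟫ = 0 ∧ ⟪u, x⟫ = 0 ∧
      ⟪y, u⟫ * σ ⟪y, u⟫ ≠ 1 := by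
    by_cases hb : ⟪y, z⟫ * σ ⟪y, z⟫ = 1
    swap
    · exact ⟨z, hz, hzv, hzp, hzx, hb⟩
    set r := y - ⟪y, x⟫ • x with hr
    have hrv : ⟪r, v⟫ = 0 := by
      rw [hr, (HS F q _).sub_left, (HS F q _).smul_left, hx.2.2, hy.2.2, mul_zero, sub_zero]
    have hrp : ⟪r, D.pt X⟫ = 0 := by
      rw [hr, (HS F q _).sub_left, (HS F q _).smul_left, hx.2.1, hy.2.1, mul_zero, sub_zero]
    have hrx : ⟪r, x⟫ = 0 := by
      rw [hr, (HS F q _).sub_left, (HS F q _).smul_left, hx.1, mul_one, sub_self]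
    have hrr : ⟪r, r⟫ = 0 := by
      have : ⟪r, r⟫ = ⟪r, y⟫ := by
        conv_lhs => arg 3; rw [hr]
        rw [(HS F q _).sub_right, (HS F q _).smul_right, hrx, mul_zero, sub_zero]
      rw [this, hr, (HS F q _).sub_left, (HS F q _).smul_left, hy.1, (HS F q _).symm x y, hs_sigma]
      linear_combination -hk
    have hzr : ⟪z, r⟫ = σ ⟪y, z⟫ := by
      rw [hr, (HS F q _).sub_right, (HS F q _).smul_right, hzx, mul_zero, sub_zero, (HS F q _).symm z y,
        hs_sigma]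
    obtain ⟨c, d, hc0, hc1, hn, hcr⟩ := adjust (q := q) hq hz hrr (by
      rw [hzr]; intro h; rw [h, mul_zero] at hb; exact zero_ne_one hb)
    refine ⟨c • z + d • r, hn, ?_, ?_, ?_, ?_⟩
    · rw [(HS F q _).add_left, (HS F q _).smul_left, (HS F q _).smul_left, hzv, hrv]; ring
    · rw [(HS F q _).add_left, (HS F q _).smul_left, (HS F q _).smul_left, hzp, hrp]; ring
    · rw [(HS F q _).add_left, (HS F q _).smul_left, (HS F q _).smul_left, hzx, hrx]; ring
    · have e1 : ⟪x, c • z + d • r⟫ = 0 := by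
        rw [(HS F q _).add_right, (HS F q _).smul_right, (HS F q _).smul_right, sy hzx, sy hrx]; ring
      have e : ⟪y, c • z + d • r⟫ = σ c * ⟪y, z⟫ := by
        conv_lhs => rw [show y = r + ⟪y, x⟫ • x by rw [hr]; abel]
        rw [(HS F q _).add_left, (HS F q _).smul_left, e1, mul_zero, add_zero, (HS F q _).symm r, hcr,
          hs_sigma, map_mul, hzr, cb_cb]
      intro h
      refine hc1 ?_
      rw [e, map_mul, cb_cb] at h
      linear_combination h - c * σ c * hb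
  rw [D.wheel hx ⟨hu, hup, huv⟩ (sy hux) hv]
  exact D.swap_ok hq hv ⟨hu, hup, huv⟩ hy (Or.inl hne)

end Gluing

end Cfsg.Lib.Known.Phan
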