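import Cfsg.Agent.Known.Phan.Cover

/-! Lifts of unit vectors: edges, triangles, and uniqueness of two step lifts. -/

set_option autoImplicit false
set_option linter.unusedSimpArgs false
set_option linter.unusedSectionVars false
set_option linter.style.haveILetI false

namespace Cfsg.Lib.Known.Phan

universe u v

variable {F : Type u} [Field F] [Fintype F] {q : ℕ} [hF : Fact (Fintype.card F = q ^ 2)]

variable (F q) in
/-- Gluing data: maps on the stabiliser and on the first block, compatible. -/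
structure Gluing (m : ℕ) (G : Type v) [Group G] where
  hm : 2 ≤ m
  ψ : ↥(stab0 F q m) →* G
  φ : Cfsg.SU 3 F q →* G
  agree : ∀ (k : Cfsg.SU 3 F q) (hk : blk (κ3 hm) k ∈ stab0 F q m), ψ ⟨_, hk⟩ = φ k
  comm : ∀ (s : Cfsg.SU 2 F q) (b : ↥(stab0 F q m)), act b.1 (ev 1) = ev 1 →
    Commute (φ (blk κ01 s)) (ψ b)

namespace Gluing

variable {m : ℕ} {G : Type v} [Group G] (D : Gluing F q m G)

set_option quotPrecheck false in
local notation "P'" => (↥(Cfsg.SU (m + 2) F q) × G)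

/-- The graph of the map on the stabiliser. -/
def graphA : Subgroup P' := ((stab0 F q m).subtype.prod D.ψ).range

/-- The space of lifts. -/
abbrev Lift : Type _ := P' ⧸ D.graphA

/-- A lift. -/
def cl (g : P') : D.Lift := QuotientGroup.mk g

theorem cl_surjective (X : D.Lift) : ∃ g, D.cl g = X := Quotient.exists_rep X

theorem smul_cl (g h : P') : g • D.cl h = D.cl (g * h) := rfl

theorem cl_mul_of_mem {g a : P'} (ha : a ∈ D.graphA) : D.cl (g * a) = D.cl g :=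
  QuotientGroup.eq.mpr (by rw [_root_.mul_inv_rev, mul_assoc, inv_mul_cancel, mul_one]; exact inv_mem ha)

theorem mem_graphA {g : Cfsg.SU (m + 2) F q} (hg : g ∈ stab0 F q m) : (g, D.ψ ⟨g, hg⟩) ∈ D.graphA :=
  ⟨⟨g, hg⟩, rfl⟩

/-- The lift of the base vector. -/
def base : D.Lift := D.cl 1

theorem smul_base (g : P') : g • D.base = D.cl g := by rw [base, smul_cl, mul_one]

theorem smul_base_of_mem {a : P'} (ha : a ∈ D.graphA) : a • D.base = D.base := by
  rw [D.smul_base, ← one_mul a, D.cl_mul_of_mem ha]; rfl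

/-- The vector below a lift. -/
def pt : D.Lift → (Fin (m + 2) → F) := Quotient.lift (fun g => act g.1 (ev 0)) fun a b hab => by
  obtain ⟨c, hc⟩ := QuotientGroup.leftRel_apply.mp hab
  have e : b = a * (c.1, D.ψ c) := by
    have : (c.1, D.ψ c) = a⁻¹ * b := hc
    rw [this, mul_inv_cancel_left]
  show act a.1 (ev 0) = act b.1 (ev 0)
  rw [e, Prod.fst_mul, act_mul, mem_stab0.mp c.2]

theorem pt_cl (g : P') : D.pt (D.cl g) = act g.1 (ev 0) := rfl

theorem pt_base : D.pt D.base = ev 0 := by rw [base, pt_cl, Prod.fst_one, act_one]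

theorem pt_smul (g : P') (X : D.Lift) : D.pt (g • X) = act g.1 (D.pt X) := by
  obtain ⟨h, rfl⟩ := D.cl_surjective X
  rw [smul_cl, pt_cl, pt_cl, Prod.fst_mul, act_mul]

theorem pt_unit (X : D.Lift) : (HS F q _).h (D.pt X) (D.pt X) = 1 := by
  obtain ⟨h, rfl⟩ := D.cl_surjective X
  rw [pt_cl, act_h, ev_ev, if_pos rfl]

/-- The lift of a block element. -/
noncomputable def kp (k : Cfsg.SU 3 F q) : P' := (blk (κ3 D.hm) k, D.φ k)

theorem kp_mul (k k' : Cfsg.SU 3 F q) : D.kp (k * k') = D.kp k * D.kp k' := by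
  simp [kp]

theorem kp_one : D.kp 1 = 1 := by simp [kp]

theorem kp_inv (k : Cfsg.SU 3 F q) : D.kp k⁻¹ = (D.kp k)⁻¹ :=
  eq_inv_of_mul_eq_one_left (by rw [← kp_mul, inv_mul_cancel, kp_one])

theorem kp_mem {k : Cfsg.SU 3 F q} (hk : act k (ev 0) = ev 0) : D.kp k ∈ D.graphA := by
  have h : blk (κ3 D.hm) k ∈ stab0 F q m := by
    rw [mem_stab0, show (0 : Fin (m + 2)) = κ3 D.hm 0 from rfl, blk_ev, hk, pad_ev]
  have := D.mem_graphA h
  rwa [D.agree k h] at this

theorem kp_fst_ev (k : Cfsg.SU 3 F q) (i : Fin 3) :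
    act (D.kp k).1 (ev (κ3 D.hm i)) = pad (κ3 D.hm) (act k (ev i)) := blk_ev _ _ _

theorem pt_kp (k : Cfsg.SU 3 F q) : D.pt (D.cl (D.kp k)) = pad (κ3 D.hm) (act k (ev 0)) := by
  rw [pt_cl]; exact D.kp_fst_ev k 0

/-- Adjacency of lifts. -/
def Adj (X Y : D.Lift) : Prop := ∃ γ : P', X = D.cl γ ∧ Y = D.cl (γ * D.kp (w3 F q))

variable {D}

theorem Adj.smul {X Y : D.Lift} (h : D.Adj X Y) (g : P') : D.Adj (g • X) (g • Y) := by
  obtain ⟨γ, rfl, rfl⟩ := h
  exact ⟨g * γ, by rw [smul_cl], by rw [smul_cl, mul_assoc]⟩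

theorem Adj.symm {X Y : D.Lift} (h : D.Adj X Y) : D.Adj Y X := by
  obtain ⟨γ, rfl, rfl⟩ := h
  refine ⟨γ * D.kp (w3 F q), rfl, ?_⟩
  rw [mul_assoc, ← D.kp_mul, w3_sq, D.kp_one, mul_one]

theorem pt_cl_w (γ : P') : D.pt (D.cl (γ * D.kp (w3 F q))) = act γ.1 (ev 1) := by
  rw [pt_cl, Prod.fst_mul, act_mul]
  exact congrArg _ (blk3_w3 D.hm)

theorem Adj.ortho {X Y : D.Lift} (h : D.Adj X Y) : (HS F q _).h (D.pt Y) (D.pt X) = 0 := by
  obtain ⟨γ, rfl, rfl⟩ := h
  rw [pt_cl_w, pt_cl, act_h, ev_ev, if_neg]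
  intro e
  simpa using congrArg Fin.val e

variable (D)

/-- Elements of the common stabiliser and the first rank one block. -/
theorem cl_mul_kp01 (b : ↥(stab0 F q m)) (hb : act b.1 (ev 1) = ev 1) (s : Cfsg.SU 2 F q) :
    (b.1, D.ψ b) * D.kp (blk κ01 s) = D.kp (blk κ01 s) * (b.1, D.ψ b) := by
  refine Prod.ext ?_ (D.comm s b hb).symm
  obtain ⟨b', hb'⟩ := exists_blk (κss m) (g := b.1) fun j hj => by
    rcases notMem_κss hj with rfl | rfl
    · exact b.2
    · exact hb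
  change b.1 * blk (κ3 D.hm) (blk κ01 s) = blk (κ3 D.hm) (blk κ01 s) * b.1
  rw [← hb', blk_blk]
  refine (blk_commute _ _ (fun i j h => ?_) s b').symm
  have h1 : (i : ℕ) = j + 1 + 1 := congrArg Fin.val h
  omega

theorem cl_kp01 (b : ↥(stab0 F q m)) (hb : act b.1 (ev 1) = ev 1) (s : Cfsg.SU 2 F q) :
    D.cl ((b.1, D.ψ b) * D.kp (blk κ01 s)) = D.cl (D.kp (blk κ01 s)) := by
  rw [D.cl_mul_kp01 b hb, D.cl_mul_of_mem (D.mem_graphA b.2)]

theorem w3_decomp : ∃ (s : Cfsg.SU 2 F q) (d : Cfsg.SU 3 F q), w3 F q = blk κ01 s * d ∧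
    act d (ev 0) = ev 0 := by
  refine ⟨su2 0 1 (by simp), (blk κ01 (su2 0 1 (by simp)))⁻¹ * w3 F q, (mul_inv_cancel_left _ _).symm, ?_⟩
  rw [act_mul]
  refine act_inv_eq ?_
  rw [w3_ev0, blk01_ev0]
  funext i
  fin_cases i <;> simp [ev]

theorem cl_stab2_w3 (b : ↥(stab0 F q m)) (hb : act b.1 (ev 1) = ev 1) :
    D.cl ((b.1, D.ψ b) * D.kp (w3 F q)) = D.cl (D.kp (w3 F q)) := by
  obtain ⟨s, d, he, hd⟩ := w3_decomp (F := F) (q := q)
  rw [he, D.kp_mul, ← mul_assoc, D.cl_mul_of_mem (D.kp_mem hd), D.cl_mul_of_mem (D.kp_mem hd),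
    D.cl_kp01 b hb]

theorem adj_base_kp {k : Cfsg.SU 3 F q} (hk : (act k (ev 0)) 0 = 0) : D.Adj D.base (D.cl (D.kp k)) := by
  have hu : (HS F q 3).h (act k (ev 0)) (act k (ev 0)) = 1 := by rw [act_h, ev_ev, if_pos rfl]
  have hn : (act k (ev 0)) 1 * cb F q ((act k (ev 0)) 1) + (act k (ev 0)) 2 * cb F q ((act k (ev 0)) 2) = 1 := by
    rw [hs_h, Fin.sum_univ_three, hk] at hu
    simpa using hu
  set a := blk κ12 (su2 _ _ hn) with ha
  have ha0 : act a (ev 0) = ev 0 := blk_fix _ _ κ12_zero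
  refine ⟨D.kp a, ?_, ?_⟩
  · rw [← D.smul_base]; exact (D.smul_base_of_mem (D.kp_mem ha0)).symm
  · have hfix : act ((a * w3 F q)⁻¹ * k) (ev 0) = ev 0 := by
      rw [act_mul]
      refine act_inv_eq ?_
      rw [act_mul, w3_ev0, ha, blk12_ev1]
      funext i
      fin_cases i
      · exact hk.symm
      · rfl
      · rfl
    conv_lhs => rw [← mul_inv_cancel_left (a * w3 F q) k]
    rw [D.kp_mul, D.cl_mul_of_mem (D.kp_mem hfix), D.kp_mul]

theorem adj_kp_kp {k k' : Cfsg.SU 3 F q} (h : (HS F q 3).h (act k' (ev 0)) (act k (ev 0)) = 0) :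
    D.Adj (D.cl (D.kp k)) (D.cl (D.kp k')) := by
  have := (D.adj_base_kp (k := k⁻¹ * k') (by
    rw [← act_h k⁻¹, act_inv_act, h_ev, ← act_mul] at h; exact h)).smul (D.kp k)
  rwa [D.smul_base, smul_cl, ← D.kp_mul, mul_inv_cancel_left] at this

/-! ### Steps -/

theorem adj_unique {X Y Y' : D.Lift} (h : D.Adj X Y) (h' : D.Adj X Y') (e : D.pt Y = D.pt Y') : Y = Y' := by
  obtain ⟨γ, hX, rfl⟩ := h
  obtain ⟨γ', hX', rfl⟩ := h'
  obtain ⟨c, hc⟩ := QuotientGroup.eq.mp (hX.symm.trans hX' : D.cl γ = D.cl γ')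
  have hg : γ' = γ * (c.1, D.ψ c) := by
    rw [show (c.1, D.ψ c) = γ⁻¹ * γ' from hc, mul_inv_cancel_left]
  rw [pt_cl_w, pt_cl_w, hg, Prod.fst_mul, act_mul] at e
  have hc1 : act c.1 (ev 1) = ev 1 := by
    have := congrArg (act γ.1⁻¹) e
    rw [act_inv_act, act_inv_act] at this
    exact this.symm
  rw [hg, mul_assoc, ← D.smul_cl γ ((c.1, D.ψ c) * D.kp (w3 F q)), D.cl_stab2_w3 c hc1, D.smul_cl]

theorem exists_adj (X : D.Lift) {v : Fin (m + 2) → F} (hv : (HS F q _).h v v = 1)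
    (hX : (HS F q _).h v (D.pt X) = 0) : ∃ Y, D.Adj X Y ∧ D.pt Y = v := by
  obtain ⟨γ, rfl⟩ := D.cl_surjective X
  obtain ⟨a, ha, hav⟩ := exists_stab_move (q := q) (by have := D.hm; omega) (v := act γ.1⁻¹ v)
    (by rw [act_h]; exact hv) (by rw [← act_h γ.1, act_act_inv, ← D.pt_cl]; exact hX)
  refine ⟨D.cl (γ * (a, D.ψ ⟨a, ha⟩) * D.kp (w3 F q)),
    ⟨γ * (a, D.ψ ⟨a, ha⟩), (D.cl_mul_of_mem (D.mem_graphA ha)).symm, rfl⟩, ?_⟩
  rw [pt_cl_w, Prod.fst_mul, act_mul, hav, act_act_inv]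

/-- The neighbour above a given vector. -/
noncomputable def step (X : D.Lift) (v : Fin (m + 2) → F) : D.Lift :=
  @dite _ (∃ Y, D.Adj X Y ∧ D.pt Y = v) (Classical.propDecidable _) (fun h => h.choose) fun _ => X

theorem step_eq {X Y : D.Lift} {v : Fin (m + 2) → F} (h : D.Adj X Y) (e : D.pt Y = v) : D.step X v = Y := by
  have hex : ∃ Y, D.Adj X Y ∧ D.pt Y = v := ⟨Y, h, e⟩
  rw [step, dif_pos hex]
  exact D.adj_unique hex.choose_spec.1 h (hex.choose_spec.2.trans e.symm)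

theorem step_spec {X : D.Lift} {v : Fin (m + 2) → F} (hv : (HS F q _).h v v = 1)
    (hX : (HS F q _).h v (D.pt X) = 0) : D.Adj X (D.step X v) ∧ D.pt (D.step X v) = v := by
  have hex := D.exists_adj X hv hX
  rw [step, dif_pos hex]
  exact hex.choose_spec

theorem step_smul (g : P') {X : D.Lift} {v : Fin (m + 2) → F} (hv : (HS F q _).h v v = 1)
    (hX : (HS F q _).h v (D.pt X) = 0) : D.step (g • X) (act g.1 v) = g • D.step X v :=
  D.step_eq ((D.step_spec hv hX).1.smul g) (by rw [pt_smul, (D.step_spec hv hX).2])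

/-- Triangles lift. -/
theorem triangle {X Y : D.Lift} (h : D.Adj X Y) {v : Fin (m + 2) → F} (hv : (HS F q _).h v v = 1)
    (hX : (HS F q _).h v (D.pt X) = 0) (hY : (HS F q _).h v (D.pt Y) = 0) :
    D.Adj (D.step X v) Y := by
  obtain ⟨γ, rfl, rfl⟩ := h
  obtain ⟨b, hb, hb1, hb2⟩ := exists_stab2_move (q := q) D.hm (v := act γ.1⁻¹ v)
    (by rw [act_h]; exact hv) (by rw [← act_h γ.1, act_act_inv, ← D.pt_cl]; exact hX)
    (by rw [← act_h γ.1, act_act_inv, ← D.pt_cl_w]; exact hY)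
  set γ' : P' := γ * (b, D.ψ ⟨b, hb⟩) with hγ'
  have e0 : D.cl γ = γ' • D.base := by rw [D.smul_base, hγ', D.cl_mul_of_mem (D.mem_graphA hb)]
  have e1 : D.cl (γ * D.kp (w3 F q)) = γ' • D.cl (D.kp (w3 F q)) := by
    rw [D.smul_cl, hγ', mul_assoc, ← D.smul_cl γ ((b, D.ψ ⟨b, hb⟩) * D.kp (w3 F q)),
      D.cl_stab2_w3 ⟨b, hb⟩ hb1, D.smul_cl]
  set h3 : Cfsg.SU 3 F q := blk κ12 (su2 0 1 (by simp)) * w3 F q with hh3
  have hh : act h3 (ev 0) = ev 2 := by
    rw [hh3, act_mul, w3_ev0, blk12_ev1]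
    funext i
    fin_cases i <;> simp [ev]
  have a1 : D.Adj D.base (D.cl (D.kp h3)) := D.adj_base_kp (by rw [hh]; simp [ev])
  have a2 : D.Adj (D.cl (D.kp h3)) (D.cl (D.kp (w3 F q))) := D.adj_kp_kp (by
    rw [hh, w3_ev0, ev_ev, if_neg (by decide)])
  have hp : D.pt (γ' • D.cl (D.kp h3)) = v := by
    rw [pt_smul, D.pt_kp, hh, pad_ev, hγ', Prod.fst_mul, act_mul, hb2, act_act_inv]
  rw [e0, e1, D.step_eq (a1.smul γ') hp]
  exact a2.smul γ'

/-- The two step lift. -/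
noncomputable def via (X : D.Lift) (x v : Fin (m + 2) → F) : D.Lift := D.step (D.step X x) v

/-- `x` is a common neighbour of the base of `X` and `v`. -/
def Common (X : D.Lift) (x v : Fin (m + 2) → F) : Prop :=
  (HS F q _).h x x = 1 ∧ (HS F q _).h x (D.pt X) = 0 ∧ (HS F q _).h x v = 0

/-- Two step lifts do not depend on the middle vertex. -/
def Indep (X : D.Lift) (v : Fin (m + 2) → F) : Prop :=
  ∀ x y, D.Common X x v → D.Common X y v → D.via X x v = D.via X y v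

theorem via_spec {X : D.Lift} {x v : Fin (m + 2) → F} (hx : D.Common X x v) (hv : (HS F q _).h v v = 1) :
    D.Adj (D.step X x) (D.via X x v) ∧ D.pt (D.via X x v) = v := by
  refine D.step_spec hv ?_
  rw [(D.step_spec hx.1 hx.2.1).2]
  exact (HS F q _).eq_zero_symm hx.2.2

theorem via_smul (g : P') {X : D.Lift} {x v : Fin (m + 2) → F} (hx : D.Common X x v)
    (hv : (HS F q _).h v v = 1) : D.via (g • X) (act g.1 x) (act g.1 v) = g • D.via X x v := by
  rw [via, via, D.step_smul g hx.1 hx.2.1, D.step_smul g hv]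
  rw [(D.step_spec hx.1 hx.2.1).2]
  exact (HS F q _).eq_zero_symm hx.2.2

theorem common_smul (g : P') {X : D.Lift} {x v : Fin (m + 2) → F} :
    D.Common (g • X) (act g.1 x) (act g.1 v) ↔ D.Common X x v := by
  rw [Common, Common, pt_smul, act_h, act_h, act_h]

theorem indep_smul (g : P') {X : D.Lift} {v : Fin (m + 2) → F} (hv : (HS F q _).h v v = 1)
    (h : D.Indep X v) : D.Indep (g • X) (act g.1 v) := by
  intro x y hx hy
  rw [← act_act_inv g.1 x, D.common_smul] at hx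
  rw [← act_act_inv g.1 y, D.common_smul] at hy
  rw [← act_act_inv g.1 x, ← act_act_inv g.1 y, D.via_smul g hx hv, D.via_smul g hy hv, h _ _ hx hy]

/-- A common neighbour gives the same lift. -/
theorem wheel {X : D.Lift} {x z v : Fin (m + 2) → F} (hx : D.Common X x v) (hz : D.Common X z v)
    (hxz : (HS F q _).h x z = 0) (hv : (HS F q _).h v v = 1) : D.via X x v = D.via X z v := by
  have sx := D.step_spec hx.1 hx.2.1
  have sz := D.step_spec hz.1 hz.2.1
  have h1 : D.Adj (D.step X x) (D.step X z) :=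
    D.triangle sz.1 hx.1 hx.2.1 (by rw [sz.2]; exact hxz)
  have h2 : D.Adj (D.via X x v) (D.step X z) :=
    D.triangle h1 hv (by rw [sx.2]; exact (HS F q _).eq_zero_symm hx.2.2)
      (by rw [sz.2]; exact (HS F q _).eq_zero_symm hz.2.2)
  exact (D.step_eq h2.symm (D.via_spec hx hv).2).symm

end Gluing

end Cfsg.Lib.Known.Phan
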