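import Cfsg.Agent.Known.Phan.Build

/-! Phan type recognition from standard pairs. -/

set_option autoImplicit false
set_option linter.unusedSimpArgs false
set_option linter.unusedSectionVars false
set_option linter.style.haveILetI false

namespace Cfsg.Lib.Known.Phan

universe u v

variable {F : Type u} [Field F] [Fintype F] {q : ℕ} [hF : Fact (Fintype.card F = q ^ 2)]
variable {G : Type v} [Group G]

theorem injective_of_range {H : Type*} [Group H] [Finite H] (φ : H →* G) {A : Subgroup G} (h : φ.range = A)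
    (e : H ≃* A) : Function.Injective φ := by
  have hb : Function.Bijective φ.rangeRestrict := (Nat.bijective_iff_surjective_and_card _).mpr
    ⟨φ.rangeRestrict_surjective, (Nat.card_congr e.toEquiv).trans (by rw [h])⟩
  exact fun a b hab => hb.1 (Subtype.ext hab)

/-- The rank two map of a standard pair. -/
theorem exists_edge {V A B : Subgroup G} (h : Cfsg.IsStandardUnitaryPair V A B F q)
    (eA : Cfsg.SU 2 F q ≃* A) (eB : Cfsg.SU 2 F q ≃* B) :
    ∃ f : Cfsg.SU 3 F q →* G, Edge f A B ∧ f.range = V := by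
  haveI : Finite (Matrix.SpecialLinearGroup (Fin 2) F) := Subtype.finite
  have hA := suBlock_eq_range (F := F) (q := q) κ01 {0, 1} range_κ01
  have hB := suBlock_eq_range (F := F) (q := q) κ12 {1, 2} range_κ12
  have key : ∀ f : Cfsg.SU 3 F q →* G, (Cfsg.suBlock 3 F q {0, 1}).map f = A →
      (Cfsg.suBlock 3 F q {1, 2}).map f = B → f.ker ≤ Subgroup.center _ → f.range = V →
      ∃ f : Cfsg.SU 3 F q →* G, Edge f A B ∧ f.range = V := by
    intro f h1 h2 h3 h4
    rw [hA, MonoidHom.map_range] at h1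
    rw [hB, MonoidHom.map_range] at h2
    exact ⟨f, ⟨h1, h2, injective_of_range _ h1 eA, injective_of_range _ h2 eB, h3⟩, h4⟩
  rcases h with ⟨ψ, h1, h2⟩ | ⟨ψ, h1, h2⟩
  · refine key _ h1 h2 (fun x hx => ?_) ?_
    · rw [show x = 1 from ψ.injective (by rw [map_one]; exact Subtype.ext hx)]; exact one_mem _
    · rw [MonoidHom.range_comp, MonoidHom.range_eq_top.mpr ψ.surjective, ← MonoidHom.range_eq_map,
        Subgroup.range_subtype]
  · refine key _ h1 h2 (fun x hx => ?_) ?_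
    · rw [← QuotientGroup.eq_one_iff]
      exact ψ.injective (by rw [map_one]; exact Subtype.ext hx)
    · rw [MonoidHom.range_comp, MonoidHom.range_comp,
        MonoidHom.range_eq_top.mpr (QuotientGroup.mk'_surjective _), ← MonoidHom.range_eq_map,
        MonoidHom.range_eq_top.mpr ψ.surjective, ← MonoidHom.range_eq_map, Subgroup.range_subtype]

/-- The four dimensional hypothesis. -/
def BaseFour (k : ℕ) (U : ℕ → Subgroup G) (f : ℕ → (Cfsg.SU 3 F q →* G)) : Prop :=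
  ∀ i, i + 2 ≤ k → ∃ Φ : Cfsg.SU 4 F q →* G, ∀ j (hj : j + 3 ≤ 4), Φ.comp (blk (win 3 j hj)) = f (i + j)

theorem recog (hq : 3 ≤ q) (n : ℕ) (hn : 3 ≤ n)
    (U : Fin n → Subgroup G) (e : ∀ i, ↥(Cfsg.SU 2 F q) ≃* ↥(U i))
    (V : Fin n → Fin n → Subgroup G)
    (h1 : ∀ i j : Fin n, (i : ℕ) + 2 ≤ j → ∀ x ∈ U i, ∀ y ∈ U j, x * y = y * x)
    (h2 : ∀ i j : Fin n, (i : ℕ) + 1 = j → Cfsg.IsStandardUnitaryPair (V i j) (U i) (U j) F q)
    (hgen : (⨆ i, U i) ⊔ (⨆ (i : Fin n) (j : Fin n) (_ : (i : ℕ) + 1 = j), V i j) = ⊤)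
    (h4 : 4 ≤ q ∨ ∀ (U' : ℕ → Subgroup G) (f : ℕ → (Cfsg.SU 3 F q →* G)),
      (∀ (i : ℕ) (hi : i < n), U' i = U ⟨i, hi⟩) → Family (n - 1) U' f → BaseFour (n - 1) U' f) :
    ∃ Φ : ↥(Cfsg.SU (n + 1) F q) →* G, Function.Surjective Φ := by
  classical
  let U' : ℕ → Subgroup G := fun i => if h : i < n then U ⟨i, h⟩ else ⊥
  have hU' : ∀ i (hi : i < n), U' i = U ⟨i, hi⟩ := fun i hi => dif_pos hi
  have hedge : ∀ i, i < n - 1 → ∃ f : Cfsg.SU 3 F q →* G, Edge f (U' i) (U' (i + 1)) ∧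
      ∀ (hi : i < n) (hi' : i + 1 < n), f.range = V ⟨i, hi⟩ ⟨i + 1, hi'⟩ := by
    intro i hi
    obtain ⟨f, hf, hr⟩ := exists_edge (h2 ⟨i, by omega⟩ ⟨i + 1, by omega⟩ rfl) (e _) (e _)
    refine ⟨f, ?_, fun _ _ => hr⟩
    rw [hU' i (by omega), hU' (i + 1) (by omega)]
    exact hf
  choose f0 hf0 hf0r using hedge
  let f : ℕ → (Cfsg.SU 3 F q →* G) := fun i => if h : i < n - 1 then f0 i h else 1
  have hfe : ∀ i (hi : i < n - 1), f i = f0 i hi := fun i hi => dif_pos hi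
  have hcomm : ∀ i j, i + 2 ≤ j → j ≤ n - 1 → ∀ u ∈ U' i, ∀ x ∈ U' j, Commute u x := by
    intro i j hij hj u hu x hx
    rw [hU' i (by omega)] at hu
    rw [hU' j (by omega)] at hx
    exact h1 ⟨i, by omega⟩ ⟨j, by omega⟩ hij u hu x hx
  obtain ⟨f', hf'⟩ := exists_family hq (k := n - 1) (fun i hi => hcomm i (i + 2) le_rfl (by omega)) f
    (fun i hi => by rw [hfe i hi]; exact hf0 i hi)
  obtain ⟨Φ, hΦ⟩ := exists_glued hq hf' hcomm (h4.imp_right fun h => h U' f' hU' hf') (n + 1) 0 (by omega)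
    (by omega)
  have hblock := hf'.block_range (N := n + 1) (i := 0) (by omega) (by omega) hΦ
  refine ⟨Φ, MonoidHom.range_eq_top.mp ((eq_top_iff).mpr ?_)⟩
  have hUle : ∀ i : Fin n, U i ≤ Φ.range := fun i => by
    rw [← hU' i.1 i.2, ← Nat.zero_add i.1, ← hblock i.1 (by omega)]
    rintro _ ⟨s, rfl⟩
    exact ⟨_, rfl⟩
  rw [← hgen, sup_le_iff, iSup_le_iff, iSup_le_iff]
  refine ⟨hUle, fun i => iSup_le fun j => iSup_le fun hij => ?_⟩
  have hi : (i : ℕ) < n - 1 := by omega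
  have hj : (⟨(i : ℕ) + 1, by omega⟩ : Fin n) = j := Fin.ext hij
  rw [← hj, ← hf0r i hi i.2 (by omega)]
  have hE := hf0 i hi
  rw [hU' i.1 i.2, hU' (i + 1) (by omega), hj] at hE
  refine range_le_of_blocks hq (by omega) (f0 i hi) fun k hk => ?_
  rcases (show k = 0 ∨ k = 1 by omega) with rfl | rfl
  · rw [← κ01_eq_win, hE.left]; exact hUle i
  · rw [← κ12_eq_win, hE.right]; exact hUle j

end Cfsg.Lib.Known.Phan
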