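import Cfsg.Agent.Known.Phan.NineMiddle
import Cfsg.Agent.Known.Phan.Recog

/-! The four dimensional step over the field with nine elements. -/

set_option autoImplicit false
set_option linter.unusedSimpArgs false
set_option linter.unusedSectionVars false
set_option linter.style.haveILetI false

namespace Cfsg.Lib.Known.Phan

open Matrix

universe u v

variable {F : Type u} [Field F] [Fintype F] [hF : Fact (Fintype.card F = 3 ^ 2)] {G : Type v} [Group G]

local notation "cσ" => cb F 3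

/-- Coordinates under the left block. -/
theorem act01 (x : Cfsg.SU 2 F 3) (v : Fin 3 → F) :
    act (blk κ01 x) v = ![mat x 0 0 * v 0 + mat x 0 1 * v 1, mat x 1 0 * v 0 + mat x 1 1 * v 1, v 2] := by
  funext i
  fin_cases i
  · show act (blk κ01 x) v (κ01 0) = _
    rw [blk_apply_mem, act, Matrix.mulVec, dotProduct, Fin.sum_univ_two]
    rfl
  · show act (blk κ01 x) v (κ01 1) = _
    rw [blk_apply_mem, act, Matrix.mulVec, dotProduct, Fin.sum_univ_two]
    rfl
  · exact blk_apply_notMem κ01 x v κ01_two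

/-- Coordinates under the right block. -/
theorem act12 (x : Cfsg.SU 2 F 3) (v : Fin 3 → F) :
    act (blk κ12 x) v = ![v 0, mat x 0 0 * v 1 + mat x 0 1 * v 2, mat x 1 0 * v 1 + mat x 1 1 * v 2] := by
  funext i
  fin_cases i
  · exact blk_apply_notMem κ12 x v κ12_zero
  · show act (blk κ12 x) v (κ12 0) = _
    rw [blk_apply_mem, act, Matrix.mulVec, dotProduct, Fin.sum_univ_two]
    rfl
  · show act (blk κ12 x) v (κ12 1) = _
    rw [blk_apply_mem, act, Matrix.mulVec, dotProduct, Fin.sum_univ_two]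
    rfl

theorem map_Nm (θ : Cfsg.SU 2 F 3 ≃* Cfsg.SU 2 F 3) : θ (Nm F) = Nm F := by
  set x := θ (Nm F) with hx
  have hsq : x * x = 1 := by rw [hx, ← map_mul, Nm_sq, map_one]
  have hx1 : x ≠ 1 := fun h => by
    have h1 : (Nm F : Cfsg.SU 2 F 3) = 1 := θ.injective (by rw [map_one]; exact h)
    have h2 := congrArg (fun g => mat g 0 0) h1
    simp [Nm, mat_su2, mat] at h2
    exact neg_one_ne h2
  have hinv : x⁻¹ = x := inv_eq_of_mul_eq_one_right hsq
  have hadj : (mat x).adjugate = mat x := by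
    conv_rhs => rw [← hinv]
    exact (Matrix.SpecialLinearGroup.coe_inv _).symm
  rw [Matrix.adjugate_fin_two] at hadj
  have h10 := congrFun (congrFun hadj 1) 0
  have h00 := congrFun (congrFun hadj 0) 0
  simp at h10 h00
  have hp : mat x 1 0 = 0 := by
    have : (2 : F) * mat x 1 0 = 0 := by linear_combination -h10
    exact (mul_eq_zero.mp this).resolve_left two_ne
  have h11 : mat x 1 1 = cσ (mat x 0 0) := by conv_lhs => rw [eq_su2 x, mat_su2]; simp
  have hn := su2_norm x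
  rw [hp, zero_mul, add_zero, ← h11, h00] at hn
  rcases mul_self_eq_one_iff.mp hn with h | h
  · exact absurd (su2_ext (by rw [h]; simp [mat]) (by rw [hp]; simp [mat])) hx1
  · exact su2_ext (by rw [h]; simp [Nm, mat_su2]) (by rw [hp]; simp [Nm, mat_su2])

/-- Comparison of two rank two maps with the same blocks. -/
theorem edge_compare {f f' : Cfsg.SU 3 F 3 →* G} (hf' : Function.Injective f')
    (θ θ' : Cfsg.SU 2 F 3 ≃* Cfsg.SU 2 F 3) (hl : ∀ x, f (blk κ01 x) = f' (blk κ01 (θ x)))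
    (hr : ∀ x, f (blk κ12 x) = f' (blk κ12 (θ' x))) :
    (∀ a (h : a * cσ a + 0 * cσ 0 = 1), mat (θ (su2 a 0 h)) 1 0 = 0) ∧
      (∀ a (h : a * cσ a + 0 * cσ 0 = 1), mat (θ' (su2 a 0 h)) 1 0 = 0) ∧
      ∀ (c c' : F) (τ τ' : F ≃+* F), c' * cσ c' = 1 →
        (∀ g, mat (θ g) 0 0 = τ (mat g 0 0) ∧ mat (θ g) 1 0 = c * τ (mat g 1 0)) →
        (∀ g, mat (θ' g) 0 0 = τ' (mat g 0 0) ∧ mat (θ' g) 1 0 = c' * τ' (mat g 1 0)) →
        ∀ a, a * cσ a = 1 → τ a = τ' a := by
  have tr : ∀ x y, Commute (blk κ01 x) (blk κ12 y) → Commute (blk κ01 (θ x)) (blk κ12 (θ' y)) := fun x y h =>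
    hf' (by rw [map_mul, map_mul, ← hl, ← hr, ← map_mul, ← map_mul, h.eq])
  have h2 := two_ne (F := F)
  refine ⟨fun a h => ?_, fun a h => ?_, ?_⟩
  · have hcm := tr (su2 a 0 h) (Nm F) (act_ext fun v => by
      simp only [act_mul, act01, act12, Nm, mat_su2]
      funext i
      fin_cases i <;> simp)
    rw [map_Nm] at hcm
    have e := congrArg (fun g => act g (ev 0) 1) hcm.eq
    simp [act_mul, act01, act12, Nm, mat_su2, ev] at e
    have : (2 : F) * mat (θ (su2 a 0 h)) 1 0 = 0 := by linear_combination e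
    exact (mul_eq_zero.mp this).resolve_left h2
  · have hcm := tr (Nm F) (su2 a 0 h) (act_ext fun v => by
      simp only [act_mul, act01, act12, Nm, mat_su2]
      funext i
      fin_cases i <;> simp)
    rw [map_Nm] at hcm
    have e := congrArg (fun g => act g (ev 1) 2) hcm.eq
    simp [act_mul, act01, act12, Nm, mat_su2, ev] at e
    have : (2 : F) * mat (θ' (su2 a 0 h)) 1 0 = 0 := by linear_combination e
    exact (mul_eq_zero.mp this).resolve_left h2
  · intro c c' τ τ' hc' hs hs' a ha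
    have hd : a * cσ a + 0 * cσ 0 = 1 := by rw [zero_mul, add_zero, ha]
    have hw : (0 : F) * cσ 0 + a * cσ a = 1 := by rw [zero_mul, zero_add, ha]
    have hconj : blk κ01 (su2 a 0 hd) * blk κ12 (Wt F) = blk κ12 (su2 0 a hw) * blk κ01 (su2 a 0 hd) := by
      refine act_ext fun v => ?_
      simp only [act_mul, act01, act12, Wt, mat_su2]
      funext i
      fin_cases i <;> simp
      rw [← mul_assoc, ha, one_mul]
    have hθ : blk κ01 (θ (su2 a 0 hd)) * blk κ12 (θ' (Wt F)) =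
        blk κ12 (θ' (su2 0 a hw)) * blk κ01 (θ (su2 a 0 hd)) :=
      hf' (by rw [map_mul, map_mul, ← hl, ← hr, ← hr, ← map_mul, ← map_mul, hconj])
    have e := congrArg (fun g => act g (ev 1) 2) hθ
    have h01 : mat (θ (su2 a 0 hd)) 0 1 = 0 := by
      conv_lhs => rw [eq_su2 (θ (su2 a 0 hd)), mat_su2]
      simp [(hs _).2, mat_su2]
    have h11 : mat (θ (su2 a 0 hd)) 1 1 = cσ (τ a) := by
      conv_lhs => rw [eq_su2 (θ (su2 a 0 hd)), mat_su2]
      simp [(hs _).1, mat_su2]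
    simp [act_mul, act01, act12, ev, h01, h11, (hs' _).1, (hs' _).2, Wt, mat_su2] at e
    have hc0 : c' ≠ 0 := left_ne_zero_of_mul_eq_one hc'
    have h1 : τ' a * cσ (τ a) = 1 := mul_left_cancel₀ hc0 (by linear_combination -e)
    have h3 : τ a * cσ (τ a) = 1 := by rw [← ringAut_cb, ← map_mul, ha, map_one]
    exact mul_right_cancel₀ (right_ne_zero_of_mul_eq_one h3) (h3.trans h1.symm)

theorem ringAut_ext {τ τ' : F ≃+* F} (h : ∀ a, a * cσ a = 1 → τ a = τ' a) : τ = τ' := by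
  classical
  obtain ⟨a, ha, hne⟩ := exists_torus_elt (F := F) (q := 3)
  set K := RingHom.eqLocusField (τ : F →+* F) (τ' : F →+* F) with hK
  have memK : ∀ {x : F}, x ∈ K ↔ τ x = τ' x := Iff.rfl
  have haK : a ∈ K := memK.mpr (h a ha)
  have h4 : 4 ≤ Nat.card K := by
    have ha0 : a ≠ 0 := left_ne_zero_of_mul_eq_one ha
    have ha1 : a ≠ 1 := fun e => hne (by rw [e, map_one])
    have ham : a ≠ -1 := fun e => hne (by rw [e, map_neg, map_one])
    have hn : (-1 : F) ≠ 1 := neg_one_ne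
    let s : Finset K := {0, 1, -1, ⟨a, haK⟩}
    haveI : Fintype K := Fintype.ofFinite _
    have hs : s.card = 4 := by
      simp [s, Finset.card_insert_of_notMem, Subtype.ext_iff, ha0.symm, ha1.symm, ham.symm, hn.symm]
    rw [Nat.card_eq_fintype_card, ← hs]
    exact Finset.card_le_univ s
  have hpow := Module.natCard_eq_pow_finrank (K := K) (V := F)
  rw [Nat.card_eq_fintype_card (α := F), hF.out] at hpow
  have hr : Module.finrank K F = 1 := by
    have hpos : 0 < Module.finrank K F := Module.finrank_pos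
    by_contra hne1
    have : Nat.card K ^ 2 ≤ Nat.card K ^ Module.finrank K F :=
      Nat.pow_le_pow_right (by omega) (by omega)
    nlinarith
  rw [hr, pow_one] at hpow
  refine RingEquiv.ext fun x => memK.mp ?_
  have hb : Function.Bijective (Subtype.val : K → F) :=
    (Nat.bijective_iff_injective_and_card _).mpr ⟨Subtype.val_injective, by
      rw [Nat.card_eq_fintype_card (α := F), hF.out, hpow]⟩
  obtain ⟨y, rfl⟩ := hb.2 x
  exact y.2

/-- The map between two faithful parametrisations of one group. -/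
theorem exists_theta (α β : Cfsg.SU 2 F 3 →* G) (hα : Function.Injective α) (hβ : Function.Injective β)
    (h : β.range = α.range) : ∃ θ : Cfsg.SU 2 F 3 ≃* Cfsg.SU 2 F 3, ∀ x, α x = β (θ x) := by
  let e1 := MonoidHom.ofInjective hα
  let e2 := (MonoidHom.ofInjective hβ).trans (MulEquiv.subgroupCongr h)
  exact ⟨e1.trans e2.symm, fun x => (congrArg Subtype.val (e2.apply_symm_apply (e1 x))).symm⟩

theorem edge_injective {f : Cfsg.SU 3 F 3 →* G} {U W : Subgroup G} (h : Edge f U W) : Function.Injective f := by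
  refine (injective_iff_map_eq_one _).mpr fun z hz => ?_
  obtain ⟨l, hl3, hl⟩ := central_scalar le_rfl (h.ker hz)
  exact act_ext fun v => by rw [hl, cube_eq_one hl3, one_smul, act_one]

/-- Two overlapping edges inside an image of `SU 4`. -/
theorem base_nine {f0 f1 : Cfsg.SU 3 F 3 →* G} {U0 U1 U2 : Subgroup G} (E0 : Edge f0 U0 U1)
    (E1 : Edge f1 U1 U2) (hag : f1.comp (blk κ01) = f0.comp (blk κ12))
    (hc : ∀ a ∈ U0, ∀ b ∈ U2, Commute a b) (g : Cfsg.SU 4 F 3 →* G) (hU0 : U0 ≤ g.range)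
    (hU1 : U1 ≤ g.range) (hU2 : U2 ≤ g.range) :
    ∃ Φ : Cfsg.SU 4 F 3 →* G, Φ.comp (blk (win 3 0 (by omega))) = f0 ∧
      Φ.comp (blk (win 3 1 (by omega))) = f1 := by
  classical
  have hi0 := edge_injective E0
  have hi1 := edge_injective E1
  have hg : ScalarKer g := by
    refine (normal_scalar le_rfl g.ker).resolve_left fun htop => ?_
    obtain ⟨x, hx⟩ := hU0 (E0.left.le ⟨Wt F, rfl⟩)
    have h1 : g x = 1 := MonoidHom.mem_ker.mp (htop ▸ Subgroup.mem_top x)
    have h2 : (Wt F : Cfsg.SU 2 F 3) = 1 := E0.injl (by rw [map_one, ← hx, h1])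
    have h3 := congrArg (fun k => mat k 0 0) h2
    simp [Wt, mat_su2, mat] at h3
  set Xs := blk κ01 (Wt F) * blk κ12 (Wt F) with hXs
  have hXev : act Xs (ev 2) = ev 0 := by
    simp only [hXs, act_mul, act01, act12, Wt, mat_su2]
    funext i
    fin_cases i <;> simp [ev]
  have hN0 : act (blk κ01 (Nm F)) (ev 0 : Fin 3 → F) = (-1 : F) • ev 0 := by
    simp only [act01, Nm, mat_su2]
    funext i
    fin_cases i <;> simp [ev]
  obtain ⟨g2, hg2, r0, r1, r2⟩ := exists_three_frame hg (φ0 := f0.comp (blk κ01)) (φ1 := f0.comp (blk κ12))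
    (φ2 := f1.comp (blk κ12)) E0.injl E0.injr E1.injr (E0.left ▸ hU0) (E0.right ▸ hU1) (E1.right ▸ hU2)
    (fun a b => hc _ (E0.left.le ⟨a, rfl⟩) _ (E1.right.le ⟨b, rfl⟩)) (f0 Xs)
    (by rw [hXs, map_mul]; exact mul_mem (hU0 (E0.left.le ⟨_, rfl⟩)) (hU1 (E0.right.le ⟨_, rfl⟩)))
    (fun a => by
      obtain ⟨b, hb⟩ := exists_blk κ12 (g := Xs * blk κ01 a * Xs⁻¹) fun j hj => by
        have hj0 : j = 0 := by fin_cases j <;> simp_all [range_κ12]
        rw [hj0, act_mul, act_mul, act_inv_eq hXev, blk_fix _ _ κ01_two, hXev]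
      exact ⟨b, by simp only [MonoidHom.comp_apply, hb, hXs, map_mul, map_inv]⟩)
    (fun b => by
      obtain ⟨a, ha⟩ := exists_blk κ01 (g := Xs⁻¹ * blk κ12 b * Xs) fun j hj => by
        have hj2 : j = 2 := by fin_cases j <;> simp_all [range_κ01]
        rw [hj2, act_mul, act_mul, hXev, blk_fix _ _ κ12_zero, act_inv_eq hXev]
      exact ⟨a, by simp only [MonoidHom.comp_apply, ha, hXs, map_mul, map_inv]⟩)
    (fun b => by
      obtain ⟨b', hb'⟩ := exists_blk κ12 (g := blk κ01 (Nm F) * blk κ12 b * (blk κ01 (Nm F))⁻¹) fun j hj => by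
        have hj0 : j = 0 := by fin_cases j <;> simp_all [range_κ12]
        have hinv : (blk κ01 (Nm F))⁻¹ = blk κ01 (Nm F) :=
          inv_eq_of_mul_eq_one_right (by rw [← map_mul, Nm_sq, map_one])
        rw [hj0, act_mul, act_mul, hinv, hN0, act_smul, blk_fix _ _ κ12_zero, act_smul, hN0, smul_smul]
        simp
      exact ⟨b', by simp only [MonoidHom.comp_apply]; rw [hb', map_mul, map_mul, map_inv]⟩)
    ⟨Wt F, fun h => two_ne (F := F) (by
      have h' : Commute (blk κ01 (Nm F)) (blk κ12 (Wt F)) := hi0 (by rw [map_mul, map_mul]; exact h.eq)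
      have e := congrArg (fun k => act k (ev 1) 2) h'.eq
      simp [act_mul, act01, act12, Nm, Wt, mat_su2, ev] at e
      linear_combination e)⟩
  set W0 : Fin 3 ↪ Fin 4 := win 3 0 (by omega) with hW0
  set W1 : Fin 3 ↪ Fin 4 := win 3 1 (by omega) with hW1
  have hout : (3 : Fin 4) ∉ Set.range W0 ∧ (0 : Fin 4) ∉ Set.range W1 := by
    constructor <;> rintro ⟨i, hi⟩ <;> rw [Fin.ext_iff] at hi <;> simp [hW0, hW1, win_val] at hi <;> omega
  have e00 : ∀ x : Cfsg.SU 2 F 3, blk W0 (blk κ01 x) = blk ω0 x := fun x => by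
    rw [blk_blk, κ01_eq_win, hW0, win_trans]
  have e01 : ∀ x : Cfsg.SU 2 F 3, blk W0 (blk κ12 x) = blk ω1 x := fun x => by
    rw [blk_blk, κ12_eq_win, hW0, win_trans]
  have e10 : ∀ x : Cfsg.SU 2 F 3, blk W1 (blk κ01 x) = blk ω1 x := fun x => by
    rw [blk_blk, κ01_eq_win, hW1, win_trans]
  have e11 : ∀ x : Cfsg.SU 2 F 3, blk W1 (blk κ12 x) = blk ω2 x := fun x => by
    rw [blk_blk, κ12_eq_win, hW1, win_trans]
  obtain ⟨θ0, h0⟩ := exists_theta (f0.comp (blk κ01)) (g2.comp (blk ω0)) E0.injl (inj_blk hg2 _ ω0_out.1) r0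
  obtain ⟨θ1, h1⟩ := exists_theta (f0.comp (blk κ12)) (g2.comp (blk ω1)) E0.injr (inj_blk hg2 _ ω1_out.1) r1
  obtain ⟨θ2, h2⟩ := exists_theta (f1.comp (blk κ12)) (g2.comp (blk ω2)) E1.injr (inj_blk hg2 _ ω2_out.1) r2
  obtain ⟨t0, t1, key01⟩ := edge_compare (f := f0) (f' := g2.comp (blk W0)) (inj_blk hg2 W0 hout.1) θ0 θ1
    (fun x => by rw [MonoidHom.comp_apply, e00]; exact h0 x)
    (fun x => by rw [MonoidHom.comp_apply, e01]; exact h1 x)
  obtain ⟨-, t2, key12⟩ := edge_compare (f := f1) (f' := g2.comp (blk W1)) (inj_blk hg2 W1 hout.2) θ1 θ2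
    (fun x => by rw [MonoidHom.comp_apply, e10]; exact (DFunLike.congr_fun hag x).trans (h1 x))
    (fun x => by rw [MonoidHom.comp_apply, e11]; exact h2 x)
  obtain ⟨c0, τ0, hc0, s0⟩ := exists_diag_field θ0 t0
  obtain ⟨c1, τ1, hc1, s1⟩ := exists_diag_field θ1 t1
  obtain ⟨c2, τ2, hc2, s2⟩ := exists_diag_field θ2 t2
  obtain rfl : τ0 = τ1 := ringAut_ext (key01 c0 c1 τ0 τ1 hc1 s0 s1)
  obtain rfl : τ0 = τ2 := ringAut_ext (key12 c1 c2 τ0 τ2 hc2 s1 s2)
  set d : Fin 4 → F := ![1, c0, c0 * c1, c0 * c1 * c2] with hd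
  have hdn : ∀ i, d i * cσ (d i) = 1 := by
    intro i
    fin_cases i
    · simp [hd]
    · exact hc0
    · show c0 * c1 * cσ (c0 * c1) = 1
      rw [map_mul]; linear_combination (c1 * cσ c1) * hc0 + hc1
    · show c0 * c1 * c2 * cσ (c0 * c1 * c2) = 1
      rw [map_mul, map_mul]
      linear_combination (c1 * cσ c1 * c2 * cσ c2) * hc0 + (c2 * cσ c2) * hc1 + hc2
  have hblk : ∀ (κ : Fin 2 ↪ Fin 4) (θ : Cfsg.SU 2 F 3 ≃* Cfsg.SU 2 F 3) (c : F),
      (∀ g, mat (θ g) 0 0 = τ0 (mat g 0 0) ∧ mat (θ g) 1 0 = c * τ0 (mat g 1 0)) →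
      d (κ 1) * cσ (d (κ 0)) = c → ∀ x, dfield d hdn τ0 (blk κ x) = blk κ (θ x) := by
    intro κ θ c hθ hcd x
    rw [dfield_blk]
    congr 1
    obtain ⟨a0, a1⟩ := dfield_su2 (d ∘ κ) (fun i => hdn (κ i)) τ0 x
    exact su2_ext (a0.trans (hθ x).1.symm) (a1.trans (by rw [(hθ x).2, ← hcd]; rfl))
  have b0 := hblk ω0 θ0 c0 s0 (by show c0 * cσ 1 = c0; rw [map_one, mul_one])
  have b1 := hblk ω1 θ1 c1 s1 (by show c0 * c1 * cσ c0 = c1; linear_combination c1 * hc0)
  have b2 := hblk ω2 θ2 c2 s2 (by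
    show c0 * c1 * c2 * cσ (c0 * c1) = c2
    rw [map_mul]
    linear_combination (c1 * cσ c1 * c2) * hc0 + c2 * hc1)
  set Φ := g2.comp (dfield d hdn τ0) with hΦ
  refine ⟨Φ, ?_, ?_⟩
  · refine MonoidHom.ext fun x => ?_
    have hS := gen_three le_rfl ((Φ.comp (blk W0)).eqLocus f0) ?_ ?_
    · exact hS.ge (Subgroup.mem_top x)
    · rintro _ ⟨y, rfl⟩
      show g2 (dfield d hdn τ0 (blk W0 (blk κ01 y))) = f0 (blk κ01 y)
      rw [e00, b0]; exact (h0 y).symm
    · rintro _ ⟨y, rfl⟩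
      show g2 (dfield d hdn τ0 (blk W0 (blk κ12 y))) = f0 (blk κ12 y)
      rw [e01, b1]; exact (h1 y).symm
  · refine MonoidHom.ext fun x => ?_
    have hS := gen_three le_rfl ((Φ.comp (blk W1)).eqLocus f1) ?_ ?_
    · exact hS.ge (Subgroup.mem_top x)
    · rintro _ ⟨y, rfl⟩
      show g2 (dfield d hdn τ0 (blk W1 (blk κ01 y))) = f1 (blk κ01 y)
      rw [e10, b1]; exact ((DFunLike.congr_fun hag y).trans (h1 y)).symm
    · rintro _ ⟨y, rfl⟩
      show g2 (dfield d hdn τ0 (blk W1 (blk κ12 y))) = f1 (blk κ12 y)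
      rw [e11, b2]; exact (h2 y).symm

end Cfsg.Lib.Known.Phan
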