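import Cfsg.Agent.Known.Phan.NineLift

/-! Placing three rank one groups over the field with nine elements as consecutive blocks of `SU 4`. -/

set_option autoImplicit false
set_option linter.unusedSimpArgs false
set_option linter.unusedSectionVars false
set_option linter.style.haveILetI false

namespace Cfsg.Lib.Known.Phan

open Matrix

universe u v

variable {F : Type u} [Field F] [Fintype F] [hF : Fact (Fintype.card F = 3 ^ 2)]

local notation "cσ" => cb F 3

/-- Coordinates 0, 1. -/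
abbrev ω0 : Fin 2 ↪ Fin 4 := win 2 0 (by omega)

/-- Coordinates 1, 2. -/
abbrev ω1 : Fin 2 ↪ Fin 4 := win 2 1 (by omega)

/-- Coordinates 2, 3. -/
abbrev ω2 : Fin 2 ↪ Fin 4 := win 2 2 (by omega)

theorem notMem_ω0 {j : Fin 4} (h : j ∉ Set.range ω0) : j = 2 ∨ j = 3 := by
  fin_cases j
  · exact absurd ⟨0, rfl⟩ h
  · exact absurd ⟨1, rfl⟩ h
  · exact Or.inl rfl
  · exact Or.inr rfl

theorem notMem_ω1 {j : Fin 4} (h : j ∉ Set.range ω1) : j = 0 ∨ j = 3 := by
  fin_cases j
  · exact Or.inl rfl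
  · exact absurd ⟨0, rfl⟩ h
  · exact absurd ⟨1, rfl⟩ h
  · exact Or.inr rfl

theorem notMem_ω2 {j : Fin 4} (h : j ∉ Set.range ω2) : j = 0 ∨ j = 1 := by
  fin_cases j
  · exact Or.inl rfl
  · exact Or.inr rfl
  · exact absurd ⟨0, rfl⟩ h
  · exact absurd ⟨1, rfl⟩ h

theorem win_val {k N j : ℕ} (h : j + k ≤ N) (i : Fin k) : ((win k j h i : Fin N) : ℕ) = j + i := rfl

theorem ω0_out : (2 : Fin 4) ∉ Set.range ω0 ∧ (3 : Fin 4) ∉ Set.range ω0 := by
  constructor <;> rintro ⟨i, hi⟩ <;> rw [Fin.ext_iff, ω0, win_val] at hi <;> fin_cases i <;> simp at hi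

theorem ω1_out : (0 : Fin 4) ∉ Set.range ω1 ∧ (3 : Fin 4) ∉ Set.range ω1 := by
  constructor <;> rintro ⟨i, hi⟩ <;> rw [Fin.ext_iff, ω1, win_val] at hi <;> fin_cases i <;> simp at hi

theorem ω2_out : (0 : Fin 4) ∉ Set.range ω2 ∧ (1 : Fin 4) ∉ Set.range ω2 := by
  constructor <;> rintro ⟨i, hi⟩ <;> rw [Fin.ext_iff, ω2, win_val] at hi <;> fin_cases i <;> simp at hi

variable (F) in
/-- Minus one. -/
noncomputable def Nm : Cfsg.SU 2 F 3 := su2 (-1) 0 (by simp)

variable (F) in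
/-- The Weyl element. -/
noncomputable def Wt : Cfsg.SU 2 F 3 := su2 0 1 (by simp)

theorem act_Nm (v : Fin 2 → F) : act (Nm F) v = -v := by
  rw [act, Nm, mat_su2]
  funext i
  fin_cases i <;> simp [Matrix.mulVec, dotProduct, Fin.sum_univ_two]

theorem Nm_central (x : Cfsg.SU 2 F 3) : Commute (Nm F) x := act_ext fun v => by
  rw [act_mul, act_mul, act_Nm, act_Nm, show -v = (-1 : F) • v by simp, act_smul]
  simp

theorem Nm_sq : Nm F * Nm F = 1 := act_ext fun v => by
  rw [act_mul, act_Nm, act_Nm, neg_neg, act_one]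

theorem exists_noncommuting : ∃ a b : Cfsg.SU 2 F 3, ¬ Commute a b := by
  obtain ⟨a, ha, hne⟩ := exists_torus_elt (F := F) (q := 3)
  refine ⟨su2 a 0 (by rw [zero_mul, add_zero, ha]), Wt F, fun h => hne ?_⟩
  have := congrArg (fun g => act g (ev 0) 1) h.eq
  simp only [act_mul] at this
  rw [Wt, act_su2_zero, act_su2_zero] at this
  simp [act, mat_su2, Matrix.mulVec, dotProduct, Fin.sum_univ_two] at this
  exact this.symm

/-- An element of order three commuting with a non-commuting pair is trivial. -/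
theorem eq_one_of_commute_pair {a b c : Cfsg.SU 2 F 3} (hab : ¬ Commute a b) (ha : Commute c a)
    (hb : Commute c b) (h3 : c ^ 3 = 1) : c = 1 := by
  have hmat : ∀ {x y : Cfsg.SU 2 F 3}, Commute x y → mat x * mat y = mat y * mat x := fun h =>
    congrArg mat h.eq
  have ea := hmat ha
  have eb := hmat hb
  rcases eq_or_ne (mat c 0 1) 0 with h01 | h01
  swap
  · refine absurd (act_ext fun v => ?_) hab
    have key : mat a * mat b = mat b * mat a := by
      have a00 := congrFun (congrFun ea 0) 0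
      have a01 := congrFun (congrFun ea 0) 1
      have b00 := congrFun (congrFun eb 0) 0
      have b01 := congrFun (congrFun eb 0) 1
      simp [Matrix.mul_apply, Fin.sum_univ_two] at a00 a01 b00 b01
      have k00 : mat a 0 1 * mat b 1 0 = mat b 0 1 * mat a 1 0 :=
        mul_left_cancel₀ h01 (by linear_combination (mat a 0 1) * b00 - (mat b 0 1) * a00)
      ext i j
      fin_cases i <;> fin_cases j <;> simp [Matrix.mul_apply, Fin.sum_univ_two] <;>
        refine mul_left_cancel₀ h01 ?_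
      · linear_combination (mat c 0 1) * k00
      · linear_combination (mat a 0 1) * b01 - (mat b 0 1) * a01
      · linear_combination (mat b 1 0) * a01 - (mat a 1 0) * b01 + (mat c 1 1 - mat c 0 0) * k00
      · linear_combination -(mat c 0 1) * k00
    show act (a * b) v = act (b * a) v
    show (mat a * mat b) *ᵥ v = (mat b * mat a) *ᵥ v
    rw [key]
  have hc := eq_su2 c
  have hp : mat c 1 0 = 0 := by
    have : mat c 0 1 = -cσ (mat c 1 0) := by conv_lhs => rw [hc, mat_su2]; simp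
    rw [h01, eq_comm, neg_eq_zero] at this
    exact cb_eq_zero.mp this
  have h11 : mat c 1 1 = cσ (mat c 0 0) := by conv_lhs => rw [hc, mat_su2]; simp
  set m := mat c 0 0 with hm
  have hd : ∀ k : ℕ, mat (c ^ k) 0 0 = m ^ k ∧ mat (c ^ k) 1 0 = 0 := by
    intro k
    induction k with
    | zero => simp [mat]
    | succ k ih =>
      rw [pow_succ]
      show (mat (c ^ k) * mat c) 0 0 = _ ∧ (mat (c ^ k) * mat c) 1 0 = _
      simp [Matrix.mul_apply, Fin.sum_univ_two, ih.1, ih.2, hp, pow_succ, ← hm]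
  have hm1 : m = 1 := cube_eq_one (by rw [← (hd 3).1, h3]; simp [mat])
  exact su2_ext (by rw [← hm, hm1]; simp [mat]) (by rw [hp]; simp [mat])

/-- The product of the outer blocks. -/
noncomputable def J2 : Cfsg.SU 2 F 3 × Cfsg.SU 2 F 3 →* Cfsg.SU 4 F 3 :=
  (blk ω0).noncommCoprod (blk ω2) fun a b => blk_commute ω0 ω2 (fun i j => by
    rw [Ne, Fin.ext_iff, ω0, ω2, win_val, win_val]; omega) a b

theorem J2_apply (a b : Cfsg.SU 2 F 3) : J2 (a, b) = blk ω0 a * blk ω2 b := rfl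

theorem J2_comp0 (a b : Cfsg.SU 2 F 3) (v : Fin 4 → F) : act (J2 (a, b)) v ∘ ω0 = act a (v ∘ ω0) := by
  rw [J2_apply, act_mul, blk_comp]
  congr 1
  funext i
  exact blk_apply_notMem ω2 b v (by fin_cases i <;> [exact ω2_out.1; exact ω2_out.2])

theorem J2_comp2 (a b : Cfsg.SU 2 F 3) (v : Fin 4 → F) : act (J2 (a, b)) v ∘ ω2 = act b (v ∘ ω2) := by
  rw [J2_apply, act_mul, ← blk_comp ω2 b v]
  funext i
  exact blk_apply_notMem ω0 a _ (by fin_cases i <;> [exact ω0_out.1; exact ω0_out.2])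

theorem J2_injective : Function.Injective (J2 (F := F)) := by
  rintro ⟨a, b⟩ ⟨a', b'⟩ h
  refine Prod.ext (act_ext fun v => ?_) (act_ext fun v => ?_)
  · have := J2_comp0 a b (pad ω0 v)
    rw [h, J2_comp0, pad_comp] at this
    exact this.symm
  · have := J2_comp2 a b (pad ω2 v)
    rw [h, J2_comp2, pad_comp] at this
    exact this.symm

/-- Elements of order three commuting with the diagonal involution split. -/
theorem split_elem {t x : Cfsg.SU 4 F 3} {ν : F} (hν : ν ≠ -ν)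
    (ht : ∀ i : Fin 4, act t (ev i) = (if (i : ℕ) < 2 then ν else -ν) • ev i)
    (hx : Commute t x) (h3 : x ^ 3 = 1) : x ∈ (J2 (F := F)).range := by
  classical
  have hentry : ∀ i j, mat t i j = (if (j : ℕ) < 2 then ν else -ν) * (ev j : Fin 4 → F) i := fun i j => by
    have := congrFun (ht j) i
    rwa [act, ev, Matrix.mulVec_single_one] at this
  have hcoord : ∀ v i, act t v i = (if (i : ℕ) < 2 then ν else -ν) * v i := fun v i => by
    show ∑ j, mat t i j * v j = _
    rw [Finset.sum_eq_single i (fun j _ hj => by rw [hentry]; simp [ev, hj.symm])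
      (fun h => absurd (Finset.mem_univ i) h), hentry]
    simp [ev]
  set A : Matrix (Fin 2) (Fin 2) F := Matrix.of fun i j => act x (ev (ω0 j)) (ω0 i) with hA
  have hcol : ∀ j, act x (ev (ω0 j)) = pad ω0 (fun i => A i j) := by
    intro j
    have hev : act t (act x (ev (ω0 j))) = ν • act x (ev (ω0 j)) := by
      rw [← act_mul, hx.eq, act_mul, ht, if_pos (by fin_cases j <;> simp [ω0, win]), act_smul]
    funext l
    by_cases hl : l ∈ Set.range ω0
    · obtain ⟨i, rfl⟩ := hl; rw [pad_mem]; rfl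
    · rw [pad_notMem _ _ hl]
      have h1 := congrFun hev l
      rw [hcoord, if_neg (by rcases notMem_ω0 hl with rfl | rfl <;> decide), Pi.smul_apply, smul_eq_mul] at h1
      by_contra hne
      exact hν (mul_right_cancel₀ hne h1).symm
  have hxp : ∀ u, act x (pad ω0 u) = pad ω0 (A *ᵥ u) := fun u => by
    rw [blk_mulVec_pad ω0 u, Fin.sum_univ_two, act_add, act_smul, act_smul, hcol, hcol]
    funext l
    by_cases hl : l ∈ Set.range ω0
    · obtain ⟨i, rfl⟩ := hl
      simp only [Pi.add_apply, Pi.smul_apply, pad_mem, smul_eq_mul, Matrix.mulVec, dotProduct, Fin.sum_univ_two]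
      ring
    · simp only [Pi.add_apply, Pi.smul_apply, pad_notMem _ _ hl, smul_zero, add_zero]
  have hdet : A.det = 1 := by
    refine cube_eq_one ?_
    have h : A * (A * A) = 1 := by
      refine Matrix.ext_of_mulVec_single fun i => ?_
      rw [← Matrix.mulVec_mulVec, ← Matrix.mulVec_mulVec, Matrix.one_mulVec]
      have := congrArg (fun g => act g (pad ω0 (Pi.single i (1 : F)))) h3
      simp only [pow_succ, pow_zero, one_mul, act_mul, act_one, hxp] at this
      exact (pad_comp ω0 _).symm.trans ((congrArg (· ∘ ω0) this).trans (pad_comp ω0 _))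
    have := congrArg Matrix.det h
    rw [Matrix.det_mul, Matrix.det_mul, Matrix.det_one] at this
    linear_combination this
  have hmem : (⟨A, hdet⟩ : Matrix.SpecialLinearGroup (Fin 2) F) ∈ Cfsg.SU 2 F 3 := by
    intro u v
    change Cfsg.hermForm 2 F 3 (A *ᵥ u) (A *ᵥ v) = Cfsg.hermForm 2 F 3 u v
    rw [← Cfsg.Lib.Classical.stdHerm_h hF.out, ← Cfsg.Lib.Classical.stdHerm_h hF.out, ← h_pad ω0, ← hxp,
      ← hxp, act_h, h_pad]
  set a : Cfsg.SU 2 F 3 := ⟨⟨A, hdet⟩, hmem⟩ with ha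
  obtain ⟨b, hb⟩ := exists_blk ω2 (g := (blk ω0 a)⁻¹ * x) fun j hj => by
    rw [act_mul]
    refine act_inv_eq ?_
    obtain ⟨i, rfl⟩ : ∃ i, ω0 i = j := by
      rcases notMem_ω2 hj with rfl | rfl
      · exact ⟨0, rfl⟩
      · exact ⟨1, rfl⟩
    rw [blk_ev, ← pad_ev, hxp]
    rfl
  exact ⟨(a, b), by rw [J2_apply, hb, mul_inv_cancel_left]⟩

variable {G : Type v} [Group G]

theorem lifts_comp {g : Cfsg.SU 4 F 3 →* G} {S : Subgroup G} (P z : Cfsg.SU 4 F 3)
    (hz : z ∈ lifts (g.comp (MulAut.conj P).toMonoidHom) S) : P * z * P⁻¹ ∈ lifts g S := by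
  suffices lifts (g.comp (MulAut.conj P).toMonoidHom) S ≤ (lifts g S).comap (MulAut.conj P).toMonoidHom from
    this hz
  refine (Subgroup.closure_le _).mpr fun y hy => Subgroup.subset_closure ⟨?_, hy.2⟩
  show (P * y * P⁻¹) ^ 3 = 1
  rw [conj_pow, hy.1, mul_one, mul_inv_cancel]

/-- Embedded blocks stay faithful. -/
theorem inj_blk {k N : ℕ} {g : Cfsg.SU N F 3 →* G} (hg : ScalarKer g) (κ : Fin k ↪ Fin N) {j : Fin N}
    (hj : j ∉ Set.range κ) : Function.Injective (g.comp (blk κ)) := by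
  refine (injective_iff_map_eq_one _).mpr fun a ha => ?_
  obtain ⟨l, hl⟩ := hg (blk κ a) ha
  have h1 := congrFun (hl (ev j)) j
  rw [blk_fix κ a hj] at h1
  have hl1 : l = 1 := by simpa [ev] using h1.symm
  refine blk_injective κ ?_
  rw [map_one]
  exact act_ext fun v => by rw [hl, hl1, one_smul, act_one]

/-- A block inside a given range with enough room is that range. -/
theorem range_eq_of_le {k : ℕ} {g : Cfsg.SU 4 F 3 →* G} (hg : ScalarKer g) (κ : Fin k ↪ Fin 4) {j : Fin 4}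
    (hj : j ∉ Set.range κ) (φ : Cfsg.SU k F 3 →* G) (hφ : Function.Injective φ)
    (h : (g.comp (blk κ)).range ≤ φ.range ∨ φ.range ≤ (g.comp (blk κ)).range) :
    (g.comp (blk κ)).range = φ.range := by
  haveI : Finite (Matrix.SpecialLinearGroup (Fin k) F) := Subtype.finite
  have hc : Nat.card (g.comp (blk κ)).range = Nat.card φ.range := by
    rw [← Nat.card_congr (MonoidHom.ofInjective (inj_blk hg κ hj)).toEquiv,
      ← Nat.card_congr (MonoidHom.ofInjective hφ).toEquiv]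
  haveI : Finite (g.comp (blk κ)).range := Finite.of_surjective _ (g.comp (blk κ)).rangeRestrict_surjective
  haveI : Finite φ.range := Finite.of_surjective _ φ.rangeRestrict_surjective
  rcases h with h | h
  · exact Subgroup.eq_of_le_of_card_ge h hc.ge
  · exact (Subgroup.eq_of_le_of_card_ge h hc.le).symm

/-- Commuting groups generated by elements of order three sit in separate factors. -/
theorem separate {g : Cfsg.SU 4 F 3 →* G} (hg : ScalarKer g) {φ φ' : Cfsg.SU 2 F 3 →* G}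
    (hφ : Function.Injective φ) (hφ' : Function.Injective φ') (hr : φ.range ≤ g.range)
    (hr' : φ'.range ≤ g.range) (hc : ∀ a b, Commute (φ a) (φ' b))
    (hJ : lifts g φ.range ≤ (J2 (F := F)).range) (hJ' : lifts g φ'.range ≤ (J2 (F := F)).range) :
    (lifts g φ.range ≤ (blk ω0).range ∧ lifts g φ'.range ≤ (blk ω2).range) ∨
      (lifts g φ.range ≤ (blk ω2).range ∧ lifts g φ'.range ≤ (blk ω0).range) := by
  have hcc : ∀ x ∈ lifts g φ.range, ∀ y ∈ lifts g φ'.range, Commute x y := fun x hx y hy =>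
    commute_lifts₂ (by norm_num) hg (by rintro _ ⟨a, rfl⟩ _ ⟨b, rfl⟩; exact hc a b) hx hy
  have pair : ∀ (ψ : Cfsg.SU 2 F 3 →* G), Function.Injective ψ → ψ.range ≤ g.range →
      lifts g ψ.range ≤ (J2 (F := F)).range → ∃ p r : Cfsg.SU 2 F 3 × Cfsg.SU 2 F 3,
        J2 p ∈ lifts g ψ.range ∧ J2 r ∈ lifts g ψ.range ∧ ¬ Commute p r := by
    intro ψ hψ hψr hψJ
    obtain ⟨a, b, hab⟩ := exists_noncommuting (F := F)
    have hm := map_lifts (by norm_num) hg ψ hψr
    obtain ⟨x, hx, hxa⟩ := Subgroup.mem_map.mp (show ψ a ∈ (lifts g ψ.range).map g by rw [hm]; exact ⟨a, rfl⟩)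
    obtain ⟨y, hy, hyb⟩ := Subgroup.mem_map.mp (show ψ b ∈ (lifts g ψ.range).map g by rw [hm]; exact ⟨b, rfl⟩)
    obtain ⟨p, rfl⟩ := hψJ hx
    obtain ⟨r, rfl⟩ := hψJ hy
    refine ⟨p, r, hx, hy, fun h => hab (hψ ?_)⟩
    rw [map_mul, map_mul, ← hxa, ← hyb, ← map_mul, ← map_mul, ← map_mul, ← map_mul, h.eq]
  have side : ∀ (S : Subgroup G) (p r : Cfsg.SU 2 F 3 × Cfsg.SU 2 F 3),
      lifts g S ≤ (J2 (F := F)).range → (∀ z ∈ lifts g S, Commute z (J2 p) ∧ Commute z (J2 r)) →
      (¬ Commute p.1 r.1 → lifts g S ≤ (blk ω2).range) ∧ (¬ Commute p.2 r.2 → lifts g S ≤ (blk ω0).range) := by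
    intro S p r hSJ hS
    have main : ∀ z, z ^ 3 = 1 → g z ∈ S → ∃ s : Cfsg.SU 2 F 3 × Cfsg.SU 2 F 3,
        J2 s = z ∧ s ^ 3 = 1 ∧ Commute s p ∧ Commute s r := by
      intro z hz3 hzS
      have hz : z ∈ lifts g S := Subgroup.subset_closure ⟨hz3, hzS⟩
      obtain ⟨s, rfl⟩ := hSJ hz
      exact ⟨s, rfl, J2_injective (by rw [map_pow, hz3, map_one]),
        J2_injective (by rw [map_mul, map_mul]; exact (hS _ hz).1.eq),
        J2_injective (by rw [map_mul, map_mul]; exact (hS _ hz).2.eq)⟩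
    constructor <;> intro hne <;> refine (Subgroup.closure_le _).mpr fun z hz => ?_ <;>
      obtain ⟨⟨a, b⟩, rfl, h3, hp, hr⟩ := main z hz.1 hz.2
    · have ha : a = 1 := eq_one_of_commute_pair hne (hp.map (MonoidHom.fst _ _)) (hr.map (MonoidHom.fst _ _))
        (congrArg Prod.fst h3)
      exact ⟨b, by rw [J2_apply, ha, map_one, one_mul]⟩
    · have hb : b = 1 := eq_one_of_commute_pair hne (hp.map (MonoidHom.snd _ _)) (hr.map (MonoidHom.snd _ _))
        (congrArg Prod.snd h3)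
      exact ⟨a, by rw [J2_apply, hb, map_one, mul_one]⟩
  obtain ⟨p, r, hp, hr1, hpr⟩ := pair φ hφ hr hJ
  obtain ⟨p', r', hp', hr1', hpr'⟩ := pair φ' hφ' hr' hJ'
  have s1 := side φ'.range p r hJ' fun z hz => ⟨(hcc _ hp z hz).symm, (hcc _ hr1 z hz).symm⟩
  have s2 := side φ.range p' r' hJ fun z hz => ⟨hcc z hz _ hp', hcc z hz _ hr1'⟩
  have hcase : ¬ Commute p.1 r.1 ∨ ¬ Commute p.2 r.2 := by
    by_contra h
    push Not at h
    exact hpr (Prod.ext h.1.eq h.2.eq)
  have hcase' : ¬ Commute p'.1 r'.1 ∨ ¬ Commute p'.2 r'.2 := by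
    by_contra h
    push Not at h
    exact hpr' (Prod.ext h.1.eq h.2.eq)
  rcases hcase with h | h
  · left
    refine ⟨(s2.2 ?_), s1.1 h⟩
    rcases hcase' with h' | h'
    · obtain ⟨a, ha⟩ := s1.1 h hp'
      obtain ⟨b, hb⟩ := s1.1 h hr1'
      have e1 : p' = ((1 : Cfsg.SU 2 F 3), a) := J2_injective (by rw [← ha, J2_apply, map_one, one_mul])
      have e2 : r' = ((1 : Cfsg.SU 2 F 3), b) := J2_injective (by rw [← hb, J2_apply, map_one, one_mul])
      rw [e1, e2] at h'
      exact absurd (Commute.one_left _) h'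
    · exact h'
  · right
    refine ⟨(s2.1 ?_), s1.2 h⟩
    rcases hcase' with h' | h'
    · exact h'
    · obtain ⟨a, ha⟩ := s1.2 h hp'
      obtain ⟨b, hb⟩ := s1.2 h hr1'
      have e1 : p' = (a, (1 : Cfsg.SU 2 F 3)) := J2_injective (by rw [← ha, J2_apply, map_one, mul_one])
      have e2 : r' = (b, (1 : Cfsg.SU 2 F 3)) := J2_injective (by rw [← hb, J2_apply, map_one, mul_one])
      rw [e1, e2] at h'
      exact absurd (Commute.one_left _) h'

/-- The frame of the two outer groups. -/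
theorem exists_outer_frame {g : Cfsg.SU 4 F 3 →* G} (hg : ScalarKer g) {φ φ' : Cfsg.SU 2 F 3 →* G}
    (hφ : Function.Injective φ) (hφ' : Function.Injective φ') (hr : φ.range ≤ g.range)
    (hr' : φ'.range ≤ g.range) (hc : ∀ a b, Commute (φ a) (φ' b))
    (hns : ∀ t, g t = φ (Nm F) → ∀ l : F, ∃ v, act t v ≠ l • v) :
    ∃ (g1 : Cfsg.SU 4 F 3 →* G) (t : Cfsg.SU 4 F 3) (ν : F), ScalarKer g1 ∧ g1.range = g.range ∧
      ν * cσ ν = 1 ∧ (∀ i : Fin 4, act t (ev i) = (if (i : ℕ) < 2 then ν else -ν) • ev i) ∧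
      g1 t = φ (Nm F) ∧ lifts g1 φ.range ≤ (blk ω0).range ∧ lifts g1 φ'.range ≤ (blk ω2).range := by
  obtain ⟨t, ht⟩ := hr ⟨Nm F, rfl⟩
  obtain ⟨μ, hμ⟩ : ∃ μ : F, ∀ v, act t (act t v) = μ • v := by
    obtain ⟨l, hl⟩ := hg (t * t) (by rw [MonoidHom.mem_ker, map_mul, ht, ← map_mul, Nm_sq, map_one])
    exact ⟨l, fun v => by rw [← act_mul, hl]⟩
  obtain ⟨ν, y, hν, hy⟩ := exists_eigen hμ (hns t ht)
  have hν0 : ν ≠ 0 := left_ne_zero_of_mul_eq_one hν
  have hne : ν ≠ -ν := fun h => two_ne (F := F) (mul_right_cancel₀ hν0 (by linear_combination h))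
  set g0 := g.comp (MulAut.conj y).toMonoidHom with hg0
  have hs0 : ScalarKer g0 := hg.comp y
  have hrange : g0.range = g.range := by
    rw [hg0, MonoidHom.range_comp, MonoidHom.range_eq_top.mpr (MulAut.conj y).surjective, ← MonoidHom.range_eq_map]
  set t0 := y⁻¹ * t * y with ht0
  have hgt : g0 t0 = φ (Nm F) := by
    rw [← ht]
    exact congrArg g (show y * (y⁻¹ * t * y) * y⁻¹ = t by group)
  have hd : ∀ i : Fin 4, act t0 (ev i) = (if (i : ℕ) < 2 then ν else -ν) • ev i := fun i => by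
    rw [ht0, act_mul, act_mul, hy, act_smul, act_inv_act]
  have hJ : ∀ S : Subgroup G, (∀ u ∈ S, Commute (φ (Nm F)) u) → lifts g0 S ≤ (J2 (F := F)).range := by
    intro S hS
    refine (Subgroup.closure_le _).mpr fun z hz => split_elem hne hd ?_ hz.1
    exact commute_lift (by norm_num) hs0 hz.1 (by rw [hgt]; exact hS _ hz.2)
  rcases separate hs0 hφ hφ' (hrange ▸ hr) (hrange ▸ hr') hc
    (hJ _ (by rintro _ ⟨a, rfl⟩; exact (Nm_central a).map φ)) (hJ _ (by rintro _ ⟨a, rfl⟩; exact hc _ a))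
    with ⟨h1, h2⟩ | ⟨h1, h2⟩
  · exact ⟨g0, t0, ν, hs0, hrange, hν, hd, hgt, h1, h2⟩
  · obtain ⟨P, hP⟩ := mk_frame (q := 3) (![ev 2, ev 3, ev 0, ev 1] : Fin 4 → Fin 4 → F)
      (fun i j => by fin_cases i <;> fin_cases j <;> simp [ev_ev])
      (by
        rw [Matrix.det_succ_row_zero]
        simp [Fin.sum_univ_succ, ev, Matrix.det_fin_three, Fin.succAbove]
        try norm_num)
    have hPi : ∀ i, act P⁻¹ ((![ev 2, ev 3, ev 0, ev 1] : Fin 4 → Fin 4 → F) i) = ev i := fun i =>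
      act_inv_eq (hP i)
    refine ⟨g0.comp (MulAut.conj P).toMonoidHom, P⁻¹ * t0 * P, -ν, hs0.comp P, ?_,
      by rw [map_neg, neg_mul_neg, hν], fun i => ?_, ?_, ?_, ?_⟩
    · rw [MonoidHom.range_comp, MonoidHom.range_eq_top.mpr (MulAut.conj P).surjective, ← MonoidHom.range_eq_map,
        hrange]
    · have e2 : act P⁻¹ (ev 2) = ev 0 := hPi 0
      have e3 : act P⁻¹ (ev 3) = ev 1 := hPi 1
      have e0 : act P⁻¹ (ev 0) = ev 2 := hPi 2
      have e1 : act P⁻¹ (ev 1) = ev 3 := hPi 3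
      rw [act_mul, act_mul, hP]
      fin_cases i <;>
        simp [hd, act_smul, ← neg_smul, e0, e1, e2, e3]
    · rw [← hgt]
      exact congrArg g0 (show P * (P⁻¹ * t0 * P) * P⁻¹ = t0 by group)
    · intro z hz
      obtain ⟨a, ha⟩ := h1 (lifts_comp P z hz)
      refine exists_blk ω0 fun j hj => ?_
      rw [show z = P⁻¹ * blk ω2 a * P by rw [ha]; group, act_mul, act_mul]
      rcases notMem_ω0 hj with rfl | rfl
      · rw [hP, show (![ev 2, ev 3, ev 0, ev 1] : Fin 4 → Fin 4 → F) 2 = ev 0 from rfl, blk_fix _ _ ω2_out.1]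
        exact act_inv_eq (hP 2)
      · rw [hP, show (![ev 2, ev 3, ev 0, ev 1] : Fin 4 → Fin 4 → F) 3 = ev 1 from rfl, blk_fix _ _ ω2_out.2]
        exact act_inv_eq (hP 3)
    · intro z hz
      obtain ⟨a, ha⟩ := h2 (lifts_comp P z hz)
      refine exists_blk ω2 fun j hj => ?_
      rw [show z = P⁻¹ * blk ω0 a * P by rw [ha]; group, act_mul, act_mul]
      rcases notMem_ω2 hj with rfl | rfl
      · rw [hP, show (![ev 2, ev 3, ev 0, ev 1] : Fin 4 → Fin 4 → F) 0 = ev 2 from rfl, blk_fix _ _ ω0_out.1]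
        exact act_inv_eq (hP 0)
      · rw [hP, show (![ev 2, ev 3, ev 0, ev 1] : Fin 4 → Fin 4 → F) 1 = ev 3 from rfl, blk_fix _ _ ω0_out.2]
        exact act_inv_eq (hP 1)

end Cfsg.Lib.Known.Phan
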