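import Cfsg.Agent.Known.Phan.Build
import Cfsg.Agent.Classical.Unitary.Simple

/-! Lifting to `SU 4` over the field with nine elements: scalar kernels, lifts of elements of order three, and
involutory frames. -/

set_option autoImplicit false
set_option linter.unusedSimpArgs false
set_option linter.unusedSectionVars false
set_option linter.style.haveILetI false

namespace Cfsg.Lib.Known.Phan

open Matrix
open scoped commutatorElement
open Cfsg.Lib.Classical (suEquiv suEquiv_coe unitToGL_mulVec)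

universe u v

section Gen

variable {F : Type u} [Field F] [Fintype F] {q : ℕ} [hF : Fact (Fintype.card F = q ^ 2)]

/-- Proper normal subgroups consist of scalars. -/
theorem normal_scalar {N : ℕ} (hN : 4 ≤ N) (K : Subgroup (Cfsg.SU N F q)) [hK : K.Normal] :
    K = ⊤ ∨ ∀ k ∈ K, ∃ l : F, ∀ v, act k v = l • v := by
  set H := HS F q N
  have hd : 4 ≤ Module.finrank F (Fin N → F) := by rw [Module.finrank_fin_fun]; exact hN
  haveI := H.isSimpleGroup_SIsom_quotient (Or.inl hd)
  set e := suEquiv N hF.out with he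
  set K' : Subgroup H.SIsom := K.comap e.toMonoidHom with hK'
  haveI : K'.Normal := hK.comap _
  haveI := Subgroup.Normal.map ‹K'.Normal› (QuotientGroup.mk' (Subgroup.center H.SIsom))
    (QuotientGroup.mk'_surjective _)
  rcases Subgroup.Normal.eq_bot_or_eq_top
    (H := K'.map (QuotientGroup.mk' (Subgroup.center H.SIsom))) inferInstance with h | h
  · refine Or.inr fun k hk => ?_
    obtain ⟨g, rfl⟩ := e.surjective k
    rw [Subgroup.map_eq_bot_iff, QuotientGroup.ker_mk'] at h
    obtain ⟨a, -, -, ha⟩ := (H.mem_center_SIsom_iff (by omega)).mp (h (show g ∈ K' from hk))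
    refine ⟨a, fun v => ?_⟩
    rw [act, mat, he, suEquiv_coe, unitToGL_mulVec]
    exact ha v
  · refine Or.inl ?_
    have hsup : K' ⊔ Subgroup.center H.SIsom = ⊤ := by
      rw [← QuotientGroup.ker_mk' (Subgroup.center H.SIsom), ← Subgroup.comap_map_eq, h, Subgroup.comap_top]
    have hc : commutator H.SIsom ≤ K' := by
      rw [commutator_eq_closure, Subgroup.closure_le]
      rintro _ ⟨x, y, rfl⟩
      have hx : x ∈ K' ⊔ Subgroup.center H.SIsom := hsup ▸ Subgroup.mem_top x
      rw [Subgroup.mem_sup_of_normal_left] at hx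
      obtain ⟨a, ha, z, hz, rfl⟩ := hx
      have hzy : z * y * z⁻¹ = y := by rw [← Subgroup.mem_center_iff.mp hz y, mul_inv_cancel_right]
      have e1 : ⁅a * z, y⁆ = a * (y * a⁻¹ * y⁻¹) := by
        rw [commutatorElement_def, _root_.mul_inv_rev, show a * z * y * (z⁻¹ * a⁻¹) * y⁻¹ =
          a * ((z * y * z⁻¹) * a⁻¹ * y⁻¹) by group, hzy]
      rw [SetLike.mem_coe, e1]
      exact mul_mem ha (‹K'.Normal›.conj_mem _ (inv_mem ha) y)
    rw [H.commutator_SIsom (Or.inl hd), top_le_iff] at hc
    refine (Subgroup.eq_top_iff' K).mpr fun k => ?_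
    obtain ⟨g, rfl⟩ := e.surjective k
    exact (hc ▸ Subgroup.mem_top g : g ∈ K')

theorem scalar_norm {N : ℕ} (hN : 0 < N) {k : Cfsg.SU N F q} {l : F} (h : ∀ v, act k v = l • v) :
    l * cb F q l = 1 := by
  have := act_h k (ev ⟨0, hN⟩) (ev ⟨0, hN⟩)
  rwa [h, (HS F q N).smul_left, (HS F q N).smul_right, hs_sigma, ev_ev, if_pos rfl, mul_one] at this

theorem scalar_central {N : ℕ} {k : Cfsg.SU N F q} {l : F} (h : ∀ v, act k v = l • v) (g : Cfsg.SU N F q) :
    g * k = k * g := act_ext fun v => by rw [act_mul, act_mul, h, h, act_smul]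

/-- Frames of determinant one give elements of the group. -/
theorem mk_frame {N : ℕ} (p : Fin N → (Fin N → F))
    (hp : ∀ i j, (HS F q N).h (p i) (p j) = if i = j then 1 else 0)
    (hd : (Matrix.of fun i j => p j i).det = 1) : ∃ y : Cfsg.SU N F q, ∀ i, act y (ev i) = p i := by
  set A : Matrix (Fin N) (Fin N) F := Matrix.of fun i j => p j i with hA
  have hAu : ∀ u, A *ᵥ u = ∑ j, u j • p j := fun u => by
    funext i
    simp [hA, Matrix.mulVec, dotProduct, mul_comm]
  refine ⟨⟨⟨A, hd⟩, fun u v => ?_⟩, fun i => ?_⟩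
  · change Cfsg.hermForm N F q (A *ᵥ u) (A *ᵥ v) = _
    rw [← Cfsg.Lib.Classical.stdHerm_h hF.out, ← Cfsg.Lib.Classical.stdHerm_h hF.out, hAu, hAu, hs_h u v,
      (HS F q N).sum_left]
    refine Finset.sum_congr rfl fun i _ => ?_
    rw [(HS F q N).sum_right, Finset.sum_eq_single i]
    · rw [(HS F q N).smul_left, (HS F q N).smul_right, hs_sigma, hp, if_pos rfl, mul_one]
    · intro j _ hj
      rw [(HS F q N).smul_left, (HS F q N).smul_right, hp, if_neg hj.symm, mul_zero, mul_zero]
    · exact fun h => absurd (Finset.mem_univ i) h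
  · rw [act, ev, Matrix.mulVec_single_one]
    rfl

/-- The determinant of an orthonormal frame has norm one. -/
theorem frame_det_norm {N : ℕ} (p : Fin N → (Fin N → F))
    (hp : ∀ i j, (HS F q N).h (p i) (p j) = if i = j then 1 else 0) :
    (Matrix.of fun i j => p j i).det * cb F q (Matrix.of fun i j => p j i).det = 1 := by
  set A : Matrix (Fin N) (Fin N) F := Matrix.of fun i j => p j i with hA
  have h1 : A.transpose * A.map (cb F q) = 1 := by
    ext i j
    rw [Matrix.mul_apply, Matrix.one_apply, ← hp i j, hs_h]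
    rfl
  have h2 := congrArg Matrix.det h1
  rwa [Matrix.det_mul, Matrix.det_transpose, Matrix.det_one,
    show A.map (cb F q) = (cb F q).mapMatrix A from rfl, ← RingHom.map_det] at h2

/-- An element of order three commuting with a block diagonal element. -/
theorem blk_mulVec_pad {k N : ℕ} (κ : Fin k ↪ Fin N) (v : Fin k → F) :
    pad κ v = ∑ j, v j • (ev (κ j) : Fin N → F) := by
  funext i
  by_cases hi : i ∈ Set.range κ
  · obtain ⟨l, rfl⟩ := hi
    simp [pad_mem, ev, Pi.single_apply, κ.injective.eq_iff]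
  · rw [pad_notMem κ v hi, Finset.sum_apply, Finset.sum_eq_zero]
    intro j _
    rw [Pi.smul_apply, ev, Pi.single_eq_of_ne (fun e => hi ⟨j, e.symm⟩), smul_zero]

end Gen

section Nine

variable {F : Type u} [Field F] [Fintype F] [hF : Fact (Fintype.card F = 3 ^ 2)]

theorem three_eq_zero : (3 : F) = 0 := by
  have h : ((Fintype.card F : ℕ) : F) = 0 := FiniteField.cast_card_eq_zero F
  rw [hF.out] at h
  push_cast at h
  exact (pow_eq_zero_iff (n := 2) two_ne_zero).mp (by linear_combination h)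

theorem neg_one_ne : (-1 : F) ≠ 1 := fun h => one_ne_zero (α := F)
  (by linear_combination h + three_eq_zero (F := F))

theorem two_ne : (2 : F) ≠ 0 := fun h => neg_one_ne (F := F) (by linear_combination -h)

theorem cube_eq_one {x : F} (h : x ^ 3 = 1) : x = 1 :=
  sub_eq_zero.mp ((pow_eq_zero_iff (n := 3) (by norm_num)).mp
    (by linear_combination h - (x ^ 2 - x) * three_eq_zero (F := F)))

theorem norm_four (x : F) : x * cb F 3 x = x ^ 4 := by rw [cb_apply]; ring

variable {G : Type v} [Group G] {N : ℕ}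

/-- Scalars of the kernel. -/
def ScalarKer (g : Cfsg.SU N F 3 →* G) : Prop := ∀ k ∈ g.ker, ∃ l : F, ∀ v, act k v = l • v

theorem scalarKer_pow {g : Cfsg.SU N F 3 →* G} (hN : 0 < N) (hg : ScalarKer g) {k : Cfsg.SU N F 3}
    (hk : k ∈ g.ker) : k ^ 4 = 1 ∧ ∀ x, x * k = k * x := by
  obtain ⟨l, hl⟩ := hg k hk
  have h4 : l ^ 4 = 1 := by rw [← norm_four]; exact scalar_norm hN hl
  refine ⟨act_ext fun v => ?_, fun x => scalar_central hl x⟩
  rw [pow_succ, pow_succ, pow_succ, pow_one, act_mul, act_mul, act_mul, hl, hl, hl, hl, smul_smul, smul_smul,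
    smul_smul, act_one, show l * l * l * l = l ^ 4 by ring, h4, one_smul]

theorem ScalarKer.comp {g : Cfsg.SU N F 3 →* G} (hg : ScalarKer g) (y : Cfsg.SU N F 3) :
    ScalarKer (g.comp (MulAut.conj y).toMonoidHom) := by
  intro k hk
  obtain ⟨l, hl⟩ := hg _ (show y * k * y⁻¹ ∈ g.ker from hk)
  refine ⟨l, fun v => ?_⟩
  have := congrArg (act y⁻¹) (hl (act y v))
  rwa [act_mul, act_mul, act_inv_act, act_inv_act, act_smul, act_inv_act] at this

/-- Elements of order three have lifts of order three. -/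
theorem exists_lift3 {g : Cfsg.SU N F 3 →* G} (hN : 0 < N) (hg : ScalarKer g) {u : G} (hu : u ∈ g.range)
    (h3 : u ^ 3 = 1) : ∃ y, y ^ 3 = 1 ∧ g y = u := by
  obtain ⟨x, rfl⟩ := hu
  have hk : x ^ 3 ∈ g.ker := by rw [MonoidHom.mem_ker, map_pow, h3]
  refine ⟨x ^ 4, by rw [← pow_mul, show 4 * 3 = 3 * 4 from rfl, pow_mul]; exact (scalarKer_pow hN hg hk).1, ?_⟩
  rw [map_pow, pow_succ, h3, one_mul]

/-- Commutation lifts along elements of order three. -/
theorem commute_lift {g : Cfsg.SU N F 3 →* G} (hN : 0 < N) (hg : ScalarKer g) {x y : Cfsg.SU N F 3}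
    (hy : y ^ 3 = 1) (h : Commute (g x) (g y)) : Commute x y := by
  set k := x * y * x⁻¹ * y⁻¹ with hk
  have hker : k ∈ g.ker := by
    rw [MonoidHom.mem_ker, hk, map_mul, map_mul, map_mul, map_inv, map_inv, h.eq, mul_inv_cancel_right,
      mul_inv_cancel]
  obtain ⟨h4, hc⟩ := scalarKer_pow hN hg hker
  have e : x * y * x⁻¹ = k * y := by rw [hk, inv_mul_cancel_right]
  have h1 : (k * y) ^ 3 = 1 := by rw [← e, conj_pow, hy, mul_one, mul_inv_cancel]
  rw [Commute.mul_pow (hc y).symm, hy, mul_one] at h1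
  have hk1 : k = 1 := by rw [pow_succ, h1, one_mul] at h4; exact h4
  rw [hk1, one_mul, mul_inv_eq_iff_eq_mul] at e
  exact e

/-- The subgroup generated by the lifts of order three. -/
def lifts (g : Cfsg.SU N F 3 →* G) (S : Subgroup G) : Subgroup (Cfsg.SU N F 3) :=
  Subgroup.closure {y | y ^ 3 = 1 ∧ g y ∈ S}

theorem lifts_le {g : Cfsg.SU N F 3 →* G} {S : Subgroup G} : lifts g S ≤ S.comap g :=
  (Subgroup.closure_le _).mpr fun _ hy => hy.2

/-- `SU 2` is generated by its elements of order three. -/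
theorem gen_cubes : Subgroup.closure {x : Cfsg.SU 2 F 3 | x ^ 3 = 1} = ⊤ := by
  obtain ⟨E, Ψ, -⟩ := exists_model (F := F) (q := 3)
  set S := Subgroup.closure {x : Cfsg.SU 2 F 3 | x ^ 3 = 1} with hS
  haveI : Fintype ↥(Cfsg.Lib.Classical.fixedField (cb F 3)) := Fintype.ofFinite _
  have h := Cfsg.Lib.Classical.eq_top_of_transvection_mem (S.comap Ψ.toMonoidHom) fun i j hij c => by
    refine Subgroup.subset_closure ?_
    show (Ψ _) ^ 3 = 1
    rw [← map_pow, show (SpecialLinearGroup.transvection hij c) ^ 3 = 1 from Subtype.ext ?_, map_one]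
    rw [Matrix.SpecialLinearGroup.coe_pow, Matrix.SpecialLinearGroup.transvection_coe,
      show (1 + Matrix.single i j c : Matrix (Fin 2) (Fin 2) _) = Matrix.transvection i j c from rfl,
      pow_succ, pow_succ, pow_one, Matrix.transvection_mul_transvection_same _ _ hij,
      Matrix.transvection_mul_transvection_same _ _ hij,
      show c + c + c = 0 from Subtype.ext (by push_cast; linear_combination (c : F) * three_eq_zero (F := F)),
      Matrix.transvection_zero]
    rfl
  refine (Subgroup.eq_top_iff' S).mpr fun x => ?_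
  obtain ⟨a, rfl⟩ := Ψ.surjective x
  exact (h ▸ Subgroup.mem_top a : a ∈ S.comap Ψ.toMonoidHom)

theorem map_lifts {g : Cfsg.SU N F 3 →* G} (hN : 0 < N) (hg : ScalarKer g) (φ : Cfsg.SU 2 F 3 →* G)
    (hr : φ.range ≤ g.range) : (lifts g φ.range).map g = φ.range := by
  refine le_antisymm (Subgroup.map_le_iff_le_comap.mpr lifts_le) ?_
  conv_lhs => rw [MonoidHom.range_eq_map, ← gen_cubes, MonoidHom.map_closure]
  rw [Subgroup.closure_le]
  rintro _ ⟨x, hx, rfl⟩
  obtain ⟨y, hy, he⟩ := exists_lift3 hN hg (hr ⟨x, rfl⟩) (by rw [← map_pow, hx, map_one])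
  have hmem : g y ∈ φ.range := by rw [he]; exact ⟨x, rfl⟩
  exact Subgroup.mem_map.mpr ⟨y, Subgroup.subset_closure ⟨hy, hmem⟩, he⟩

theorem conj_lifts {g : Cfsg.SU N F 3 →* G} {S S' : Subgroup G} (x : Cfsg.SU N F 3)
    (h : ∀ u ∈ S, g x * u * (g x)⁻¹ ∈ S') {y : Cfsg.SU N F 3} (hy : y ∈ lifts g S) :
    x * y * x⁻¹ ∈ lifts g S' := by
  suffices lifts g S ≤ (lifts g S').comap (MulAut.conj x).toMonoidHom from this hy
  refine (Subgroup.closure_le _).mpr fun z hz => Subgroup.subset_closure ⟨?_, ?_⟩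
  · show (x * z * x⁻¹) ^ 3 = 1
    rw [conj_pow, hz.1, mul_one, mul_inv_cancel]
  · show g (x * z * x⁻¹) ∈ S'
    rw [map_mul, map_mul, map_inv]
    exact h _ hz.2

theorem commute_lifts {g : Cfsg.SU N F 3 →* G} (hN : 0 < N) (hg : ScalarKer g) {S : Subgroup G}
    {x : Cfsg.SU N F 3} (h : ∀ u ∈ S, Commute (g x) u) {y : Cfsg.SU N F 3} (hy : y ∈ lifts g S) :
    Commute x y := by
  suffices lifts g S ≤ Subgroup.centralizer {x} from
    Subgroup.mem_centralizer_iff.mp (this hy) x rfl
  refine (Subgroup.closure_le _).mpr fun z hz => Subgroup.mem_centralizer_iff.mpr fun w hw => ?_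
  rw [Set.mem_singleton_iff.mp hw]
  exact commute_lift hN hg hz.1 (h _ hz.2)

theorem commute_lifts₂ {g : Cfsg.SU N F 3 →* G} (hN : 0 < N) (hg : ScalarKer g) {S S' : Subgroup G}
    (h : ∀ u ∈ S, ∀ w ∈ S', Commute u w) {x y : Cfsg.SU N F 3} (hx : x ∈ lifts g S)
    (hy : y ∈ lifts g S') : Commute x y :=
  commute_lifts hN hg (fun u hu => h _ (lifts_le hx) u hu) hy

/-- Determinant of an operator with two eigenvalues. -/
theorem exists_eigen {t : Cfsg.SU 4 F 3} {μ : F} (hμ : ∀ v, act t (act t v) = μ • v)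
    (hns : ∀ l : F, ∃ v, act t v ≠ l • v) :
    ∃ (ν : F) (y : Cfsg.SU 4 F 3), ν * cb F 3 ν = 1 ∧
      ∀ i : Fin 4, act t (act y (ev i)) = (if (i : ℕ) < 2 then ν else -ν) • act y (ev i) := by
  classical
  set H := HS F 3 4 with hH
  set T : Module.End F (Fin 4 → F) := (mat t).mulVecLin with hT
  have hTa : ∀ v, T v = act t v := fun v => rfl
  have hμn : μ * cb F 3 μ = 1 := by
    refine scalar_norm (k := t * t) (by norm_num) fun v => ?_
    rw [act_mul, hμ]
  have hμ0 : μ ≠ 0 := left_ne_zero_of_mul_eq_one hμn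
  obtain ⟨ν, hν⟩ : IsSquare μ := by
    refine (FiniteField.isSquare_iff (fun h => two_ne (F := F) ?_) hμ0).mpr ?_
    · haveI := ringChar.charP F
      rw [h] at this
      exact CharP.cast_eq_zero (R := F) (p := 2)
    · rw [hF.out, ← hμn, norm_four]; norm_num
  have hν0 : ν ≠ 0 := fun h => hμ0 (by rw [hν, h, zero_mul])
  have hne : ν ≠ -ν := fun h => two_ne (F := F) (mul_right_cancel₀ hν0 (by linear_combination h))
  set Ep : Submodule F (Fin 4 → F) := LinearMap.ker (T - ν • LinearMap.id) with hEp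
  set Em : Submodule F (Fin 4 → F) := LinearMap.ker (T + ν • LinearMap.id) with hEm
  have memp : ∀ {v}, v ∈ Ep ↔ act t v = ν • v := fun {v} => by simp [hEp, sub_eq_zero, hTa]
  have memm : ∀ {v}, v ∈ Em ↔ act t v = -(ν • v) := fun {v} => by simp [hEm, add_eq_zero_iff_eq_neg, hTa]
  have hsplit : ∀ v : Fin 4 → F, ∃ a ∈ Ep, ∃ b ∈ Em, a + b = v := fun v => by
    refine ⟨(2 : F)⁻¹ • (v + ν⁻¹ • act t v), memp.mpr ?_, (2 : F)⁻¹ • (v - ν⁻¹ • act t v), memm.mpr ?_, ?_⟩
    · rw [act_smul, act_add, act_smul, hμ, hν]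
      funext i
      simp only [Pi.smul_apply, Pi.add_apply, smul_eq_mul]
      field_simp
      ring
    · rw [sub_eq_add_neg, ← neg_smul, act_smul, act_add, act_smul, hμ, hν]
      funext i
      simp only [Pi.smul_apply, Pi.add_apply, Pi.neg_apply, smul_eq_mul]
      field_simp
      ring
    · funext i
      simp only [Pi.smul_apply, Pi.add_apply, Pi.sub_apply, smul_eq_mul]
      field_simp [two_ne (F := F)]
      ring
  have hcompl : IsCompl Ep Em := by
    refine ⟨Submodule.disjoint_def.mpr fun v h1 h2 => ?_, codisjoint_iff.mpr ?_⟩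
    · have h := (memp.mp h1).symm.trans (memm.mp h2)
      rw [← neg_smul] at h
      by_contra hv
      exact hne (smul_left_injective F hv h)
    · refine eq_top_iff.mpr fun v _ => ?_
      obtain ⟨a, ha, b, hb, rfl⟩ := hsplit v
      exact Submodule.add_mem_sup ha hb
  set a := Module.finrank F Ep with ha
  set b := Module.finrank F Em with hb
  have hab : a + b = 4 := by
    rw [ha, hb, Submodule.finrank_add_eq_of_isCompl hcompl, Module.finrank_fin_fun]
  have hdet : ν ^ a * (-ν) ^ b = 1 := by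
    have hconj : T = (Submodule.prodEquivOfIsCompl Ep Em hcompl : (Ep × Em) →ₗ[F] (Fin 4 → F)) ∘ₗ
        ((ν • LinearMap.id : Ep →ₗ[F] Ep).prodMap ((-ν) • LinearMap.id : Em →ₗ[F] Em)) ∘ₗ
        ((Submodule.prodEquivOfIsCompl Ep Em hcompl).symm : (Fin 4 → F) →ₗ[F] (Ep × Em)) := by
      refine LinearMap.ext fun v => ?_
      obtain ⟨⟨x, z⟩, rfl⟩ := (Submodule.prodEquivOfIsCompl Ep Em hcompl).surjective v
      simp [hTa, act_add, memp.mp x.2, memm.mp z.2]
    have h1 := congrArg LinearMap.det hconj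
    simp only [LinearMap.det_conj, LinearMap.det_prodMap, LinearMap.det_smul, LinearMap.det_id, mul_one,
      ← ha, ← hb] at h1
    rw [← h1, hT, ← Matrix.toLin'_apply', LinearMap.det_toLin']
    exact (t : Matrix.SpecialLinearGroup (Fin 4) F).2
  have hdet' : (-1 : F) ^ b * ν ^ 4 = 1 := by
    rw [neg_pow, ← hab, pow_add] at *
    linear_combination hdet
  have hnu : ν * cb F 3 ν = 1 := by
    by_contra hbad
    have tiso : ∀ (W : Submodule F (Fin 4 → F)) (c : F), c * cb F 3 c ≠ 1 → (∀ v ∈ W, act t v = c • v) →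
        Module.finrank F W ≤ 2 := by
      intro W c hc hW
      have hle : W ≤ H.orth W := fun x hx => H.mem_orth.mpr fun w hw => by
        have h1 := act_h t x w
        rw [hW x hx, hW w hw, (HS F 3 4).smul_left, (HS F 3 4).smul_right, hs_sigma, ← mul_assoc] at h1
        by_contra h0
        exact hc (mul_right_cancel₀ h0 (h1.trans (one_mul _).symm))
      have h2 := Submodule.finrank_mono hle
      rw [H.finrank_orth, Module.finrank_fin_fun] at h2
      omega
    have ha2 : a ≤ 2 := tiso Ep ν hbad fun v hv => memp.mp hv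
    have hb2 : b ≤ 2 := tiso Em (-ν) (by rw [map_neg, neg_mul_neg]; exact hbad) fun v hv => by
      rw [memm.mp hv, neg_smul]
    have hb' : b = 2 := by omega
    rw [hb', neg_one_sq, one_mul, ← norm_four] at hdet'
    exact hbad hdet'
  rw [← norm_four, hnu, mul_one] at hdet'
  have hb2 : b = 2 := by
    have hb4 : b ≤ 4 := by omega
    interval_cases b
    · exfalso
      obtain ⟨v, hv⟩ := hns ν
      have htop : Ep = ⊤ := Submodule.eq_top_of_finrank_eq (by rw [← ha, Module.finrank_fin_fun]; omega)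
      exact hv (memp.mp (htop ▸ Submodule.mem_top))
    · exact absurd (by linear_combination hdet') (neg_one_ne (F := F))
    · rfl
    · exact absurd (by linear_combination hdet') (neg_one_ne (F := F))
    · exfalso
      obtain ⟨v, hv⟩ := hns (-ν)
      have htop : Em = ⊤ := Submodule.eq_top_of_finrank_eq (by rw [← hb, Module.finrank_fin_fun])
      exact hv (by rw [neg_smul]; exact memm.mp (htop ▸ Submodule.mem_top))
  have ha2 : a = 2 := by omega
  have horth : ∀ x ∈ Ep, ∀ z ∈ Em, H.h x z = 0 := fun x hx z hz => by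
    have h1 := act_h t x z
    rw [memp.mp hx, memm.mp hz, ← neg_smul, (HS F 3 4).smul_left, (HS F 3 4).smul_right, hs_sigma,
      ← mul_assoc, map_neg, mul_neg, hnu, neg_mul, one_mul] at h1
    have h2 : (2 : F) * H.h x z = 0 := by linear_combination -h1
    exact (mul_eq_zero.mp h2).resolve_left two_ne
  have hndp : H.NondegOn Ep := fun v hv h => H.nondeg v fun x => by
    obtain ⟨c, hc, d, hd, rfl⟩ := hsplit x
    rw [H.add_left, h c hc, H.eq_zero_symm (horth v hv d hd), add_zero]
  have hndm : H.NondegOn Em := fun v hv h => H.nondeg v fun x => by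
    obtain ⟨c, hc, d, hd, rfl⟩ := hsplit x
    rw [H.add_left, h d hd, horth c hc v hv, add_zero]
  obtain ⟨bp, hbp⟩ := (H.restrict Ep hndp).exists_orthonormal
  obtain ⟨bm, hbm⟩ := (H.restrict Em hndm).exists_orthonormal
  let p : Fin 4 → (Fin 4 → F) :=
    ![(bp ⟨0, by omega⟩).1, (bp ⟨1, by omega⟩).1, (bm ⟨0, by omega⟩).1, (bm ⟨1, by omega⟩).1]
  have hbp' : ∀ i j, H.h (bp i).1 (bp j).1 = if i = j then 1 else 0 := hbp
  have hbm' : ∀ i j, H.h (bm i).1 (bm j).1 = if i = j then 1 else 0 := hbm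
  have hpo : ∀ i j, H.h (p i) (p j) = if i = j then 1 else 0 := by
    intro i j
    fin_cases i <;> fin_cases j <;>
      simp [p, hbp', hbm', horth _ (bp _).2 _ (bm _).2, H.eq_zero_symm (horth _ (bp _).2 _ (bm _).2)]
  have hpt : ∀ i : Fin 4, act t (p i) = (if (i : ℕ) < 2 then ν else -ν) • p i := by
    intro i
    fin_cases i
    · exact (memp.mp (bp _).2).trans (by simp [p])
    · exact (memp.mp (bp _).2).trans (by simp [p])
    · exact (memm.mp (bm _).2).trans (by simp [p])
    · exact (memm.mp (bm _).2).trans (by simp [p])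
  set d := (Matrix.of fun i j => p j i).det with hd
  have hdn : d * cb F 3 d = 1 := frame_det_norm p hpo
  let c : Fin 4 → F := ![cb F 3 d, 1, 1, 1]
  have hcn : ∀ i, c i * cb F 3 (c i) = 1 := fun i => by
    fin_cases i
    · simp [c, cb_cb, mul_comm, hdn]
    · simp [c]
    · simp [c]
    · simp [c]
  obtain ⟨y, hy⟩ := mk_frame (q := 3) (fun i => c i • p i) (fun i j => by
      rw [(HS F 3 4).smul_left, (HS F 3 4).smul_right, hs_sigma, hpo]
      split_ifs with h
      · subst h; rw [mul_one]; exact hcn i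
      · rw [mul_zero, mul_zero]) (by
      have e : (Matrix.of fun i j => (c j • p j) i) = (Matrix.of fun i j => p j i) * Matrix.diagonal c := by
        ext i j
        simp [Matrix.mul_diagonal, mul_comm]
      rw [e, Matrix.det_mul, Matrix.det_diagonal, ← hd]
      simp [c, Fin.prod_univ_four, hdn])
  exact ⟨ν, y, hnu, fun i => by rw [hy, act_smul, hpt, smul_comm]⟩

end Nine

end Cfsg.Lib.Known.Phan
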