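import Cfsg.Agent.Known.Phan.NineFrame

/-! The middle group over the field with nine elements: a common frame for three consecutive blocks. -/

set_option autoImplicit false
set_option linter.unusedSimpArgs false
set_option linter.unusedSectionVars false
set_option linter.style.haveILetI false

namespace Cfsg.Lib.Known.Phan

open Matrix

universe u v

variable {F : Type u} [Field F] [Fintype F] [hF : Fact (Fintype.card F = 3 ^ 2)] {G : Type v} [Group G]

local notation "cσ" => cb F 3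

theorem zero_of_fixed {v : Fin 4 → F} (h : act (blk ω0 (Nm F)) v = v) : v 0 = 0 ∧ v 1 = 0 := by
  have key : ∀ i, v (ω0 i) = 0 := fun i => by
    have h1 := congrFun h (ω0 i)
    rw [blk_apply_mem, act_Nm] at h1
    simp only [Pi.neg_apply, Function.comp_apply] at h1
    have h2 : (2 : F) * v (ω0 i) = 0 := by linear_combination -h1
    exact (mul_eq_zero.mp h2).resolve_left two_ne
  exact ⟨key 0, key 1⟩

/-- An element normalising the first block has an eigen frame there. -/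
theorem eigen_block {s : Cfsg.SU 4 F 3} {ν : F} (hν : ν * cσ ν = 1)
    (hsq : ∀ v, act s (act s v) = (ν * ν) • v)
    (hn : ∀ a, ∃ a', s * blk ω0 a * s⁻¹ = blk ω0 a')
    (hc : ∃ a, ¬ Commute s (blk ω0 a)) :
    ∃ u w : Fin 4 → F, act s u = ν • u ∧ act s w = (-ν) • w ∧ (HS F 3 4).h u u = 1 ∧
      (HS F 3 4).h w w = 1 ∧ (u 2 = 0 ∧ u 3 = 0) ∧ (w 2 = 0 ∧ w 3 = 0) := by
  classical
  have hν0 : ν ≠ 0 := left_ne_zero_of_mul_eq_one hν
  have hsinv : ∀ v, act s⁻¹ v = (ν * ν)⁻¹ • act s v := fun v => by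
    refine act_inv_eq ?_
    rw [act_smul, hsq, smul_smul, inv_mul_cancel₀ (mul_ne_zero hν0 hν0), one_smul]
  -- the fixed plane is preserved
  have hinv : ∀ v : Fin 4 → F, v 0 = 0 → v 1 = 0 → act s v 0 = 0 ∧ act s v 1 = 0 := by
    intro v h0 h1
    obtain ⟨a', ha'⟩ := hn (Nm F)
    have hfix : ∀ a : Cfsg.SU 2 F 3, act (blk ω0 a) v = v := fun a =>
      blk_eq_self ω0 a fun i => by fin_cases i <;> assumption
    -- the two powers differ by a scalar
    have e : s⁻¹ * blk ω0 (Nm F) * s = blk ω0 a' := by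
      rw [← ha']
      refine act_ext fun x => ?_
      simp only [act_mul, hsinv, act_smul]
    refine zero_of_fixed ?_
    calc act (blk ω0 (Nm F)) (act s v) = act s (act (s⁻¹ * blk ω0 (Nm F) * s) v) := by
          rw [act_mul, act_mul, act_act_inv]
      _ = act s v := by rw [e, hfix]
  have horth : ∀ v : Fin 4 → F, v 2 = 0 → v 3 = 0 → act s v 2 = 0 ∧ act s v 3 = 0 := by
    intro v h2 h3
    have key : ∀ j, (j = 2 ∨ j = 3) → act s v j = 0 := fun j hj => by
      have h1 := hinv (ev j) (by rcases hj with rfl | rfl <;> simp [ev]) (by rcases hj with rfl | rfl <;> simp [ev])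
      rw [← h_ev (q := 3) (act s v) j, ← act_h s⁻¹, act_inv_act, hsinv, (HS F 3 4).smul_right, hs_h,
        Fin.sum_univ_four, h2, h3, h1.1, h1.2]
      simp
    exact ⟨key 2 (Or.inl rfl), key 3 (Or.inr rfl)⟩
  have notscalar : ∀ c : F, ∃ v : Fin 4 → F, v 2 = 0 ∧ v 3 = 0 ∧ act s v ≠ c • v := by
    intro c
    by_contra hcon
    push Not at hcon
    obtain ⟨a, ha⟩ := hc
    refine ha (act_ext fun x => ?_)
    rw [act_mul, act_mul]
    have hx : x = pad ω0 (x ∘ ω0) + pad ω2 (x ∘ ω2) := funext fun j => by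
      fin_cases j
      · show x 0 = pad ω0 (x ∘ ω0) (ω0 0) + pad ω2 (x ∘ ω2) 0
        rw [pad_mem, pad_notMem ω2 _ ω2_out.1, add_zero]; rfl
      · show x 1 = pad ω0 (x ∘ ω0) (ω0 1) + pad ω2 (x ∘ ω2) 1
        rw [pad_mem, pad_notMem ω2 _ ω2_out.2, add_zero]; rfl
      · show x 2 = pad ω0 (x ∘ ω0) 2 + pad ω2 (x ∘ ω2) (ω2 0)
        rw [pad_mem, pad_notMem ω0 _ ω0_out.1, zero_add]; rfl
      · show x 3 = pad ω0 (x ∘ ω0) 3 + pad ω2 (x ∘ ω2) (ω2 1)
        rw [pad_mem, pad_notMem ω0 _ ω0_out.2, zero_add]; rfl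
    have hA : ∀ u, act s (pad ω0 u) = c • pad ω0 u := fun u =>
      hcon _ (pad_notMem ω0 u ω0_out.1) (pad_notMem ω0 u ω0_out.2)
    have hB : ∀ u, act (blk ω0 a) (act s (pad ω2 u)) = act s (pad ω2 u) := fun u => by
      obtain ⟨h0, h1⟩ := hinv (pad ω2 u) (pad_notMem ω2 u ω2_out.1) (pad_notMem ω2 u ω2_out.2)
      exact blk_eq_self ω0 a fun i => by fin_cases i <;> assumption
    have hB' : ∀ u, act (blk ω0 a) (pad ω2 u) = pad ω2 u := fun u =>
      blk_eq_self ω0 a fun i => by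
        fin_cases i
        · exact pad_notMem ω2 u ω2_out.1
        · exact pad_notMem ω2 u ω2_out.2
    rw [hx]
    simp only [act_add, blk_pad, hA, hB, hB', act_smul]
  have eig : ∀ c : F, c * c = ν * ν → ∃ u : Fin 4 → F, u ≠ 0 ∧ act s u = c • u ∧ u 2 = 0 ∧ u 3 = 0 := by
    intro c hc2
    obtain ⟨v, h2, h3, hne⟩ := notscalar (-c)
    refine ⟨act s v + c • v, fun h => hne (by rw [neg_smul]; exact eq_neg_of_add_eq_zero_left h), ?_, ?_, ?_⟩
    · rw [act_add, act_smul, hsq, ← hc2, smul_add, smul_smul, add_comm]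
    · simp [(horth v h2 h3).1, h2]
    · simp [(horth v h2 h3).2, h3]
  have perp : ∀ (c : F) (u w : Fin 4 → F), c * cσ c = 1 → act s u = c • u → act s w = (-c) • w →
      (HS F 3 4).h u w = 0 := by
    intro c u w hcn hu hw
    have h1 := act_h s u w
    rw [hu, hw, (HS F 3 4).smul_left, (HS F 3 4).smul_right, hs_sigma, ← mul_assoc, map_neg, mul_neg, hcn,
      neg_mul, one_mul] at h1
    have h2 : (2 : F) * (HS F 3 4).h u w = 0 := by linear_combination -h1
    exact (mul_eq_zero.mp h2).resolve_left two_ne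
  have unit : ∀ c : F, c * c = ν * ν → c * cσ c = 1 → ∃ u : Fin 4 → F,
      act s u = c • u ∧ (HS F 3 4).h u u = 1 ∧ (u 2 = 0 ∧ u 3 = 0) := by
    intro c hc2 hcn
    obtain ⟨u, hu0, hu, hu2, hu3⟩ := eig c hc2
    obtain ⟨w, hw0, hw, hw2, hw3⟩ := eig (-c) (by rw [neg_mul_neg, hc2])
    have hiso : (HS F 3 4).h u u ≠ 0 := by
      intro h0
      have hp := perp c u w hcn hu hw
      rw [hs_h, Fin.sum_univ_four, hu2, hu3] at h0 hp
      simp only [zero_mul, add_zero] at h0 hp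
      have ha : u 0 ≠ 0 := fun ha => hu0 (by
        rw [ha, zero_mul, zero_add, mul_eq_zero, cb_eq_zero, or_self] at h0
        funext i
        fin_cases i <;> assumption)
      -- proportional
      have hb : u 1 ≠ 0 := fun hb => ha (by
        rw [hb, zero_mul, add_zero, mul_eq_zero, cb_eq_zero, or_self] at h0
        exact h0)
      have hdet : cσ (w 0) * cσ (u 1) = cσ (u 0) * cσ (w 1) :=
        mul_left_cancel₀ ha (by linear_combination cσ (u 1) * hp - cσ (w 1) * h0)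
      have hdet' := congrArg cσ hdet
      simp only [map_mul, cb_cb] at hdet'
      have hwu : w = (w 0 / u 0) • u := by
        funext i
        fin_cases i
        · simp [ha]
        · show w 1 = w 0 / u 0 * u 1
          field_simp
          linear_combination -hdet'
        · show w 2 = w 0 / u 0 * u 2
          rw [hw2, hu2, mul_zero]
        · show w 3 = w 0 / u 0 * u 3
          rw [hw3, hu3, mul_zero]
      have e1 : act s w = c • w := by
        rw [hwu, act_smul, hu, smul_comm]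
      rw [hw] at e1
      have h2 : (2 : F) • (c • w) = 0 := by
        rw [two_smul]
        nth_rw 1 [← e1]
        rw [neg_smul, neg_add_cancel]
      rw [smul_smul, smul_eq_zero] at h2
      rcases h2 with h2 | h2
      · exact mul_ne_zero two_ne (left_ne_zero_of_mul_eq_one hcn) h2
      · exact hw0 h2
    obtain ⟨l, -, hl⟩ := exists_scale_unit (q := 3) hiso
    exact ⟨l • u, by rw [act_smul, hu, smul_comm], hl, by simp [hu2], by simp [hu3]⟩
  obtain ⟨u, hu, hu1, hu2⟩ := unit ν rfl hν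
  obtain ⟨w, hw, hw1, hw2⟩ := unit (-ν) (neg_mul_neg ν ν) (by rw [map_neg, neg_mul_neg, hν])
  exact ⟨u, w, hu, hw, hu1, hw1, hu2, hw2⟩

/-- Three consecutive groups become three consecutive blocks. -/
theorem exists_three_frame {g : Cfsg.SU 4 F 3 →* G} (hg : ScalarKer g) {φ0 φ1 φ2 : Cfsg.SU 2 F 3 →* G}
    (h0 : Function.Injective φ0) (h1 : Function.Injective φ1) (h2 : Function.Injective φ2)
    (r0 : φ0.range ≤ g.range) (r1 : φ1.range ≤ g.range) (r2 : φ2.range ≤ g.range)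
    (hc : ∀ a b, Commute (φ0 a) (φ2 b)) (X : G) (hX : X ∈ g.range)
    (hX01 : ∀ a, ∃ b, X * φ0 a * X⁻¹ = φ1 b) (hX10 : ∀ b, ∃ a, X⁻¹ * φ1 b * X = φ0 a)
    (hnorm : ∀ b, ∃ b', φ0 (Nm F) * φ1 b * (φ0 (Nm F))⁻¹ = φ1 b')
    (hnc : ∃ b, ¬ Commute (φ0 (Nm F)) (φ1 b)) :
    ∃ g2 : Cfsg.SU 4 F 3 →* G, ScalarKer g2 ∧ (g2.comp (blk ω0)).range = φ0.range ∧
      (g2.comp (blk ω1)).range = φ1.range ∧ (g2.comp (blk ω2)).range = φ2.range := by
  classical
  obtain ⟨g1, t, ν, hs, hrange, hν, ht, hgt, hL0, hL2⟩ := exists_outer_frame hg h0 h2 r0 r2 hc (by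
    intro t ht l
    by_contra h
    push Not at h
    obtain ⟨b, hb⟩ := hnc
    obtain ⟨y, hy⟩ := r1 ⟨b, rfl⟩
    exact hb (by rw [← ht, ← hy]; exact (show Commute t y from (scalar_central h y).symm).map g))
  rw [← hrange] at r0 r1 r2 hX
  have hν0 : ν ≠ 0 := left_ne_zero_of_mul_eq_one hν
  have outer : ∀ (φ : Cfsg.SU 2 F 3 →* G) (κ : Fin 2 ↪ Fin 4) (j : Fin 4), j ∉ Set.range κ →
      Function.Injective φ → φ.range ≤ g1.range → lifts g1 φ.range ≤ (blk κ).range →
      (g1.comp (blk κ)).range = φ.range ∧ lifts g1 φ.range = (blk κ).range := by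
    intro φ κ j hj hφ hr hL
    have e : (g1.comp (blk κ)).range = φ.range := range_eq_of_le hs κ hj φ hφ (Or.inr (by
      conv_lhs => rw [← map_lifts (by norm_num) hs φ hr]
      rw [MonoidHom.range_comp]
      exact Subgroup.map_mono hL))
    refine ⟨e, le_antisymm hL ?_⟩
    rintro _ ⟨a, rfl⟩
    have hm := map_lifts (by norm_num) hs φ hr
    obtain ⟨x, hx, hxa⟩ := Subgroup.mem_map.mp
      (show g1 (blk κ a) ∈ (lifts g1 φ.range).map g1 by rw [hm, ← e]; exact ⟨a, rfl⟩)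
    obtain ⟨a', rfl⟩ := hL hx
    rwa [inj_blk hs κ hj (show (g1.comp (blk κ)) a' = (g1.comp (blk κ)) a from hxa)] at hx
  obtain ⟨e0, el0⟩ := outer φ0 ω0 2 ω0_out.1 h0 r0 hL0
  obtain ⟨e2, el2⟩ := outer φ2 ω2 0 ω2_out.1 h2 r2 hL2
  obtain ⟨x, hx⟩ := hX
  set s := x⁻¹ * t * x with hs'
  -- the block transported to the middle group
  have hmid : ∀ z ∈ lifts g1 φ1.range, ∃ a, x * blk ω0 a * x⁻¹ = z := by
    intro z hz
    have hz' := conj_lifts (S' := φ0.range) x⁻¹ (by
      rintro _ ⟨b, rfl⟩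
      obtain ⟨a, ha⟩ := hX10 b
      exact ⟨a, by rw [map_inv, inv_inv, hx, ha]⟩) hz
    obtain ⟨a, ha⟩ := hL0 hz'
    exact ⟨a, by rw [ha]; group⟩
  have hmid' : ∀ a, x * blk ω0 a * x⁻¹ ∈ lifts g1 φ1.range := fun a =>
    conj_lifts (S := φ0.range) x (by
      rintro _ ⟨a', rfl⟩
      obtain ⟨b, hb⟩ := hX01 a'
      exact ⟨b, by rw [hx, hb]⟩) (by rw [el0]; exact ⟨a, rfl⟩)
  have hsq : ∀ v, act t (act t v) = (ν * ν) • v := by
    intro v
    have hv : v = ∑ j, v j • (ev j : Fin 4 → F) := by funext l; simp [ev, Pi.single_apply]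
    rw [hv]
    simp only [Fin.sum_univ_four, act_add, act_smul, ht, smul_add, smul_smul]
    simp [mul_comm, mul_assoc, mul_left_comm]
  obtain ⟨u, w, hu, hw, hu1, hw1, hu2, hw2⟩ := eigen_block (s := s) hν (by
      intro v
      rw [hs', ← act_mul, show x⁻¹ * t * x * (x⁻¹ * t * x) = x⁻¹ * (t * (t * x)) by group, act_mul, act_mul,
        act_mul, hsq, act_smul, act_inv_act]) (by
      intro a
      obtain ⟨a', ha'⟩ := hmid _ (conj_lifts (S' := φ1.range) t (by
        rintro _ ⟨b, rfl⟩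
        obtain ⟨b', hb'⟩ := hnorm b
        exact ⟨b', by rw [hgt, hb']⟩) (hmid' a))
      refine ⟨a', ?_⟩
      rw [hs', show x⁻¹ * t * x * blk ω0 a * (x⁻¹ * t * x)⁻¹ = x⁻¹ * (t * (x * blk ω0 a * x⁻¹) * t⁻¹) * x by group,
        ← ha']
      group) (by
      by_contra hall
      push Not at hall
      obtain ⟨b, hb⟩ := hnc
      obtain ⟨z, hz, hzb⟩ := Subgroup.mem_map.mp
        (show φ1 b ∈ (lifts g1 φ1.range).map g1 by rw [map_lifts (by norm_num) hs φ1 r1]; exact ⟨b, rfl⟩)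
      obtain ⟨a, rfl⟩ := hmid z hz
      refine hb (hgt ▸ hzb ▸ Commute.map ?_ g1)
      have h := (hall a).eq
      rw [hs'] at h
      show t * (x * blk ω0 a * x⁻¹) = x * blk ω0 a * x⁻¹ * t
      calc t * (x * blk ω0 a * x⁻¹) = x * (x⁻¹ * t * x * blk ω0 a) * x⁻¹ := by group
        _ = x * (blk ω0 a * (x⁻¹ * t * x)) * x⁻¹ := by rw [h]
        _ = x * blk ω0 a * x⁻¹ * t := by group)
  -- eigenvectors of the diagonal element
  have hcoord : ∀ (v : Fin 4 → F) i, act t v i = (if (i : ℕ) < 2 then ν else -ν) * v i := fun v i => by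
    have hv : v = ∑ j, v j • (ev j : Fin 4 → F) := by funext l; simp [ev, Pi.single_apply]
    conv_lhs => rw [hv]
    simp only [Fin.sum_univ_four, act_add, act_smul, ht]
    fin_cases i <;> simp [ev, mul_comm]
  have hne : ν ≠ -ν := fun h => two_ne (F := F) (mul_right_cancel₀ hν0 (by linear_combination h))
  have htx : ∀ (v : Fin 4 → F) (c : F), act s v = c • v → act t (act x v) = c • act x v := fun v c h => by
    rw [← act_smul, ← h, hs', ← act_mul, ← act_mul]
    group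
  set p := act x u with hp
  set r := act x w with hr
  have hpk : ∀ k : Fin 4, ¬ (k : ℕ) < 2 → p k = 0 := fun k hk => by
    have h := congrFun (htx u ν hu) k
    rw [← hp, hcoord, if_neg hk, Pi.smul_apply, smul_eq_mul] at h
    by_contra hne0
    exact hne (mul_right_cancel₀ hne0 h.symm)
  have hrk : ∀ k : Fin 4, (k : ℕ) < 2 → r k = 0 := fun k hk => by
    have h := congrFun (htx w (-ν) hw) k
    rw [← hr, hcoord, if_pos hk, Pi.smul_apply, smul_eq_mul] at h
    by_contra hne0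
    exact hne (mul_right_cancel₀ hne0 h)
  have hp23 : p 2 = 0 ∧ p 3 = 0 := ⟨hpk 2 (by decide), hpk 3 (by decide)⟩
  have hr01 : r 0 = 0 ∧ r 1 = 0 := ⟨hrk 0 (by decide), hrk 1 (by decide)⟩
  have hpn : cσ (p 1) * cσ (cσ (p 1)) + -cσ (p 0) * cσ (-cσ (p 0)) = 1 := by
    have h := act_h x u u
    rw [hu1, ← hp, hs_h, Fin.sum_univ_four, hp23.1, hp23.2] at h
    simp only [zero_mul, add_zero] at h
    simp only [map_neg, cb_cb, neg_mul_neg]
    linear_combination h
  have hrn : r 2 * cσ (r 2) + r 3 * cσ (r 3) = 1 := by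
    have h := act_h x w w
    rw [hw1, ← hr, hs_h, Fin.sum_univ_four, hr01.1, hr01.2] at h
    simp only [zero_mul, zero_add] at h
    linear_combination h
  set A := su2 _ _ hpn with hA
  set B := su2 _ _ hrn with hB
  set y := blk ω0 A * blk ω2 B with hy
  have hy1 : act y (ev 1) = p := by
    rw [hy, act_mul, blk_fix ω2 B ω2_out.2, show (1 : Fin 4) = ω0 1 from rfl, blk_ev, hA, act_su2_one]
    funext i
    fin_cases i
    · exact (pad_mem ω0 _ 0).trans (by simp [cb_cb])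
    · exact (pad_mem ω0 _ 1).trans (by simp [cb_cb])
    · exact (pad_notMem ω0 _ ω0_out.1).trans hp23.1.symm
    · exact (pad_notMem ω0 _ ω0_out.2).trans hp23.2.symm
  have hy2 : act y (ev 2) = r := by
    rw [hy, act_mul, show (2 : Fin 4) = ω2 0 from rfl, blk_ev, hB, act_su2_zero,
      blk_eq_self ω0 A fun i => by fin_cases i <;> [exact pad_notMem ω2 _ ω2_out.1; exact pad_notMem ω2 _ ω2_out.2]]
    funext i
    fin_cases i
    · exact (pad_notMem ω2 _ ω2_out.1).trans hr01.1.symm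
    · exact (pad_notMem ω2 _ ω2_out.2).trans hr01.2.symm
    · exact pad_mem ω2 _ 0
    · exact pad_mem ω2 _ 1
  refine ⟨g1.comp (MulAut.conj y).toMonoidHom, hs.comp y, ?_, ?_, ?_⟩
  · refine range_eq_of_le (hs.comp y) ω0 ω0_out.1 φ0 h0 (Or.inl ?_)
    rintro _ ⟨a, rfl⟩
    show g1 (y * blk ω0 a * y⁻¹) ∈ φ0.range
    have hcm : Commute (blk ω0 a) (blk ω2 B) := blk_commute ω0 ω2 (fun i j => by
      rw [Ne, Fin.ext_iff, ω0, ω2, win_val, win_val]; omega) a B
    rw [← e0, show y * blk ω0 a * y⁻¹ = blk ω0 (A * a * A⁻¹) by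
      rw [map_mul, map_mul, map_inv, hy, _root_.mul_inv_rev, mul_assoc (blk ω0 A) _ (blk ω0 a), ← hcm.eq]
      group]
    exact ⟨_, rfl⟩
  · refine range_eq_of_le (hs.comp y) ω1 ω1_out.1 φ1 h1 (Or.inl ?_)
    rintro _ ⟨a, rfl⟩
    show g1 (y * blk ω1 a * y⁻¹) ∈ φ1.range
    obtain ⟨a', ha'⟩ := exists_blk ω0 (g := x⁻¹ * (y * blk ω1 a * y⁻¹) * x) fun j hj => by
      have hz : ∀ k : Fin 2, act y⁻¹ (act x (ev j)) (ω1 k) = 0 := fun k => by
        rw [← h_ev (q := 3) (act y⁻¹ (act x (ev j))) (ω1 k), ← act_h y, act_act_inv]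
        fin_cases k
        · show (HS F 3 4).h (act x (ev j)) (act y (ev 1)) = 0
          rw [hy1, hp, act_h, ev_h]
          rcases notMem_ω0 hj with rfl | rfl
          · rw [hu2.1, map_zero]
          · rw [hu2.2, map_zero]
        · show (HS F 3 4).h (act x (ev j)) (act y (ev 2)) = 0
          rw [hy2, hr, act_h, ev_h]
          rcases notMem_ω0 hj with rfl | rfl
          · rw [hw2.1, map_zero]
          · rw [hw2.2, map_zero]
      rw [act_mul, act_mul, act_mul, act_mul, blk_eq_self ω1 a hz, act_act_inv, act_inv_act]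
    have hmem := lifts_le (hmid' a')
    rw [Subgroup.mem_comap] at hmem
    rwa [ha', show x * (x⁻¹ * (y * blk ω1 a * y⁻¹) * x) * x⁻¹ = y * blk ω1 a * y⁻¹ by group] at hmem
  · refine range_eq_of_le (hs.comp y) ω2 ω2_out.1 φ2 h2 (Or.inl ?_)
    rintro _ ⟨a, rfl⟩
    show g1 (y * blk ω2 a * y⁻¹) ∈ φ2.range
    have hcm : Commute (blk ω0 A) (blk ω2 (B * a * B⁻¹)) := blk_commute ω0 ω2 (fun i j => by
      rw [Ne, Fin.ext_iff, ω0, ω2, win_val, win_val]; omega) A _
    rw [← e2, show y * blk ω2 a * y⁻¹ = blk ω2 (B * a * B⁻¹) by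
      rw [show y * blk ω2 a * y⁻¹ = blk ω0 A * blk ω2 (B * a * B⁻¹) * (blk ω0 A)⁻¹ by
        rw [map_mul, map_mul, map_inv, hy]; group, hcm.eq, mul_inv_cancel_right]]
    exact ⟨_, rfl⟩

end Cfsg.Lib.Known.Phan
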