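import Cfsg.Agent.Known.Phan.PairFix
import Cfsg.Agent.Known.Phan.Build

/-! Two rank one subgroups of `SU 3` with commuting tori of order `q + 1` form a standard pair. -/

set_option autoImplicit false
set_option linter.unusedSimpArgs false
set_option linter.unusedSectionVars false
set_option linter.style.haveILetI false

namespace Cfsg.Lib.Known.Phan

open Matrix

universe u v

variable {F : Type u} [Field F] [Fintype F] {q : ℕ} [hF : Fact (Fintype.card F = q ^ 2)]

theorem q_pos (h0 : Fintype.card F = q ^ 2) : 0 < q := by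
  rcases Nat.eq_zero_or_pos q with h | h
  · have h1 := h0
    rw [h] at h1
    exact absurd h1 (by simp)
  · exact h

/-- Elements of `SU 2` with a fixed vector are unipotent. -/
theorem unipotent_of_fixed (g : Cfsg.SU 2 F q) {v : Fin 2 → F} (hv : v ≠ 0) (hg : act g v = v) :
    g ^ ringChar F = 1 := by
  haveI := ringChar.charP F
  set M : Matrix (Fin 2) (Fin 2) F := mat g - 1 with hM
  have hMv : M *ᵥ v = 0 := by
    rw [hM, Matrix.sub_mulVec, Matrix.one_mulVec, show mat g *ᵥ v = act g v from rfl, hg, sub_self]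
  have hdet : M.det = 0 := Matrix.exists_mulVec_eq_zero_iff.mp ⟨v, hv, hMv⟩
  have hg1 : (mat g).det = 1 := (g : Matrix.SpecialLinearGroup (Fin 2) F).2
  rw [Matrix.det_fin_two] at hdet hg1
  simp [hM] at hdet
  have htr : mat g 0 0 + mat g 1 1 = 2 := by linear_combination -hdet + hg1
  have hsq : M * M = 0 := by
    ext i j
    fin_cases i <;> fin_cases j <;> simp [hM, Matrix.mul_apply, Fin.sum_univ_two]
    · linear_combination (mat g 0 0 - 1) * htr - hdet
    · linear_combination (mat g 0 1) * htr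
    · linear_combination (mat g 1 0) * htr
    · linear_combination (mat g 1 1 - 1) * htr - hdet
  have hpow : ∀ n : ℕ, mat (g ^ n) = 1 + (n : F) • M := fun n => by
    induction n with
    | zero => simp [mat]
    | succ n ih =>
      rw [pow_succ, show mat (g ^ n * g) = mat (g ^ n) * mat g from rfl, ih,
        show mat g = 1 + M by rw [hM, add_sub_cancel], Matrix.add_mul, Matrix.one_mul, Matrix.smul_mul,
        Matrix.mul_add, Matrix.mul_one, hsq, add_zero, add_assoc, Nat.cast_succ, add_smul, one_smul,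
        add_comm M]
  refine Subtype.ext (Subtype.ext ?_)
  show mat (g ^ ringChar F) = _
  rw [hpow, CharP.cast_eq_zero, zero_smul, add_zero]
  rfl

theorem eq_of_fixes_last {g : Cfsg.SU 3 F q} (h : act g (ev 2) = ev 2) : g ∈ (blk κ01).range := by
  obtain ⟨g', hg'⟩ := exists_blk κ01 (g := g) fun j hj => by
    have hj2 : j = 2 := by fin_cases j <;> simp_all [range_κ01]
    rw [hj2, h]
  exact ⟨g', hg'⟩

theorem eq_of_fixes_first {g : Cfsg.SU 3 F q} (h : act g (ev 0) = ev 0) : g ∈ (blk κ12).range := by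
  obtain ⟨g', hg'⟩ := exists_blk κ12 (g := g) fun j hj => by
    have hj0 : j = 0 := by fin_cases j <;> simp_all [range_κ12]
    rw [hj0, h]
  exact ⟨g', hg'⟩

/-- Not every element fixes a given unit vector. -/
theorem exists_moving {a : Fin 3 → F} (ha : (HS F q 3).h a a = 1) : ∃ g : Cfsg.SU 3 F q, act g a ≠ a := by
  by_contra h
  push Not at h
  obtain ⟨g, hg⟩ := exists_act_unit (q := q) (N := 3) (by omega) (v := a) (v' := ev 0) ha (isUnit1_ev 0)
  obtain ⟨g', hg'⟩ := exists_act_unit (q := q) (N := 3) (by omega) (v := a) (v' := ev 1) ha (isUnit1_ev 1)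
  rw [h] at hg hg'
  have := congrFun (hg.symm.trans hg') 0
  simp [ev] at this

/-- The two subgroups become the standard blocks. -/
theorem pair_frame (φ ψ : Cfsg.SU 2 F q →* Cfsg.SU 3 F q) (hφ : Function.Injective φ)
    (hψ : Function.Injective ψ) (hgen : φ.range ⊔ ψ.range = ⊤) (s t : Cfsg.SU 2 F q) (hs : orderOf s = q + 1)
    (ht : orderOf t = q + 1) (hst : Commute (φ s) (ψ t)) :
    ∃ y : Cfsg.SU 3 F q, (blk κ01).range.map (MulAut.conj y).toMonoidHom = φ.range ∧
      (blk κ12).range.map (MulAut.conj y).toMonoidHom = ψ.range := by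
  classical
  haveI : Finite (Matrix.SpecialLinearGroup (Fin 3) F) := Subtype.finite
  haveI : Finite (Matrix.SpecialLinearGroup (Fin 2) F) := Subtype.finite
  set H := HS F q 3
  obtain ⟨a, ha, hfa⟩ := fixed_unit φ hφ
  obtain ⟨b, hb, hfb⟩ := fixed_unit ψ hψ
  have hab : ∀ c : F, c • a ≠ b := by
    intro c hc
    have hc0 : c ≠ 0 := fun e => by
      rw [← hc, e, zero_smul, H.zero_left] at hb
      exact zero_ne_one hb
    have htop : φ.range ⊔ ψ.range ≤ fixv a := sup_le (by rintro _ ⟨x, rfl⟩; exact hfa x) (by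
      rintro _ ⟨x, rfl⟩
      have := hfb x
      rw [← hc, act_smul] at this
      exact smul_right_injective (Fin 3 → F) hc0 this)
    obtain ⟨g, hg⟩ := exists_moving (q := q) ha
    exact hg (htop (hgen ▸ Subgroup.mem_top g))
  obtain ⟨y0, hy0⟩ := exists_act_unit (q := q) (N := 3) (by omega) (v := ev 2) (v' := a) (isUnit1_ev 2) ha
  have hfix : ∀ u, act (φ s) u = u → ∃ c : F, c • a = u := by
    intro u hu
    obtain ⟨g, hg⟩ := eq_of_fixes_last (g := y0⁻¹ * φ s * y0) (by rw [act_mul, act_mul, hy0, hfa, act_inv_eq hy0])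
    set w := act y0⁻¹ u with hw
    have hgw : act g (w ∘ κ01) = w ∘ κ01 := by
      rw [← blk_comp, hg, act_mul, act_mul, hw, act_act_inv, hu]
    have hgo : g ^ (q + 1) = 1 := blk_injective κ01 (by
      rw [map_pow, hg, map_one]
      have : (y0⁻¹ * φ s * y0) ^ (q + 1) = y0⁻¹ * (φ s) ^ (q + 1) * y0 := by
        have := conj_pow (a := y0⁻¹) (b := φ s) (i := q + 1)
        rwa [inv_inv] at this
      rw [this, ← map_pow, ← hs, pow_orderOf_eq_one, map_one, mul_one, inv_mul_cancel])
    have hz : w ∘ κ01 = 0 := by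
      by_contra hne
      have hp := unipotent_of_fixed g hne hgw
      have hsp : s ^ ringChar F = 1 := hφ (by
        rw [map_pow, map_one]
        have e : φ s = y0 * blk κ01 g * y0⁻¹ := by rw [hg]; group
        rw [e, conj_pow, ← map_pow, hp, map_one, mul_one, mul_inv_cancel])
      have h1 := Nat.le_of_dvd (prime_ringChar (F := F)).pos (orderOf_dvd_of_pow_eq_one hsp)
      have h2 := Nat.le_of_dvd (q_pos hF.out) (ringChar_dvd (F := F) (q := q))
      omega
    refine ⟨w 2, ?_⟩
    have hw2 : w = w 2 • ev 2 := by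
      funext i
      fin_cases i
      · show w (κ01 0) = _
        rw [show w (κ01 0) = 0 from congrFun hz 0]; simp [ev]
      · show w (κ01 1) = _
        rw [show w (κ01 1) = 0 from congrFun hz 1]; simp [ev]
      · simp [ev]
    rw [← hy0, ← act_smul, ← hw2, hw, act_act_inv]
  have hperp : H.h a b = 0 := by
    obtain ⟨c, hc⟩ := hfix (act (ψ t) a) (by rw [← act_mul, hst.eq, act_mul, hfa])
    have hc1 : c ≠ 1 := by
      intro e
      rw [e, one_smul] at hc
      -- then the second torus fixes both vectors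
      obtain ⟨y1, hy1⟩ := exists_act_unit (q := q) (N := 3) (by omega) (v := ev 2) (v' := b) (isUnit1_ev 2) hb
      obtain ⟨g, hg⟩ := eq_of_fixes_last (g := y1⁻¹ * ψ t * y1) (by
        rw [act_mul, act_mul, hy1, hfb, act_inv_eq hy1])
      set w := act y1⁻¹ a with hw
      have hgw : act g (w ∘ κ01) = w ∘ κ01 := by
        rw [← blk_comp, hg, act_mul, act_mul, hw, act_act_inv, ← hc]
      have hne : w ∘ κ01 ≠ 0 := by
        intro hz
        have hw2 : w = w 2 • ev 2 := by
          funext i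
          fin_cases i
          · show w (κ01 0) = _
            rw [show w (κ01 0) = 0 from congrFun hz 0]; simp [ev]
          · show w (κ01 1) = _
            rw [show w (κ01 1) = 0 from congrFun hz 1]; simp [ev]
          · simp [ev]
        have hwa : a = w 2 • b := by
          rw [← hy1, ← act_smul, ← hw2, hw, act_act_inv]
        have hl : w 2 ≠ 0 := fun e0 => by
          rw [hwa, e0, zero_smul, H.zero_left] at ha
          exact zero_ne_one ha
        exact hab (w 2)⁻¹ (by rw [hwa, smul_smul, inv_mul_cancel₀ hl, one_smul])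
      have hp := unipotent_of_fixed g hne hgw
      have hsp : t ^ ringChar F = 1 := hψ (by
        rw [map_pow, map_one]
        have e : ψ t = y1 * blk κ01 g * y1⁻¹ := by rw [hg]; group
        rw [e, conj_pow, ← map_pow, hp, map_one, mul_one, mul_inv_cancel])
      have h1 := Nat.le_of_dvd (prime_ringChar (F := F)).pos (orderOf_dvd_of_pow_eq_one hsp)
      have h2 := Nat.le_of_dvd (q_pos hF.out) (ringChar_dvd (F := F) (q := q))
      omega
    have h1 := act_h (ψ t) a b
    rw [hfb, ← hc, H.smul_left] at h1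
    have h2 : (c - 1) * H.h a b = 0 := by linear_combination h1
    exact (mul_eq_zero.mp h2).resolve_left (sub_ne_zero.mpr hc1)
  -- the frame
  set b' := act y0⁻¹ b with hb'
  have hb'2 : b' 2 = 0 := by
    rw [← h_ev (q := q) b' 2, hb', ← act_h y0, act_act_inv, hy0]
    exact H.eq_zero_symm hperp
  have hpad : pad κ01 (b' ∘ κ01) = b' := by
    funext i
    fin_cases i
    · exact pad_mem κ01 _ 0
    · exact pad_mem κ01 _ 1
    · exact (pad_notMem κ01 _ κ01_two).trans hb'2.symm
  obtain ⟨g, hg⟩ := exists_act_unit (q := q) (N := 2) le_rfl (v := ev 0) (v' := b' ∘ κ01) (isUnit1_ev 0) (by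
    rw [IsUnit1, ← h_pad κ01, hpad, hb', act_h]; exact hb)
  set y := y0 * blk κ01 g with hy
  have hy2 : act y (ev 2) = a := by rw [hy, act_mul, blk_fix _ _ κ01_two, hy0]
  have hy0' : act y (ev 0) = b := by
    rw [hy, act_mul, show (0 : Fin 3) = κ01 0 from rfl, blk_ev, hg, hpad, hb', act_act_inv]
  have key : ∀ (κ : Fin 2 ↪ Fin 3) (χ : Cfsg.SU 2 F q →* Cfsg.SU 3 F q), Function.Injective χ →
      (∀ x, y⁻¹ * χ x * y ∈ (blk κ).range) → (blk κ).range.map (MulAut.conj y).toMonoidHom = χ.range := by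
    intro κ χ hχ hmem
    symm
    refine Subgroup.eq_of_le_of_card_ge ?_ (le_of_eq ?_)
    · rintro _ ⟨x, rfl⟩
      refine ⟨_, hmem x, ?_⟩
      show y * (y⁻¹ * χ x * y) * y⁻¹ = χ x
      group
    · rw [Subgroup.card_map_of_injective (MulAut.conj y).injective,
        ← Nat.card_congr (MonoidHom.ofInjective (blk_injective (F := F) (q := q) κ)).toEquiv,
        ← Nat.card_congr (MonoidHom.ofInjective hχ).toEquiv]
  refine ⟨y, key κ01 φ hφ fun x => eq_of_fixes_last ?_, key κ12 ψ hψ fun x => eq_of_fixes_first ?_⟩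
  · rw [act_mul, act_mul, hy2, hfa, act_inv_eq hy2]
  · rw [act_mul, act_mul, hy0', hfb, act_inv_eq hy0']

/-- Commuting tori give a standard pair. -/
theorem standard_of_tori {G : Type v} [Group G] {U W : Subgroup G} (eU : Cfsg.SU 2 F q ≃* U)
    (eW : Cfsg.SU 2 F q ≃* W) (ι : ↥(U ⊔ W) ≃* Cfsg.SU 3 F q) {D D' : Subgroup G} (hD : D ≤ U)
    (hD' : D' ≤ W) (hc : IsCyclic D) (hc' : IsCyclic D') (hn : Nat.card D = q + 1) (hn' : Nat.card D' = q + 1)
    (hcomm : ∀ x ∈ D, ∀ y ∈ D', x * y = y * x) : Cfsg.IsStandardUnitaryPair (U ⊔ W) U W F q := by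
  obtain ⟨d, hd⟩ := hc.exists_generator
  obtain ⟨d', hd'⟩ := hc'.exists_generator
  set φ : Cfsg.SU 2 F q →* Cfsg.SU 3 F q :=
    ι.toMonoidHom.comp ((Subgroup.inclusion le_sup_left).comp eU.toMonoidHom) with hφ
  set ψ : Cfsg.SU 2 F q →* Cfsg.SU 3 F q :=
    ι.toMonoidHom.comp ((Subgroup.inclusion le_sup_right).comp eW.toMonoidHom) with hψ
  have hφr : φ.range.map ((U ⊔ W).subtype.comp ι.symm.toMonoidHom) = U := by
    ext x
    constructor
    · rintro ⟨_, ⟨a, rfl⟩, rfl⟩
      simp [φ]
    · intro hx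
      exact ⟨_, ⟨eU.symm ⟨x, hx⟩, rfl⟩, by simp [φ]⟩
  have hψr : ψ.range.map ((U ⊔ W).subtype.comp ι.symm.toMonoidHom) = W := by
    ext x
    constructor
    · rintro ⟨_, ⟨a, rfl⟩, rfl⟩
      simp [ψ]
    · intro hx
      exact ⟨_, ⟨eW.symm ⟨x, hx⟩, rfl⟩, by simp [ψ]⟩
  have hinj : Function.Injective ((U ⊔ W).subtype.comp ι.symm.toMonoidHom) :=
    Subtype.val_injective.comp ι.symm.injective
  have hgen : φ.range ⊔ ψ.range = ⊤ := by
    refine Subgroup.map_injective hinj ?_
    rw [Subgroup.map_sup, hφr, hψr, ← MonoidHom.range_eq_map, MonoidHom.range_comp,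
      MonoidHom.range_eq_top.mpr ι.symm.surjective, ← MonoidHom.range_eq_map, Subgroup.range_subtype]
  have hord : ∀ {K : Subgroup G} (z : K), (∀ x, x ∈ Subgroup.zpowers z) → orderOf z = Nat.card K :=
    fun z hz => orderOf_eq_card_of_forall_mem_zpowers hz
  have hi1 : Function.Injective φ := ι.injective.comp ((Subgroup.inclusion_injective (le_sup_left : U ≤ U ⊔ W)).comp eU.injective)
  have hi2 : Function.Injective ψ := ι.injective.comp ((Subgroup.inclusion_injective (le_sup_right : W ≤ U ⊔ W)).comp eW.injective)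
  set s := eU.symm ⟨d.1, hD d.2⟩ with hs
  set t := eW.symm ⟨d'.1, hD' d'.2⟩ with ht
  have hso : orderOf s = q + 1 := by
    rw [hs, MulEquiv.orderOf_eq, Subgroup.orderOf_mk, Subgroup.orderOf_coe, hord d hd, hn]
  have hto : orderOf t = q + 1 := by
    rw [ht, MulEquiv.orderOf_eq, Subgroup.orderOf_mk, Subgroup.orderOf_coe, hord d' hd', hn']
  obtain ⟨y, hy1, hy2⟩ := pair_frame φ ψ hi1 hi2 hgen s t hso hto (hinj (by
    rw [map_mul, map_mul]
    simpa [φ, ψ, hs, ht] using hcomm d d.2 d' d'.2))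
  refine Or.inl ⟨(MulAut.conj y).trans ι.symm, ?_, ?_⟩
  · rw [suBlock_eq_range κ01 _ range_κ01]
    conv_rhs => rw [← hφr, ← hy1, Subgroup.map_map]
    rfl
  · rw [suBlock_eq_range κ12 _ range_κ12]
    conv_rhs => rw [← hψr, ← hy2, Subgroup.map_map]
    rfl

end Cfsg.Lib.Known.Phan
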