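import Cfsg.Agent.Known.Phan.Normal
import Cfsg.Agent.Classical.Unitary.Simple

/-! Faithful images of `SU 2` in `SU 3` fix a vector of norm one. -/

set_option autoImplicit false
set_option linter.unusedSimpArgs false
set_option linter.unusedSectionVars false
set_option linter.style.haveILetI false

namespace Cfsg.Lib.Known.Phan

open Matrix

universe u

variable {F : Type u} [Field F] [Fintype F] {q : ℕ} [hF : Fact (Fintype.card F = q ^ 2)]

theorem prime_ringChar : (ringChar F).Prime := CharP.char_is_prime F (ringChar F)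

theorem ringChar_dvd : ringChar F ∣ q := by
  haveI := ringChar.charP F
  have h0 : ((Fintype.card F : ℕ) : F) = 0 := FiniteField.cast_card_eq_zero F
  rw [CharP.cast_eq_zero_iff F (ringChar F), hF.out] at h0
  exact (prime_ringChar (F := F)).dvd_of_dvd_pow h0

/-- Elements of order the characteristic generate `SU 2`. -/
theorem gen_unipotent : ∃ T : Fin 2 → F → Cfsg.SU 2 F q,
    (∀ i c, T i c ^ ringChar F = 1) ∧ (∀ i c c', Commute (T i c) (T i c')) ∧
    ∀ S : Subgroup (Cfsg.SU 2 F q), (∀ i c, T i c ∈ S) → S = ⊤ := by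
  classical
  obtain ⟨E, Ψ, -⟩ := exists_model (F := F) (q := q)
  let K := ↥(Cfsg.Lib.Classical.fixedField (cb F q))
  haveI : Fintype K := Fintype.ofFinite _
  have hij : ∀ i : Fin 2, i ≠ i + 1 := by decide
  let T : Fin 2 → F → Cfsg.SU 2 F q := fun i c =>
    if h : c ∈ Cfsg.Lib.Classical.fixedField (cb F q) then
      Ψ (SpecialLinearGroup.transvection (hij i) (⟨c, h⟩ : K)) else 1
  have hmul : ∀ i (a b : K), SpecialLinearGroup.transvection (hij i) a *
      SpecialLinearGroup.transvection (hij i) b = SpecialLinearGroup.transvection (hij i) (a + b) := fun i a b => by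
    refine Subtype.ext ?_
    rw [Matrix.SpecialLinearGroup.coe_mul, Matrix.SpecialLinearGroup.transvection_coe,
      Matrix.SpecialLinearGroup.transvection_coe, Matrix.SpecialLinearGroup.transvection_coe]
    exact Matrix.transvection_mul_transvection_same _ _ (hij i) a b
  refine ⟨T, fun i c => ?_, fun i c c' => ?_, fun S hS => ?_⟩
  · simp only [T]
    split_ifs with h
    swap
    · exact one_pow _
    rw [← map_pow]
    have key : ∀ n : ℕ, SpecialLinearGroup.transvection (hij i) (⟨c, h⟩ : K) ^ n =
        SpecialLinearGroup.transvection (hij i) ((n : K) * ⟨c, h⟩) := fun n => by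
      induction n with
      | zero =>
        refine Subtype.ext ?_
        rw [pow_zero, Nat.cast_zero, zero_mul, Matrix.SpecialLinearGroup.transvection_coe]
        simp
      | succ n ih => rw [pow_succ, ih, hmul, Nat.cast_succ, add_mul, one_mul]
    haveI := ringChar.charP F
    haveI : CharP K (ringChar F) :=
      RingHom.charP (Cfsg.Lib.Classical.fixedField (cb F q)).subtype Subtype.val_injective (ringChar F)
    rw [key, CharP.cast_eq_zero, zero_mul]
    refine (congrArg Ψ (Subtype.ext ?_)).trans (map_one Ψ)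
    rw [Matrix.SpecialLinearGroup.transvection_coe]
    simp
  · simp only [T]
    split_ifs
    · show _ * _ = _ * _
      rw [← map_mul, ← map_mul, hmul, hmul]
      exact congrArg (fun t => Ψ (SpecialLinearGroup.transvection (hij i) t)) (add_comm _ _)
    · exact Commute.one_right _
    · exact Commute.one_left _
    · exact Commute.one_left _
  · have h := Cfsg.Lib.Classical.eq_top_of_transvection_mem (S.comap Ψ.toMonoidHom) fun i j hij' c => by
      obtain rfl : j = i + 1 := by revert hij'; revert i j; decide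
      have := hS i c.1
      simp only [T, dif_pos c.2] at this
      exact this
    refine (Subgroup.eq_top_iff' S).mpr fun x => ?_
    obtain ⟨a, rfl⟩ := Ψ.surjective x
    exact (h ▸ Subgroup.mem_top a : a ∈ S.comap Ψ.toMonoidHom)

/-- The stabiliser of a vector. -/
def fixv {N : ℕ} (v : Fin N → F) : Subgroup (Cfsg.SU N F q) where
  carrier := {g | act g v = v}
  mul_mem' {a b} ha hb := by rw [Set.mem_ofPred_eq] at *; rw [act_mul, hb, ha]
  one_mem' := act_one _
  inv_mem' {a} ha := act_inv_eq ha

theorem mem_fixv {N : ℕ} {v : Fin N → F} {g : Cfsg.SU N F q} : g ∈ fixv v ↔ act g v = v := Iff.rfl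

theorem noncommuting_pair : ∃ a b : Cfsg.SU 2 F q, ¬ Commute a b := by
  obtain ⟨a, ha, hne⟩ := exists_torus_elt (F := F) (q := q)
  refine ⟨su2 a 0 (by rw [zero_mul, add_zero, ha]), su2 0 1 (by simp), fun h => hne ?_⟩
  have := congrArg (fun g => act g (ev 0) 1) h.eq
  simp only [act_mul] at this
  rw [act_su2_zero, act_su2_zero] at this
  simp [act, mat_su2, Matrix.mulVec, dotProduct, Fin.sum_univ_two] at this
  exact this.symm

/-- A totally isotropic subspace of three-space is a point. -/
theorem isotropic_le_one {W : Submodule F (Fin 3 → F)}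
    (h : ∀ x ∈ W, ∀ y ∈ W, (HS F q 3).h x y = 0) : Module.finrank F W ≤ 1 := by
  have hle : W ≤ (HS F q 3).orth W := fun x hx => (HS F q 3).mem_orth.mpr (h x hx)
  have h2 := Submodule.finrank_mono hle
  rw [(HS F q 3).finrank_orth, Module.finrank_fin_fun] at h2
  omega

theorem proportional_of_isotropic {v w : Fin 3 → F} (hv : v ≠ 0) (h1 : (HS F q 3).h v v = 0)
    (h2 : (HS F q 3).h w w = 0) (h3 : (HS F q 3).h v w = 0) : ∃ c : F, c • v = w := by
  have hW := isotropic_le_one (q := q) (W := Submodule.span F {v, w}) fun x hx y hy => by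
    refine ((HS F q 3).mem_orth_span).mpr ?_ |> fun hh => ((HS F q 3).mem_orth.mp hh) y hy
    intro z hz
    obtain ⟨a, b, rfl⟩ := Submodule.mem_span_pair.mp hx
    rw [(HS F q 3).add_left, (HS F q 3).smul_left, (HS F q 3).smul_left]
    rcases hz with rfl | hz
    · rw [h1, (HS F q 3).eq_zero_symm h3, mul_zero, mul_zero, add_zero]
    · rw [Set.mem_singleton_iff.mp hz, h3, h2, mul_zero, mul_zero, add_zero]
  have hle : Submodule.span F {v} ≤ Submodule.span F {v, w} := Submodule.span_mono (by simp)
  have heq := Submodule.eq_of_le_of_finrank_le hle (by rw [finrank_span_singleton hv]; exact hW)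
  exact Submodule.mem_span_singleton.mp (heq ▸ Submodule.subset_span (by simp : w ∈ ({v, w} : Set _)))

/-- The centre of an involution in characteristic two. -/
theorem involution_centre (h2 : (2 : F) = 0) {x : Cfsg.SU 3 F q} (hx : x * x = 1) (hx1 : x ≠ 1) :
    ∃ v : Fin 3 → F, v ≠ 0 ∧ (HS F q 3).h v v = 0 ∧ (∀ u, ∃ c : F, act x u = u + c • v) ∧
      ∀ w, (act x w = w ↔ (HS F q 3).h w v = 0) := by
  classical
  set H := HS F q 3
  set N : Module.End F (Fin 3 → F) := (mat x).mulVecLin - LinearMap.id with hN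
  have hNa : ∀ u, N u = act x u - u := fun u => rfl
  have hxx : ∀ u, act x (act x u) = u := fun u => by rw [← act_mul, hx, act_one]
  have hneg : ∀ u : Fin 3 → F, -u = u := fun u => by
    funext i
    rw [Pi.neg_apply]
    linear_combination -(u i) * h2
  have hRK : LinearMap.range N ≤ LinearMap.ker N := by
    rintro _ ⟨u, rfl⟩
    rw [LinearMap.mem_ker, hNa, hNa, sub_eq_add_neg (act x u), hneg u, act_add, hxx, sub_eq_add_neg,
      hneg (act x u + u), add_comm u]
    nth_rw 1 [← hneg (act x u + u)]
    exact neg_add_cancel _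
  have hdim := N.finrank_range_add_finrank_ker
  have hle := Submodule.finrank_mono hRK
  rw [Module.finrank_fin_fun] at hdim
  have hR0 : LinearMap.range N ≠ ⊥ := fun h => hx1 (act_ext fun u => by
    rw [act_one]
    exact sub_eq_zero.mp ((Submodule.eq_bot_iff _).mp h _ ⟨u, hNa u⟩))
  have hR1 : Module.finrank F (LinearMap.range N) = 1 := by
    have : Module.finrank F (LinearMap.range N) ≠ 0 := fun h => hR0 (Submodule.finrank_eq_zero.mp h)
    omega
  obtain ⟨⟨v, u0, hu0⟩, hv0, hspan⟩ := finrank_eq_one_iff'.mp hR1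
  have hv : v ≠ 0 := fun h => hv0 (Subtype.ext h)
  have hRspan : ∀ u, ∃ c : F, c • v = N u := fun u => by
    obtain ⟨c, hc⟩ := hspan ⟨N u, u, rfl⟩
    exact ⟨c, congrArg Subtype.val hc⟩
  have sym : ∀ a b, H.h (act x a) b = H.h a (act x b) := fun a b => by
    conv_lhs => rw [← hxx b, act_h]
  have hN2 : ∀ a b, H.h (N a) b = H.h a (N b) := fun a b => by
    rw [hNa, hNa, H.sub_left, H.sub_right, sym]
  have hvv : H.h v v = 0 := by
    rw [← hu0, hN2, LinearMap.mem_ker.mp (hRK ⟨u0, rfl⟩), H.zero_right]
  refine ⟨v, hv, hvv, fun u => ?_, fun w => ⟨fun hw => ?_, fun hw => ?_⟩⟩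
  · obtain ⟨c, hc⟩ := hRspan u
    exact ⟨c, by rw [hc, hNa, add_sub_cancel]⟩
  · rw [← hu0, ← hN2, hNa, hw, sub_self, H.zero_left]
  · refine sub_eq_zero.mp (H.nondeg _ fun u => ?_)
    obtain ⟨c, hc⟩ := hRspan u
    rw [← hNa, ← hN2, ← hc, H.smul_left, H.eq_zero_symm hw, mul_zero]

/-- Commuting involutions have the same centre. -/
theorem same_centre {x y : Cfsg.SU 3 F q} {v w : Fin 3 → F} (hv : v ≠ 0) (hw : w ≠ 0)
    (hvv : (HS F q 3).h v v = 0) (hww : (HS F q 3).h w w = 0)
    (hx : ∀ u, ∃ c : F, act x u = u + c • v) (hx' : ∀ u, (act x u = u ↔ (HS F q 3).h u v = 0))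
    (hy : ∀ u, ∃ c : F, act y u = u + c • w) (hy' : ∀ u, (act y u = u ↔ (HS F q 3).h u w = 0))
    (hxy : Commute x y) : ∃ c : F, c ≠ 0 ∧ c • v = w := by
  have hvw : (HS F q 3).h v w = 0 := by
    by_contra h
    -- `x` moves `w`, and the commutation puts the moved part on the line of `w`
    obtain ⟨c, hc⟩ := hy v
    have hc0 : c ≠ 0 := fun e => h ((hy' v).mp (by rw [hc, e, zero_smul, add_zero]))
    have hxv : act x v = v := (hx' v).mpr hvv
    have e := congrArg (fun g => act g v) hxy.eq
    simp only [act_mul, hxv, hc, act_add, act_smul] at e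
    obtain ⟨d, hd⟩ := hx w
    rw [hd] at e
    have hd0 : d = 0 := by
      have : (c * d) • v = 0 := by
        have e' : v + c • (w + d • v) = v + c • w := e
        rw [smul_add, smul_smul, ← add_assoc] at e'
        exact add_eq_left.mp e'
      rcases smul_eq_zero.mp this with h' | h'
      · exact (mul_eq_zero.mp h').resolve_left hc0
      · exact absurd h' hv
    exact h ((HS F q 3).eq_zero_symm ((hx' w).mp (by rw [hd, hd0, zero_smul, add_zero])))
  obtain ⟨c, hc⟩ := proportional_of_isotropic (q := q) hv hvv hww hvw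
  exact ⟨c, fun e => hw (by rw [← hc, e, zero_smul]), hc⟩

/-- A unit vector orthogonal to two hyperbolic centres. -/
theorem exists_unit_orth_hyp {v w : Fin 3 → F} (hv : v ≠ 0) (hvv : (HS F q 3).h v v = 0)
    (hne : (HS F q 3).h v w ≠ 0) :
    ∃ a, (HS F q 3).h a a = 1 ∧ (HS F q 3).h a v = 0 ∧ (HS F q 3).h a w = 0 := by
  set H := HS F q 3
  set W := Submodule.span F {v, w}
  have hdim : Module.finrank F (H.orth W) ≠ 0 := by
    rw [H.finrank_orth, Module.finrank_fin_fun]
    have h2 : Module.finrank F W ≤ 2 := by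
      classical
      refine le_trans (finrank_span_le_card _) ?_
      rw [Set.toFinset_insert, Set.toFinset_singleton]
      exact Finset.card_le_two
    omega
  obtain ⟨a, ha, ha0⟩ := Submodule.exists_mem_ne_zero_of_ne_bot (p := H.orth W)
    (fun h => hdim (by rw [h]; exact finrank_bot F _))
  have h1 := H.mem_orth_span.mp ha v (by simp)
  have h2 := H.mem_orth_span.mp ha w (by simp)
  have haa : H.h a a ≠ 0 := fun h0 => by
    obtain ⟨c, hc⟩ := proportional_of_isotropic (q := q) hv hvv h0 (H.eq_zero_symm h1)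
    rw [← hc, H.smul_left, mul_eq_zero] at h2
    rcases h2 with h2 | h2
    · exact ha0 (by rw [← hc, h2, zero_smul])
    · exact hne h2
  obtain ⟨l, -, hl⟩ := exists_scale_unit (q := q) haa
  exact ⟨l • a, hl, by rw [H.smul_left, h1, mul_zero], by rw [H.smul_left, h2, mul_zero]⟩

/-- Faithful images of `SU 2` fix a vector of norm one. -/
theorem fixed_unit (φ : Cfsg.SU 2 F q →* Cfsg.SU 3 F q) (hφ : Function.Injective φ) :
    ∃ a, (HS F q 3).h a a = 1 ∧ ∀ x, act (φ x) a = a := by
  classical
  set H := HS F q 3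
  obtain ⟨T, hTp, hTc, hTg⟩ := gen_unipotent (F := F) (q := q)
  suffices h : ∃ a, H.h a a = 1 ∧ ∀ i c, act (φ (T i c)) a = a by
    obtain ⟨a, ha, hfix⟩ := h
    exact ⟨a, ha, fun x => (hTg ((fixv a).comap φ) hfix).ge (Subgroup.mem_top x)⟩
  haveI := ringChar.charP F
  haveI : Fact (ringChar F).Prime := ⟨prime_ringChar⟩
  by_cases h2 : (2 : F) = 0
  · -- characteristic two
    have hp : ringChar F = 2 :=
      (CharP.ringChar_of_prime_eq_zero Nat.prime_two (by exact_mod_cast h2) : ringChar F = 2)
    have hinv : ∀ i c, φ (T i c) * φ (T i c) = 1 := fun i c => by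
      rw [← map_mul, ← sq, show T i c ^ 2 = 1 by have := hTp i c; rwa [hp] at this, map_one]
    have centre : ∀ i, ∃ v : Fin 3 → F, v ≠ 0 ∧ H.h v v = 0 ∧ ∀ c, φ (T i c) ≠ 1 →
        (∀ u, ∃ d : F, act (φ (T i c)) u = u + d • v) ∧ ∀ w, (act (φ (T i c)) w = w ↔ H.h w v = 0) := by
      intro i
      by_cases hall : ∀ c, φ (T i c) = 1
      · obtain ⟨v, hv, hvv⟩ := H.exists_isotropic_of_two_le (by rw [Module.finrank_fin_fun]; omega)
        exact ⟨v, hv, hvv, fun c hc => absurd (hall c) hc⟩
      push Not at hall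
      obtain ⟨c0, hc0⟩ := hall
      obtain ⟨v, hv, hvv, hv1, hv2⟩ := involution_centre h2 (hinv i c0) hc0
      refine ⟨v, hv, hvv, fun c hc => ?_⟩
      obtain ⟨w, hw, hww, hw1, hw2⟩ := involution_centre h2 (hinv i c) hc
      obtain ⟨l, hl0, hl⟩ := same_centre hv hw hvv hww hv1 hv2 hw1 hw2 ((hTc i c0 c).map φ)
      refine ⟨fun u => ?_, fun u => ?_⟩
      · obtain ⟨d, hd⟩ := hw1 u
        exact ⟨d * l, by rw [hd, ← hl, smul_smul]⟩
      · rw [hw2 u, ← hl, H.smul_right, mul_eq_zero, hs_sigma, cb_eq_zero, or_iff_right hl0]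
    choose v hv hvv hcen using centre
    have fix : ∀ a, (∀ i, H.h a (v i) = 0) → ∀ i c, act (φ (T i c)) a = a := fun a ha i c => by
      by_cases hc : φ (T i c) = 1
      · rw [hc, act_one]
      · exact ((hcen i c hc).2 a).mpr (ha i)
    have hne : H.h (v 0) (v 1) ≠ 0 := by
      intro h0
      obtain ⟨l, hl⟩ := proportional_of_isotropic (q := q) (hv 0) (hvv 0) (hvv 1) h0
      have comm : ∀ i j c d, Commute (φ (T i c)) (φ (T j d)) := by
        intro i j c d
        by_cases hc : φ (T i c) = 1
        · rw [hc]; exact Commute.one_left _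
        by_cases hd : φ (T j d) = 1
        · rw [hd]; exact Commute.one_right _
        have hline : ∀ k, ∃ m : F, m • v 0 = v k := fun k => by
          fin_cases k
          · exact ⟨1, one_smul _ _⟩
          · exact ⟨l, hl⟩
        have fixv0 : ∀ k e, φ (T k e) ≠ 1 → act (φ (T k e)) (v 0) = v 0 := fun k e he => by
          refine ((hcen k e he).2 (v 0)).mpr ?_
          obtain ⟨m, hm⟩ := hline k
          rw [← hm, H.smul_right, hvv 0, mul_zero]
        refine act_ext fun u => ?_
        obtain ⟨a, ha⟩ := (hcen i c hc).1 u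
        obtain ⟨b, hb⟩ := (hcen j d hd).1 u
        obtain ⟨m, hm⟩ := hline i
        obtain ⟨m', hm'⟩ := hline j
        rw [← hm, smul_smul] at ha
        rw [← hm', smul_smul] at hb
        rw [act_mul, act_mul, ha, hb, act_add, act_add, act_smul, act_smul, fixv0 i c hc, fixv0 j d hd, ha, hb,
          add_right_comm]
      obtain ⟨x, y, hxy⟩ := noncommuting_pair (F := F) (q := q)
      refine hxy (hφ ?_)
      have h1 : ∀ i c, ∀ y, Commute (φ (T i c)) (φ y) := fun i c y =>
        (Subgroup.mem_centralizer_iff.mp ((hTg ((Subgroup.centralizer {φ (T i c)}).comap φ) fun j d =>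
          Subgroup.mem_centralizer_iff.mpr fun w hw => by
            rw [Set.mem_singleton_iff.mp hw]; exact (comm i j c d).eq).ge (Subgroup.mem_top y)) _ rfl : _)
      have h3 : Commute (φ x) (φ y) :=
        (Subgroup.mem_centralizer_iff.mp ((hTg ((Subgroup.centralizer {φ y}).comap φ) fun i c =>
          Subgroup.mem_centralizer_iff.mpr fun w hw => by
            rw [Set.mem_singleton_iff.mp hw]; exact (h1 i c y).eq.symm).ge (Subgroup.mem_top x)) _ rfl).symm
      rw [map_mul, map_mul]
      exact h3.eq
    obtain ⟨a, ha, h0, h1⟩ := exists_unit_orth_hyp (q := q) (hv 0) (hvv 0) hne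
    exact ⟨a, ha, fix a fun i => by fin_cases i <;> assumption⟩
  · -- odd characteristic: the fixed line of the central involution
    set N2 : Cfsg.SU 2 F q := su2 (-1) 0 (by simp) with hN2
    have hact2 : ∀ w : Fin 2 → F, act N2 w = -w := fun w => by
      rw [act, hN2, mat_su2]
      funext i
      fin_cases i <;> simp [Matrix.mulVec, dotProduct, Fin.sum_univ_two]
    set z := φ N2 with hz
    have hzz : ∀ w, act z (act z w) = w := fun w => by
      rw [← act_mul, hz, ← map_mul, show N2 * N2 = 1 from act_ext fun u => by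
        rw [act_mul, hact2, hact2, neg_neg, act_one], map_one, act_one]
    have hz1 : z ≠ 1 := fun h => by
      have h' : N2 = 1 := hφ (by rw [map_one]; exact h)
      have := congrArg (fun g => act g (ev 0) 0) h'
      simp [hact2, act_one, ev] at this
      exact h2 (by linear_combination -this)
    have hzc : ∀ x, Commute z (φ x) := fun x => Commute.map (act_ext fun u => by
      rw [act_mul, act_mul, hact2, hact2, show -u = (-1 : F) • u by simp, act_smul]
      simp) φ
    set Z : Module.End F (Fin 3 → F) := (mat z).mulVecLin with hZ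
    have hZa : ∀ w, Z w = act z w := fun w => rfl
    set Ep : Submodule F (Fin 3 → F) := LinearMap.ker (Z - LinearMap.id) with hEp
    set Em : Submodule F (Fin 3 → F) := LinearMap.ker (Z + LinearMap.id) with hEm
    have memp : ∀ {w}, w ∈ Ep ↔ act z w = w := fun {w} => by simp [hEp, sub_eq_zero, hZa]
    have memm : ∀ {w}, w ∈ Em ↔ act z w = -w := fun {w} => by simp [hEm, add_eq_zero_iff_eq_neg, hZa]
    have hsplit : ∀ w : Fin 3 → F, ∃ a ∈ Ep, ∃ b ∈ Em, a + b = w := fun w => by
      refine ⟨(2 : F)⁻¹ • (w + act z w), memp.mpr ?_, (2 : F)⁻¹ • (w - act z w), memm.mpr ?_, ?_⟩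
      · rw [act_smul, act_add, hzz, add_comm]
      · rw [sub_eq_add_neg, show -(act z w) = (-1 : F) • act z w by simp, act_smul, act_add, act_smul, hzz]
        funext i
        simp only [Pi.smul_apply, Pi.add_apply, Pi.neg_apply, smul_eq_mul]
        ring
      · funext i
        simp only [Pi.smul_apply, Pi.add_apply, Pi.sub_apply, smul_eq_mul]
        field_simp
        ring
    have hcompl : IsCompl Ep Em := by
      refine ⟨Submodule.disjoint_def.mpr fun w h1 h1' => ?_, codisjoint_iff.mpr ?_⟩
      · have h := (memp.mp h1).symm.trans (memm.mp h1')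
        funext i
        have hi := congrFun h i
        rw [Pi.neg_apply] at hi
        have : (2 : F) * w i = 0 := by linear_combination hi
        exact (mul_eq_zero.mp this).resolve_left h2
      · refine eq_top_iff.mpr fun w _ => ?_
        obtain ⟨a, ha, b, hb, rfl⟩ := hsplit w
        exact Submodule.add_mem_sup ha hb
    set b := Module.finrank F Em with hb
    have hab : Module.finrank F Ep + b = 3 := by
      rw [hb, Submodule.finrank_add_eq_of_isCompl hcompl, Module.finrank_fin_fun]
    have hdet : (-1 : F) ^ b = 1 := by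
      have hconj : Z = (Submodule.prodEquivOfIsCompl Ep Em hcompl : (Ep × Em) →ₗ[F] (Fin 3 → F)) ∘ₗ
          ((LinearMap.id : Ep →ₗ[F] Ep).prodMap ((-1 : F) • LinearMap.id : Em →ₗ[F] Em)) ∘ₗ
          ((Submodule.prodEquivOfIsCompl Ep Em hcompl).symm : (Fin 3 → F) →ₗ[F] (Ep × Em)) := by
        refine LinearMap.ext fun w => ?_
        obtain ⟨⟨x, y⟩, rfl⟩ := (Submodule.prodEquivOfIsCompl Ep Em hcompl).surjective w
        simp [hZa, act_add, memp.mp x.2, memm.mp y.2]
      have h1 := congrArg LinearMap.det hconj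
      simp only [LinearMap.det_conj, LinearMap.det_prodMap, LinearMap.det_smul, LinearMap.det_id, mul_one,
        one_mul, ← hb] at h1
      rw [← h1, hZ, ← Matrix.toLin'_apply', LinearMap.det_toLin']
      exact (z : Matrix.SpecialLinearGroup (Fin 3) F).2
    have hb2 : b = 2 := by
      have hb3 : b ≤ 3 := by omega
      have hn1 : (-1 : F) ≠ 1 := fun h => h2 (by linear_combination -h)
      interval_cases b
      · exfalso
        refine hz1 (act_ext fun w => ?_)
        have htop : Ep = ⊤ := Submodule.eq_top_of_finrank_eq (by rw [Module.finrank_fin_fun]; omega)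
        rw [act_one]
        exact memp.mp (htop ▸ Submodule.mem_top)
      · exact absurd (by linear_combination hdet) hn1
      · rfl
      · exact absurd (by linear_combination hdet) hn1
    have ha1 : Module.finrank F Ep = 1 := by omega
    obtain ⟨⟨a, ha⟩, ha0, hspan⟩ := finrank_eq_one_iff'.mp ha1
    have haa : H.h a a ≠ 0 := fun h0 => ha0 (Subtype.ext (H.nondeg a fun x => by
      obtain ⟨c, hc, d, hd, rfl⟩ := hsplit x
      obtain ⟨l, hl⟩ := hspan ⟨c, hc⟩
      have hl' : l • a = c := congrArg Subtype.val hl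
      have h1 := act_h z d a
      rw [memm.mp hd, memp.mp ha, show -d = (-1 : F) • d by simp, H.smul_left] at h1
      have h3 : H.h d a = 0 := by
        have h4 : (2 : F) * H.h d a = 0 := by linear_combination -h1
        exact (mul_eq_zero.mp h4).resolve_left h2
      rw [H.add_left, ← hl', H.smul_left, h0, h3, mul_zero, add_zero]))
    obtain ⟨l, hl0, hl⟩ := exists_scale_unit (q := q) haa
    refine ⟨l • a, hl, fun i c => ?_⟩
    rw [act_smul]
    congr 1
    have hmem : act (φ (T i c)) a ∈ Ep := memp.mpr (by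
      rw [← act_mul, (hzc _).eq, act_mul, memp.mp ha])
    obtain ⟨χ, hχ⟩ := hspan ⟨_, hmem⟩
    have hχ' : χ • a = act (φ (T i c)) a := congrArg Subtype.val hχ
    have hpow : ∀ n : ℕ, act (φ (T i c) ^ n) a = χ ^ n • a := fun n => by
      induction n with
      | zero => rw [pow_zero, act_one, pow_zero, one_smul]
      | succ n ih => rw [pow_succ', act_mul, ih, act_smul, ← hχ', smul_smul, pow_succ]
    have h1 := hpow (ringChar F)
    rw [← map_pow, hTp, map_one, act_one] at h1
    have hχp : χ ^ ringChar F = 1 := by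
      by_contra hne
      have h3 : (χ ^ ringChar F - 1) • a = 0 := by rw [sub_smul, one_smul, ← h1, sub_self]
      rcases smul_eq_zero.mp h3 with h4 | h4
      · exact hne (sub_eq_zero.mp h4)
      · exact ha0 (Subtype.ext h4)
    have hχ1 : χ = 1 := frobenius_inj F (ringChar F) (by rw [frobenius_def, hχp, frobenius_def, one_pow])
    rw [← hχ', hχ1, one_smul]

end Cfsg.Lib.Known.Phan
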