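import Cfsg.Agent.Known.Phan.Build

/-! The field with four elements: rank one facts, generation by windows, compatible families. -/

set_option autoImplicit false
set_option linter.unusedSimpArgs false
set_option linter.unusedSectionVars false
set_option linter.style.haveILetI false

namespace Cfsg.Lib.Known.Phan

open Matrix

universe u v

variable {F : Type u} [Field F] [Fintype F] [hF : Fact (Fintype.card F = 2 ^ 2)]

local notation "cσ" => cb F 2

theorem two_eq_zero : (2 : F) = 0 := by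
  have h : ((Fintype.card F : ℕ) : F) = 0 := FiniteField.cast_card_eq_zero F
  rw [hF.out] at h
  push_cast at h
  exact (pow_eq_zero_iff (n := 2) two_ne_zero).mp (by linear_combination h)

theorem neg_self (x : F) : -x = x := by linear_combination -x * two_eq_zero (F := F)

theorem norm_cube (x : F) : x * cσ x = x ^ 3 := by rw [cb_apply]; ring

theorem cube_of_ne {x : F} (hx : x ≠ 0) : x ^ 3 = 1 := by
  have := FiniteField.pow_card_sub_one_eq_one x hx
  rwa [hF.out] at this

theorem norm_of_ne {x : F} (hx : x ≠ 0) : x * cσ x = 1 := (norm_cube x).trans (cube_of_ne hx)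

theorem ne_of_norm {x : F} (hx : x * cσ x = 1) : x ≠ 0 := left_ne_zero_of_mul_eq_one hx

theorem exists_omega : ∃ a : F, a * cσ a = 1 ∧ a ≠ 1 ∧ cσ a = a * a ∧ a ≠ a * a := by
  obtain ⟨a, ha, hne⟩ := exists_torus_elt (F := F) (q := 2)
  refine ⟨a, ha, fun h => hne (by rw [h, map_one]), by rw [cb_apply, sq], fun h => hne ?_⟩
  rw [cb_apply, sq, ← h]

theorem cube_cases {a x : F} (ha : a * cσ a = 1) (ha1 : a ≠ 1) (hx : x * cσ x = 1) :
    x = 1 ∨ x = a ∨ x = a * a := by
  have hx3 : x ^ 3 = 1 := (norm_cube x).symm.trans hx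
  have ha3 : a ^ 3 = 1 := (norm_cube a).symm.trans ha
  have hs : a * a + a + 1 = 0 := by
    have h : (a - 1) * (a * a + a + 1) = 0 := by linear_combination ha3
    exact (mul_eq_zero.mp h).resolve_left (sub_ne_zero.mpr ha1)
  have key : (x - 1) * ((x - a) * (x - a * a)) = 0 := by
    linear_combination hx3 + (x - x ^ 2) * hs + (x - 1) * ha3
  rcases mul_eq_zero.mp key with h | h
  · exact Or.inl (sub_eq_zero.mp h)
  rcases mul_eq_zero.mp h with h | h
  · exact Or.inr (Or.inl (sub_eq_zero.mp h))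
  · exact Or.inr (Or.inr (sub_eq_zero.mp h))

/-- Rank one elements are monomial. -/
theorem su2_cases (g : Cfsg.SU 2 F 2) :
    (mat g 1 0 = 0 ∧ mat g 0 0 * cσ (mat g 0 0) = 1) ∨ (mat g 0 0 = 0 ∧ mat g 1 0 * cσ (mat g 1 0) = 1) := by
  have h := su2_norm g
  by_cases hp : mat g 1 0 = 0
  · rw [hp, zero_mul, add_zero] at h; exact Or.inl ⟨hp, h⟩
  · refine Or.inr ⟨?_, norm_of_ne hp⟩
    by_contra hm
    rw [norm_of_ne hm, norm_of_ne hp] at h
    exact one_ne_zero (α := F) (by linear_combination h)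

theorem theta_torus (θ : Cfsg.SU 2 F 2 ≃* Cfsg.SU 2 F 2) (a : F) (h : a * cσ a + 0 * cσ 0 = 1) :
    mat (θ (su2 a 0 h)) 1 0 = 0 := by
  rcases su2_cases (θ (su2 a 0 h)) with ⟨h1, -⟩ | ⟨h0, h1⟩
  · exact h1
  exfalso
  set x := θ (su2 a 0 h) with hx
  have h11 : mat x 1 1 = 0 := by conv_lhs => rw [eq_su2 x, mat_su2]; simp [h0]
  have h01 : mat x 0 1 = cσ (mat x 1 0) := by conv_lhs => rw [eq_su2 x, mat_su2]; simp [neg_self]
  have hsq : x * x = 1 := by
    refine Subtype.ext (Subtype.ext ?_)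
    show mat x * mat x = 1
    ext i j
    fin_cases i <;> fin_cases j <;> simp [Matrix.mul_apply, Fin.sum_univ_two, h0, h11, h01]
    · linear_combination h1
    · linear_combination h1
  have ha : a * cσ a = 1 := by simpa using h
  have hcube : (su2 a 0 h) * ((su2 a 0 h) * su2 a 0 h) = (1 : Cfsg.SU 2 F 2) := by
    have h3 : a * (a * a) = 1 := by rw [← pow_two, ← pow_succ']; exact (norm_cube a).symm.trans ha
    refine su2_ext ?_ ?_
    · simp [show ∀ g k : Cfsg.SU 2 F 2, mat (g * k) = mat g * mat k from fun _ _ => rfl, Matrix.mul_apply,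
        Fin.sum_univ_two, mat_su2, mat, h3]
    · simp [show ∀ g k : Cfsg.SU 2 F 2, mat (g * k) = mat g * mat k from fun _ _ => rfl, Matrix.mul_apply,
        Fin.sum_univ_two, mat_su2, mat]
  have h3 := congrArg θ hcube
  rw [map_mul, map_mul, map_one, ← hx, hsq, mul_one] at h3
  rw [h3] at h1
  simp [mat] at h1

/-- The blocks generate the monomial elements. -/
theorem torus_decomp (v : Fin 3 → F) (a b : F) (ha : a * cσ a + 0 * cσ 0 = 1) (hb : b * cσ b + 0 * cσ 0 = 1) :
    act (blk κ01 (su2 a 0 ha) * blk κ12 (su2 b 0 hb)) v = ![a * v 0, cσ a * (b * v 1), cσ b * v 2] := by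
  rw [act_mul]
  funext i
  fin_cases i
  · show act (blk κ01 _) _ (κ01 0) = _
    rw [blk_apply_mem, act, mat_su2]
    simp [Matrix.mulVec, dotProduct, Fin.sum_univ_two, κ01, blk_apply_notMem κ12 _ v κ12_zero]
  · show act (blk κ01 _) _ (κ01 1) = _
    rw [blk_apply_mem, act, mat_su2]
    simp [Matrix.mulVec, dotProduct, Fin.sum_univ_two, κ01,
      show act (blk κ12 (su2 b 0 hb)) v 1 = b * v 1 by
        rw [show (1 : Fin 3) = κ12 0 from rfl, blk_apply_mem, act, mat_su2]
        simp [Matrix.mulVec, dotProduct, Fin.sum_univ_two, κ12]]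
  · show act (blk κ01 _) _ 2 = _
    rw [blk_apply_notMem κ01 _ _ κ01_two, show (2 : Fin 3) = κ12 1 from rfl, blk_apply_mem, act, mat_su2]
    simp [Matrix.mulVec, dotProduct, Fin.sum_univ_two, κ12]

variable {G : Type v} [Group G]

/-- Two overlapping maps can be made to agree. -/
theorem exists_agree_two {f f' : Cfsg.SU 3 F 2 →* G} {U W X : Subgroup G} (hf : Edge f U W) (hf' : Edge f' W X) :
    ∃ f'' : Cfsg.SU 3 F 2 →* G, Edge f'' W X ∧ f''.range = f'.range ∧
      f''.comp (blk κ01) = f.comp (blk κ12) := by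
  classical
  let e1 : Cfsg.SU 2 F 2 ≃* W := (MonoidHom.ofInjective hf.injr).trans (MulEquiv.subgroupCongr hf.right)
  let e2 : Cfsg.SU 2 F 2 ≃* W := (MonoidHom.ofInjective hf'.injl).trans (MulEquiv.subgroupCongr hf'.left)
  let θ := e2.trans e1.symm
  have hθ : ∀ x, f (blk κ12 (θ x)) = f' (blk κ01 x) := fun x =>
    congrArg Subtype.val (e1.apply_symm_apply (e2 x))
  obtain ⟨b, τ, hb, hshape⟩ := exists_diag_field θ (theta_torus θ)
  set d : Fin 3 → F := ![cσ b, 1, 1] with hd
  have hdn : ∀ i, d i * cσ (d i) = 1 := by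
    intro i; fin_cases i
    · simp [hd, cb_cb, mul_comm, hb]
    · simp [hd]
    · simp [hd]
  let Θ := MulEquiv.ofBijective (dfield d hdn τ) (dfield_bijective d hdn τ)
  have hΘ01 : ∀ x, Θ (blk κ01 x) = blk κ01 (θ x) := fun x => by
    show dfield d hdn τ (blk κ01 x) = _
    rw [dfield_blk]
    congr 1
    obtain ⟨h0, h1⟩ := dfield_su2 (d ∘ κ01) (fun i => hdn (κ01 i)) τ x
    refine su2_ext (h0.trans (hshape x).1.symm) (h1.trans ?_)
    rw [(hshape x).2, show (d ∘ κ01) 1 = 1 from rfl, show (d ∘ κ01) 0 = cσ b from rfl, cb_cb, one_mul]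
  let Θ2 := MulEquiv.ofBijective (dfield (d ∘ κ12) (fun i => hdn (κ12 i)) τ) (dfield_bijective _ _ τ)
  let f'' := f'.comp Θ.symm.toMonoidHom
  have h01 : f''.comp (blk κ01) = f.comp (blk κ12) := MonoidHom.ext fun y => by
    obtain ⟨x, rfl⟩ := θ.surjective y
    show f' (Θ.symm (blk κ01 (θ x))) = f (blk κ12 (θ x))
    rw [← hΘ01, Θ.symm_apply_apply, hθ]
  have h12 : ∀ y, f'' (blk κ12 (Θ2 y)) = f' (blk κ12 y) := fun y => by
    show f' (Θ.symm (blk κ12 (Θ2 y))) = _
    rw [show blk κ12 (Θ2 y) = Θ (blk κ12 y) from (dfield_blk κ12 d hdn τ y).symm, Θ.symm_apply_apply]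
  refine ⟨f'', ⟨by rw [h01, hf.right], ?_, by rw [h01]; exact hf.injr, ?_, ?_⟩, ?_, h01⟩
  · rw [← hf'.right]
    refine le_antisymm ?_ ?_
    · rintro _ ⟨y, rfl⟩; exact ⟨Θ2.symm y, by simpa using (h12 (Θ2.symm y)).symm⟩
    · rintro _ ⟨y, rfl⟩; exact ⟨Θ2 y, h12 y⟩
  · intro y y' h
    obtain ⟨z, rfl⟩ := Θ2.surjective y
    obtain ⟨z', rfl⟩ := Θ2.surjective y'
    exact congrArg Θ2 (hf'.injr ((h12 z).symm.trans (h.trans (h12 z'))))
  · intro z hz
    have := Subgroup.mem_center_iff.mp (hf'.ker (show Θ.symm z ∈ f'.ker from hz))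
    refine Subgroup.mem_center_iff.mpr fun g => Θ.symm.injective ?_
    rw [map_mul, map_mul]
    exact this _
  · show (f'.comp Θ.symm.toMonoidHom).range = f'.range
    rw [MonoidHom.range_comp, MonoidHom.range_eq_top.mpr Θ.symm.surjective, ← MonoidHom.range_eq_map]

/-- A compatible family with prescribed ranges. -/
theorem exists_family_two {k : ℕ} {U : ℕ → Subgroup G}
    (f : ℕ → (Cfsg.SU 3 F 2 →* G)) (hf : ∀ i < k, Edge (f i) (U i) (U (i + 1))) :
    ∃ f', Family (F := F) (q := 2) k U f' ∧ ∀ i < k, (f' i).range = (f i).range := by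
  induction k with
  | zero =>
    exact ⟨f, ⟨fun i hi => absurd hi (Nat.not_lt_zero i), fun i hi => absurd hi (Nat.not_lt_zero _)⟩,
      fun _ _ => rfl⟩
  | succ k ih =>
    obtain ⟨g, hg, hgr⟩ := ih (fun i hi => hf i (by omega))
    rcases Nat.eq_zero_or_pos k with rfl | hk
    · exact ⟨f, ⟨hf, fun i hi => by omega⟩, fun _ _ => rfl⟩
    obtain ⟨j, rfl⟩ : ∃ j, k = j + 1 := ⟨k - 1, by omega⟩
    obtain ⟨f'', h1, hr, h2⟩ := exists_agree_two (hg.edge j (by omega)) (hf (j + 1) (by omega))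
    refine ⟨Function.update g (j + 1) f'', ⟨fun i hi => ?_, fun i hi => ?_⟩, fun i hi => ?_⟩
    · rcases eq_or_ne i (j + 1) with rfl | hne
      · rw [Function.update_self]; exact h1
      · rw [Function.update_of_ne hne]; exact hg.edge i (by omega)
    · rw [Function.update_of_ne (show i ≠ j + 1 by omega)]
      rcases eq_or_ne i j with rfl | hne
      · rw [Function.update_self]; exact h2
      · rw [Function.update_of_ne (show i + 1 ≠ j + 1 by omega)]; exact hg.agree i (by omega)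
    · rcases eq_or_ne i (j + 1) with rfl | hne
      · rw [Function.update_self]; exact hr
      · rw [Function.update_of_ne hne]; exact hgr i (by omega)

theorem blk_id (N : ℕ) (s : Cfsg.SU N F 2) : blk (win N 0 (le_of_eq (Nat.zero_add N))) s = s := by
  refine act_ext fun v => funext fun l => ?_
  have e : (win N 0 (le_of_eq (Nat.zero_add N)) : Fin N ↪ Fin N) l = l := by ext; simp [win]
  conv_lhs => rw [← e]
  rw [blk_apply_mem]
  congr 1
  funext l'
  exact congrArg v (by ext; simp [win])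

/-- Generation by windows of three coordinates. -/
theorem gen_windows : ∀ (N : ℕ) (S : Subgroup (Cfsg.SU N F 2)), 3 ≤ N →
    (∀ j (h : j + 3 ≤ N), (blk (win 3 j h)).range ≤ S) → S = ⊤ := by
  intro N
  induction N with
  | zero => intro S h; omega
  | succ N ih =>
    intro S h3 hS
    rcases Nat.lt_or_ge N 3 with h | h
    · have hN : N = 2 := by omega
      subst hN
      exact (Subgroup.eq_top_iff' S).mpr fun g => hS 0 le_rfl ⟨g, blk_id 3 g⟩
    obtain ⟨m, rfl⟩ : ∃ m, N = m + 1 := ⟨N - 1, by omega⟩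
    refine gen_top (m := m) (by omega) S ?_ ?_
    · intro g hg
      obtain ⟨g', rfl⟩ := exists_blk_stab hg
      have := ih (S.comap (blk (κs (m + 1)))) h (fun j hj => by
        rintro _ ⟨s, rfl⟩
        rw [Subgroup.mem_comap, blk_blk, κs_eq_win, win_trans]
        exact hS _ (by omega) ⟨s, rfl⟩)
      exact (this ▸ Subgroup.mem_top g' : g' ∈ S.comap (blk (κs (m + 1))))
    · rw [κ3_eq_win (by omega)]
      exact hS 0 (by omega) ⟨_, rfl⟩

theorem range_le_windows {N : ℕ} (hN : 3 ≤ N) (Φ : Cfsg.SU N F 2 →* G) {S : Subgroup G}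
    (h : ∀ j (hj : j + 3 ≤ N), (Φ.comp (blk (win 3 j hj))).range ≤ S) : Φ.range ≤ S := by
  have := gen_windows N (S.comap Φ) hN (fun j hj => by rintro _ ⟨s, rfl⟩; exact h j hj ⟨s, rfl⟩)
  rintro _ ⟨g, rfl⟩
  exact (this ▸ Subgroup.mem_top g : g ∈ S.comap Φ)

end Cfsg.Lib.Known.Phan
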