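import Cfsg.Agent.Known.Phan.TwoBase
import Cfsg.Agent.Classical.Unitary.Card

/-! `SU 3` over four elements: maps agreeing on the two blocks are equal. -/

set_option autoImplicit false
set_option linter.unusedSimpArgs false
set_option linter.unusedSectionVars false
set_option linter.style.haveILetI false

namespace Cfsg.Lib.Known.Phan

open Matrix
open Fin.NatCast

universe u v

variable {F : Type u} [Field F] [Fintype F] [hF : Fact (Fintype.card F = 2 ^ 2)]

local notation "cσ" => cb F 2

/-- Cyclically monomial elements. -/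
def Cyc (g : Cfsg.SU 3 F 2) : Prop := ∃ i : Fin 3, ∀ j, ∃ c : F, act g (ev j) = c • ev (j + i)

theorem act_ev_entry (g : Cfsg.SU 3 F 2) (i j : Fin 3) : act g (ev j) i = mat g i j := by
  rw [act, ev, Matrix.mulVec_single_one]; rfl

theorem three_add : ∀ j i : Fin 3, j + i + i + i = j := by decide

theorem cyc_cube {g : Cfsg.SU 3 F 2} (h : Cyc g) : g ^ 3 = 1 := by
  obtain ⟨i, hi⟩ := h
  choose c hc using hi
  have hne : ∀ j, c j ≠ 0 := fun j e => by
    have := act_h g (ev j) (ev j)
    rw [hc, e, zero_smul, (HS F 2 3).zero_left, ev_ev, if_pos rfl] at this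
    exact zero_ne_one this
  have hprod : ∀ j, c (j + i + i) * c (j + i) * c j = 1 := by
    intro j
    fin_cases i
    · simp only [Fin.zero_eta, add_zero]
      rw [show c j * c j * c j = c j ^ 3 by ring, cube_of_ne (hne j)]
    all_goals
      have hd := (g : Matrix.SpecialLinearGroup (Fin 3) F).2
      rw [Matrix.det_fin_three] at hd
      simp only [← act_ev_entry, hc] at hd
      fin_cases j <;> simp [ev, Pi.single_apply] at hd ⊢ <;> linear_combination hd
  have key : ∀ j, act (g ^ 3) (ev j) = ev j := fun j => by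
    rw [pow_succ, pow_succ, pow_one, act_mul, act_mul, hc, act_smul, hc, smul_smul, act_smul, hc, smul_smul,
      three_add j i]
    rw [show c j * c (j + i) * c (j + i + i) = 1 by linear_combination hprod j, one_smul]
  refine Subtype.ext (Subtype.ext (Matrix.ext fun a b => ?_))
  show mat (g ^ 3) a b = (1 : Matrix (Fin 3) (Fin 3) F) a b
  rw [← act_ev_entry, key, ev, Pi.single_apply, Matrix.one_apply]

theorem column_cases (g : Cfsg.SU 3 F 2) (j : Fin 3) :
    (∀ i, mat g i j ≠ 0) ∨ ∃ k, ∀ i, i ≠ k → mat g i j = 0 := by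
  have h := act_h g (ev j) (ev j)
  rw [ev_ev, if_pos rfl, hs_h, Fin.sum_univ_three, act_ev_entry, act_ev_entry, act_ev_entry] at h
  by_cases h0 : mat g 0 j = 0 <;> by_cases h1 : mat g 1 j = 0 <;> by_cases h2 : mat g 2 j = 0
  all_goals first
    | (left; intro i; fin_cases i <;> assumption)
    | (right; refine ⟨0, fun i hi => ?_⟩; fin_cases i <;> first | (exact absurd rfl hi) | assumption)
    | (right; refine ⟨1, fun i hi => ?_⟩; fin_cases i <;> first | (exact absurd rfl hi) | assumption)
    | (right; refine ⟨2, fun i hi => ?_⟩; fin_cases i <;> first | (exact absurd rfl hi) | assumption)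
    | (exfalso; simp [h0, h1, h2] at h; done)
    | (exfalso
       rw [norm_of_ne h0, norm_of_ne h1, h2, zero_mul, add_zero] at h
       exact one_ne_zero (α := F) (by linear_combination h))
    | (exfalso
       rw [norm_of_ne h0, norm_of_ne h2, h1, zero_mul, add_zero] at h
       exact one_ne_zero (α := F) (by linear_combination h))
    | (exfalso
       rw [norm_of_ne h1, norm_of_ne h2, h0, zero_mul, zero_add] at h
       exact one_ne_zero (α := F) (by linear_combination h))

theorem cube_cyc {g : Cfsg.SU 3 F 2} (h3 : g ^ 3 = 1) : Cyc g := by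
  classical
  have hd := (g : Matrix.SpecialLinearGroup (Fin 3) F).2
  rw [Matrix.det_fin_three] at hd
  have horth : ∀ j l, j ≠ l → ∑ i, mat g i j * cσ (mat g i l) = 0 := fun j l hjl => by
    have := act_h g (ev j) (ev l)
    rw [ev_ev, if_neg hjl, hs_h] at this
    simpa only [act_ev_entry] using this
  by_cases hfull : ∃ j, ∀ i, mat g i j ≠ 0
  · obtain ⟨j, hj⟩ := hfull
    exfalso
    have hall : ∀ l i, mat g i l ≠ 0 := fun l => by
      rcases column_cases g l with h | ⟨k, hk⟩
      · exact h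
      · rcases eq_or_ne l j with rfl | hlj
        · exact hj
        exfalso
        have := horth j l hlj.symm
        rw [Finset.sum_eq_single k (fun i _ hi => by rw [hk i hi, map_zero, mul_zero])
          (fun h => absurd (Finset.mem_univ k) h), mul_eq_zero, cb_eq_zero] at this
        have hkk : mat g k l = 0 := this.resolve_left (hj k)
        have hn := act_h g (ev l) (ev l)
        rw [ev_ev, if_pos rfl, hs_h, Finset.sum_eq_zero (fun i _ => ?_)] at hn
        · exact zero_ne_one hn
        · rcases eq_or_ne i k with rfl | hi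
          · rw [act_ev_entry, hkk, zero_mul]
          · rw [act_ev_entry, hk i hi, zero_mul]
    have hinv : mat g * mat g = (mat g).adjugate := by
      have e : g * g = g⁻¹ := eq_inv_of_mul_eq_one_left (by rw [← h3]; rw [pow_succ, pow_succ, pow_one])
      exact (congrArg mat e).trans (Matrix.SpecialLinearGroup.coe_inv _)
    have adj : ∀ i, (mat g).adjugate i i = cσ (mat g i i) := by
      intro i
      have h := act_h g⁻¹ (ev i) (act g⁻¹ (ev i))
      have h1 : act g⁻¹ (ev i) i = (mat g).adjugate i i := by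
        rw [act_ev_entry]
        exact congrFun (congrFun (Matrix.SpecialLinearGroup.coe_inv _) i) i
      rw [← h1, ← h_ev (q := 2) (act g⁻¹ (ev i)) i, ← act_h g, act_act_inv, ← act_ev_entry g i i, ev_h]
    set c0 := mat g 0 0
    set c1 := mat g 1 1
    set c2 := mat g 2 2
    have a00 := adj 0
    have a11 := adj 1
    have a22 := adj 2
    have s00 := congrFun (congrFun hinv 0) 0
    have s11 := congrFun (congrFun hinv 1) 1
    rw [adj] at s00 s11
    rw [Matrix.adjugate_fin_three] at a00 a11 a22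
    simp [Matrix.mul_apply, Fin.sum_univ_three] at s00 s11 a00 a11 a22
    have h01 : mat g 0 1 * mat g 1 0 ≠ 0 := mul_ne_zero (hall 1 0) (hall 0 1)
    have e0 : c0 * (c0 + c1 + c2) = cσ (c0 + c1 + c2) := by
      rw [map_add, map_add]
      linear_combination s00 + a22 + a11
    have e1 : c1 * (c0 + c1 + c2) = cσ (c0 + c1 + c2) := by
      rw [map_add, map_add]
      linear_combination s11 + a22 + a00
    have hc0 : c0 ≠ 0 := hall 0 0
    have hc1 : c1 ≠ 0 := hall 1 1
    have hc2 : c2 ≠ 0 := hall 2 2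
    refine h01 ?_
    by_cases ht : c0 + c1 + c2 = 0
    · have hne : c0 ≠ c1 := fun e => hc2 (by linear_combination ht + e - c0 * two_eq_zero (F := F))
      have hq : c0 * c0 + c0 * c1 + c1 * c1 = 0 := by
        have h : (c0 - c1) * (c0 * c0 + c0 * c1 + c1 * c1) = 0 := by
          linear_combination cube_of_ne hc0 - cube_of_ne hc1
        exact (mul_eq_zero.mp h).resolve_left (sub_ne_zero.mpr hne)
      have hσ : cσ c2 = c2 * c2 := by rw [cb_apply, sq]
      linear_combination -a22 - hσ + hq - (c0 + c1 + c2 - 2 * c0 - 2 * c1) * ht +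
        (c0 * c1 - c0 * c0 - c1 * c1 - 2 * c0 * c1) * two_eq_zero (F := F)
    · have h01' : c0 = c1 := mul_right_cancel₀ ht (e0.trans e1.symm)
      have hσ : cσ c2 = c2 * c2 := by rw [cb_apply, sq]
      have htc : c0 + c1 + c2 = c2 := by linear_combination c1 * two_eq_zero (F := F) + h01'
      rw [htc] at e0
      have h02 : c0 = c2 := mul_right_cancel₀ hc2 (by rw [e0, hσ])
      linear_combination -a22 - hσ + (c1 + c2) * h02 - c2 * h01'
  push Not at hfull
  have hsingle : ∀ j, ∃ k, ∀ i, i ≠ k → mat g i j = 0 := fun j => by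
    rcases column_cases g j with h | h
    · obtain ⟨i, hi⟩ := hfull j
      exact absurd hi (h i)
    · exact h
  choose π hπ using hsingle
  have hval : ∀ j, act g (ev j) = mat g (π j) j • ev (π j) := fun j => by
    funext i
    rw [act_ev_entry, Pi.smul_apply, ev, Pi.single_apply]
    split_ifs with h
    · rw [h, smul_eq_mul, mul_one]
    · rw [smul_zero, hπ j i h]
  have hne : ∀ j, mat g (π j) j ≠ 0 := fun j e => by
    have := act_h g (ev j) (ev j)
    rw [hval, e, zero_smul, (HS F 2 3).zero_left, ev_ev, if_pos rfl] at this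
    exact zero_ne_one this
  have hinj : ∀ j l, π j = π l → j = l := fun j l e => by
    by_contra hjl
    have := act_h g (ev j) (ev l)
    rw [hval, hval, (HS F 2 3).smul_left, (HS F 2 3).smul_right, e, ev_ev, if_pos rfl, mul_one, ev_ev,
      if_neg hjl, mul_eq_zero, hs_sigma, cb_eq_zero] at this
    exact this.elim (e ▸ hne j) (hne l)
  have hper : ∀ j, π (π (π j)) = j := fun j => by
    have := congrArg (fun x => act x (ev j)) h3
    simp only [pow_succ, pow_zero, one_mul, act_mul, act_one, hval, act_smul, smul_smul] at this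
    have h' := congrFun this (π (π (π j)))
    by_contra hne'
    simp [ev, hne'] at h'
    rcases h' with h' | h' | h'
    all_goals first | exact hne _ h' | exact h'.elim (hne _) (hne _)
  have hshift : ∀ p : Fin 3 → Fin 3, (∀ j l, p j = p l → j = l) → (∀ j, p (p (p j)) = j) →
      ∃ i, ∀ j, p j = j + i := by decide
  obtain ⟨i, hi⟩ := hshift π hinj hper
  exact ⟨i, fun j => ⟨_, by rw [hval, hi]⟩⟩

theorem cyc_mul {g k : Cfsg.SU 3 F 2} (hg : Cyc g) (hk : Cyc k) : Cyc (g * k) := by
  obtain ⟨i, hi⟩ := hg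
  obtain ⟨l, hl⟩ := hk
  refine ⟨l + i, fun j => ?_⟩
  obtain ⟨c, hc⟩ := hl j
  obtain ⟨c', hc'⟩ := hi (j + l)
  exact ⟨c * c', by rw [act_mul, hc, act_smul, hc', smul_smul, add_assoc]⟩

variable (F) in
/-- The subgroup of elements of order dividing three. -/
def cycSub : Subgroup (Cfsg.SU 3 F 2) where
  carrier := {g | Cyc g}
  mul_mem' := cyc_mul
  one_mem' := ⟨0, fun j => ⟨1, by rw [act_one, one_smul, add_zero]⟩⟩
  inv_mem' {g} hg := by
    have h := cyc_cube hg
    rw [Set.mem_ofPred_eq] at *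
    rw [show g⁻¹ = g * g from (eq_inv_of_mul_eq_one_left (by rw [← h, pow_succ, pow_succ, pow_one])).symm]
    exact cyc_mul hg hg

theorem mem_cycSub {g : Cfsg.SU 3 F 2} : g ∈ cycSub F ↔ g ^ 3 = 1 := ⟨cyc_cube, cube_cyc⟩

variable (F) in
/-- The cyclic permutation. -/
noncomputable def cyc3 : Cfsg.SU 3 F 2 := blk κ01 (su2 0 1 (by simp)) * blk κ12 (su2 0 1 (by simp))

theorem act_cyc3 (v : Fin 3 → F) : act (cyc3 F) v = ![v 2, v 0, v 1] := by
  rw [cyc3, act_mul]
  have h1 : ∀ w : Fin 3 → F, act (blk κ12 (su2 (q := 2) (0 : F) 1 (by simp))) w = ![w 0, w 2, w 1] := fun w => by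
    funext i
    fin_cases i
    · exact blk_apply_notMem κ12 _ w κ12_zero
    · show act _ w (κ12 0) = _
      rw [blk_apply_mem, act, mat_su2]
      simp [Matrix.mulVec, dotProduct, Fin.sum_univ_two, κ12, neg_self]
    · show act _ w (κ12 1) = _
      rw [blk_apply_mem, act, mat_su2]
      simp [Matrix.mulVec, dotProduct, Fin.sum_univ_two, κ12]
  rw [h1]
  funext i
  fin_cases i
  · show act _ _ (κ01 0) = _
    rw [blk_apply_mem, act, mat_su2]
    simp [Matrix.mulVec, dotProduct, Fin.sum_univ_two, κ01, neg_self]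
  · show act _ _ (κ01 1) = _
    rw [blk_apply_mem, act, mat_su2]
    simp [Matrix.mulVec, dotProduct, Fin.sum_univ_two, κ01]
  · exact blk_apply_notMem κ01 _ _ κ01_two

theorem cyc3_ev (j : Fin 3) : act (cyc3 F) (ev j : Fin 3 → F) = ev (j + 1) := by
  rw [act_cyc3]
  funext i
  fin_cases j <;> fin_cases i <;> simp [ev, Pi.single_apply]

theorem cyc3_pow_ev (n : ℕ) (j : Fin 3) : act (cyc3 F ^ n) (ev j : Fin 3 → F) = ev (j + (n : Fin 3)) := by
  induction n with
  | zero => rw [pow_zero, act_one, Nat.cast_zero, add_zero]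
  | succ n ih => rw [pow_succ', act_mul, ih, cyc3_ev, Nat.cast_succ, add_assoc]

theorem cycSub_le_blocks {S : Subgroup (Cfsg.SU 3 F 2)} (h01 : (blk κ01).range ≤ S) (h12 : (blk κ12).range ≤ S) :
    cycSub F ≤ S := by
  intro g hg
  obtain ⟨i, hi⟩ := hg
  choose c hc using hi
  set d := g * (cyc3 F ^ (i : ℕ))⁻¹ with hd
  have hdev : ∀ j, act d (ev j) = c (j - i) • ev j := fun j => by
    have e : act (cyc3 F ^ (i : ℕ))⁻¹ (ev j : Fin 3 → F) = ev (j - i) :=
      act_inv_eq (by rw [cyc3_pow_ev, Fin.cast_val_eq_self, sub_add_cancel])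
    rw [hd, act_mul, e, hc, sub_add_cancel]
  set a := c (-i) with ha
  set b := c (1 - i) with hb
  set e := c (2 - i) with he
  have hn : ∀ j, c (j - i) * cσ (c (j - i)) = 1 := fun j => by
    have := act_h d (ev j) (ev j)
    rwa [hdev, (HS F 2 3).smul_left, (HS F 2 3).smul_right, ev_ev, if_pos rfl, mul_one, hs_sigma] at this
  have hn0 : a * cσ a = 1 := by have := hn 0; rwa [zero_sub] at this
  have hab : (a * b) * cσ (a * b) + 0 * cσ 0 = 1 := by
    rw [map_mul, zero_mul, add_zero]
    linear_combination (b * cσ b) * hn0 + hn 1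
  have ha' : a * cσ a + 0 * cσ 0 = 1 := by rw [zero_mul, add_zero]; exact hn0
  have hdet : a * b * e = 1 := by
    have h := (d : Matrix.SpecialLinearGroup (Fin 3) F).2
    rw [Matrix.det_fin_three] at h
    simp only [← act_ev_entry, hdev] at h
    simpa [ev, ← ha, ← hb, ← he] using h
  have hmem : d ∈ S := by
    rw [show d = blk κ01 (su2 a 0 ha') * blk κ12 (su2 (a * b) 0 hab) from
      Subtype.ext (Subtype.ext (Matrix.ext fun l j => ?_))]
    · exact mul_mem (h01 ⟨_, rfl⟩) (h12 ⟨_, rfl⟩)
    show mat d l j = mat (blk κ01 (su2 a 0 ha') * blk κ12 (su2 (a * b) 0 hab)) l j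
    rw [← act_ev_entry, ← act_ev_entry, hdev, torus_decomp]
    fin_cases j <;> fin_cases l <;> simp [ev, ← ha, ← hb, ← he]
    · linear_combination -b * hn0
    · rw [← map_mul]; linear_combination cσ (a * b) * hdet - e * hab
  have hcyc : cyc3 F ∈ S := mul_mem (h01 ⟨_, rfl⟩) (h12 ⟨_, rfl⟩)
  rw [show g = d * cyc3 F ^ (i : ℕ) by rw [hd, inv_mul_cancel_right]]
  exact mul_mem hmem (pow_mem hcyc _)

/-- Characters of order three vanishing on the blocks are trivial. -/
theorem char_trivial {A : Type v} [CommGroup A] (χ : Cfsg.SU 3 F 2 →* A) (h3 : ∀ x, χ x ^ 3 = 1)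
    (h01 : (blk κ01).range ≤ χ.ker) (h12 : (blk κ12).range ≤ χ.ker) : χ = 1 := by
  classical
  haveI : Finite (Matrix.SpecialLinearGroup (Fin 3) F) := Subtype.finite
  haveI : Fact (Nat.Prime 3) := ⟨Nat.prime_three⟩
  have hP : IsPGroup 3 (cycSub F) := fun x =>
    ⟨1, Subtype.ext (by rw [pow_one, SubmonoidClass.coe_pow]; exact cyc_cube x.2)⟩
  obtain ⟨k, hk⟩ := IsPGroup.iff_card.mp hP
  have hcard : Nat.card (Cfsg.SU 3 F 2) = 216 := by
    have h := Cfsg.Lib.Classical.card_SU_mul hF.out (n := 3) (by norm_num)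
    have h648 : Cfsg.Lib.Classical.cardGUFormula 2 3 = 648 := by
      simp [Cfsg.Lib.Classical.cardGUFormula, Finset.prod_range_succ, Nat.even_iff]
    rw [h648] at h
    omega
  obtain ⟨a, ha, ha1, hσa, haa⟩ := exists_omega (F := F)
  have hpow : ∀ i : Fin 3, (a ^ (i : ℕ)) * cσ (a ^ (i : ℕ)) + 0 * cσ 0 = 1 := fun i => by
    rw [zero_mul, add_zero, map_pow, ← mul_pow, ha, one_pow]
  have ha0 : a ≠ 0 := ne_of_norm ha
  have hainj : ∀ i j : Fin 3, a ^ (i : ℕ) = a ^ (j : ℕ) → i = j := fun i j h => by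
    fin_cases i <;> fin_cases j <;> simp [pow_two] at h <;> first | rfl | exfalso
    all_goals first
      | exact ha1 h | exact ha1 h.symm | exact haa h | exact haa h.symm
      | exact ha1 (by linear_combination (cube_of_ne ha0) + a * h) | skip
    all_goals exact ha1 (by linear_combination (cube_of_ne ha0) - a * h)
  have h27 : 27 ≤ Nat.card (cycSub F) := by
    let f : Fin 3 × Fin 3 × Fin 3 → cycSub F := fun p => ⟨blk κ01 (su2 _ 0 (hpow p.1)) *
      blk κ12 (su2 _ 0 (hpow p.2.1)) * cyc3 F ^ (p.2.2 : ℕ), by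
      refine ⟨p.2.2, fun j => ⟨![a ^ (p.1 : ℕ), cσ (a ^ (p.1 : ℕ)) * a ^ (p.2.1 : ℕ), cσ (a ^ (p.2.1 : ℕ))]
        (j + p.2.2), ?_⟩⟩
      rw [act_mul, cyc3_pow_ev, Fin.cast_val_eq_self, torus_decomp]
      generalize j + p.2.2 = l
      funext r
      fin_cases l <;> fin_cases r <;> simp [ev]⟩
    have hf : Function.Injective f := by
      rintro ⟨x, y, z⟩ ⟨x', y', z'⟩ h
      have hj : ∀ j : Fin 3, _ = _ := fun j => congrArg (fun t : cycSub F => act t.1 (ev j)) h
      have td : ∀ (v : Fin 3 → F) (a b : F) (ha : a * cσ a + 0 * cσ 0 = 1) (hb : b * cσ b + 0 * cσ 0 = 1),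
          act (blk κ01 (su2 a 0 ha)) (act (blk κ12 (su2 b 0 hb)) v) = ![a * v 0, cσ a * (b * v 1), cσ b * v 2] :=
        fun v a b ha hb => (act_mul _ _ _).symm.trans (torus_decomp v a b ha hb)
      simp only [f, act_mul, cyc3_pow_ev, Fin.cast_val_eq_self, td] at hj
      have hz : z = z' := by
        have h0 := congrFun (hj 0) z
        by_contra hne
        fin_cases z <;> fin_cases z' <;> simp [ev, ha0] at h0 hne
      subst hz
      have h0 := congrFun (hj (0 - z)) 0
      have h2 := congrFun (hj (2 - z)) 2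
      simp [ev] at h0 h2
      have hy : a ^ (y : ℕ) = a ^ (y' : ℕ) := by
        have := congrArg cσ h2
        simpa [cb_cb, ← map_pow] using this
      rw [hainj x x' h0, hainj y y' hy]
    have := Nat.card_le_card_of_injective f hf
    simpa using this
  have hdvd : 3 ^ k ∣ 216 := hk ▸ hcard ▸ Subgroup.card_subgroup_dvd_card _
  have hk3 : k = 3 := by
    have hk27 : 27 ≤ 3 ^ k := hk ▸ h27
    have h1 : 3 ≤ k := by
      by_contra h
      have : 3 ^ k ≤ 3 ^ 2 := Nat.pow_le_pow_right (by norm_num) (by omega)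
      omega
    by_contra h
    have h2 : 3 ^ 4 ∣ 3 ^ k := Nat.pow_dvd_pow 3 (by omega)
    have := Nat.le_of_dvd (by norm_num) hdvd
    have h4 := h2.trans hdvd
    norm_num at h4
  have hindex : (cycSub F).index = 8 := by
    have := (cycSub F).card_mul_index
    rw [hk, hk3, hcard] at this
    omega
  have hd8 : χ.ker.index ∣ 8 := hindex ▸ Subgroup.index_dvd_of_le (cycSub_le_blocks h01 h12)
  have hR : IsPGroup 3 χ.range := fun x => ⟨1, Subtype.ext (by
    obtain ⟨y, hy⟩ := x.2
    rw [pow_one, SubmonoidClass.coe_pow, ← hy, h3]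
    rfl)⟩
  haveI : Finite χ.range := Finite.of_surjective _ χ.rangeRestrict_surjective
  obtain ⟨l, hl⟩ := IsPGroup.iff_card.mp hR
  rw [Subgroup.index_ker, hl] at hd8
  have hl0 : l = 0 := by
    by_contra h
    have := (dvd_pow_self 3 h).trans hd8
    norm_num at this
  rw [hl0, pow_zero, Subgroup.card_eq_one] at hl
  exact MonoidHom.ext fun x => (Subgroup.mem_bot.mp (hl ▸ ⟨x, rfl⟩ : χ x ∈ (⊥ : Subgroup A)))

/-- Endomorphisms fixing both blocks are trivial. -/
theorem endo_trivial (θ : Cfsg.SU 3 F 2 →* Cfsg.SU 3 F 2) (h01 : θ.comp (blk κ01) = blk κ01)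
    (h12 : θ.comp (blk κ12) = blk κ12) : θ = MonoidHom.id _ := by
  classical
  have hfix : ∀ e ∈ cycSub F, θ e = e := by
    intro e he
    refine cycSub_le_blocks (S := θ.eqLocus (MonoidHom.id _)) ?_ ?_ he
    · rintro _ ⟨y, rfl⟩; exact DFunLike.congr_fun h01 y
    · rintro _ ⟨y, rfl⟩; exact DFunLike.congr_fun h12 y
  obtain ⟨a, ha, ha1, hσa, haa⟩ := exists_omega (F := F)
  have ha' : a * cσ a + 0 * cσ 0 = 1 := by rw [zero_mul, add_zero, ha]
  -- the discrepancy is scalar
  have hscal : ∀ x, ∃ l : F, ∀ v, act (x⁻¹ * θ x) v = l • v := by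
    intro x
    set z := x⁻¹ * θ x with hz
    have hcomm : ∀ e ∈ cycSub F, z * e = e * z := by
      intro e he
      have h1 : θ (x * e * x⁻¹) = x * e * x⁻¹ := hfix _ (by
        rw [mem_cycSub, conj_pow, mem_cycSub.mp he, mul_one, mul_inv_cancel])
      rw [map_mul, map_mul, map_inv, hfix e he] at h1
      rw [hz]
      calc x⁻¹ * θ x * e = x⁻¹ * (θ x * e * (θ x)⁻¹) * θ x := by group
        _ = x⁻¹ * (x * e * x⁻¹) * θ x := by rw [h1]
        _ = e * (x⁻¹ * θ x) := by group
    have hT : blk κ01 (su2 a 0 ha') ∈ cycSub F := ⟨0, fun j => ⟨![a, cσ a, 1] j, by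
      have := torus_decomp (ev j : Fin 3 → F) a 1 ha' (by simp)
      rw [show (blk κ12 (su2 (1 : F) 0 (by simp)) : Cfsg.SU 3 F 2) = 1 by
        rw [show (su2 (1 : F) 0 (by simp) : Cfsg.SU 2 F 2) = 1 from su2_ext (by simp [mat_su2, mat])
          (by simp [mat_su2, mat]), map_one], mul_one] at this
      rw [this, add_zero]
      funext r
      fin_cases j <;> fin_cases r <;> simp [ev]⟩⟩
    have hTv : ∀ w : Fin 3 → F, act (blk κ01 (su2 a 0 ha')) w = ![a * w 0, cσ a * w 1, w 2] := fun w => by
      have := torus_decomp w a 1 ha' (by simp)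
      rw [show (blk κ12 (su2 (1 : F) 0 (by simp)) : Cfsg.SU 3 F 2) = 1 by
        rw [show (su2 (1 : F) 0 (by simp) : Cfsg.SU 2 F 2) = 1 from su2_ext (by simp [mat_su2, mat])
          (by simp [mat_su2, mat]), map_one], mul_one] at this
      simpa using this
    have hC : cyc3 F ∈ cycSub F := ⟨1, fun j => ⟨1, by rw [cyc3_ev, one_smul]⟩⟩
    have hv0 : act z (ev 0) = mat z 0 0 • ev 0 := by
      have h := congrArg (fun t => act t (ev 0)) (hcomm _ hT)
      simp only [act_mul] at h
      rw [blk01_ev0] at h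
      rw [show (![a, 0, 0] : Fin 3 → F) = a • ev 0 by funext r; fin_cases r <;> simp [ev], act_smul] at h
      rw [hTv] at h
      funext r
      rw [act_ev_entry, Pi.smul_apply, smul_eq_mul]
      fin_cases r
      · simp [ev]
      · have h1 := congrFun h 1
        simp [act_ev_entry] at h1
        simp [ev]
        rcases h1 with h1 | h1
        · exact absurd (h1.trans hσa) haa
        · exact h1
      · have h1 := congrFun h 2
        simp [act_ev_entry] at h1
        simp [ev]
        have : (a - 1) * mat z 2 0 = 0 := by linear_combination h1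
        exact (mul_eq_zero.mp this).resolve_left (sub_ne_zero.mpr ha1)
    refine ⟨mat z 0 0, fun v => ?_⟩
    have hev : ∀ j : Fin 3, act z (ev j) = mat z 0 0 • ev j := fun j => by
      have e : (ev j : Fin 3 → F) = act (cyc3 F ^ (j : ℕ)) (ev 0) := by
        rw [cyc3_pow_ev, Fin.cast_val_eq_self, zero_add]
      rw [e, ← act_mul, hcomm _ (pow_mem hC _), act_mul, hv0, act_smul]
    have hv : v = ∑ j, v j • (ev j : Fin 3 → F) := by funext r; simp [ev, Pi.single_apply]
    rw [hv]
    simp only [Fin.sum_univ_three, act_add, act_smul, hev, smul_add, smul_smul, mul_comm]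
  choose l hl using hscal
  have hne : ∀ x, l x ≠ 0 := fun x => ne_of_norm (by
    have := act_h (x⁻¹ * θ x) (ev 0) (ev 0)
    rwa [hl, (HS F 2 3).smul_left, (HS F 2 3).smul_right, ev_ev, if_pos rfl, mul_one, hs_sigma] at this)
  have hlmul : ∀ x y, l (x * y) = l x * l y := fun x y => by
    have hcen : ∀ g, g * (x⁻¹ * θ x) = x⁻¹ * θ x * g := fun g => act_ext fun v => by
      rw [act_mul g, act_mul _ g, hl, hl, act_smul]
    have e : (x * y)⁻¹ * θ (x * y) = (x⁻¹ * θ x) * (y⁻¹ * θ y) := by
      rw [map_mul, _root_.mul_inv_rev, mul_assoc, ← mul_assoc x⁻¹, ← mul_assoc y⁻¹, hcen y⁻¹, mul_assoc]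
    have h := congrArg (fun t => act t (ev 0) 0) e
    simp only [act_mul (x⁻¹ * θ x), hl] at h
    simpa [ev] using h
  let χ : Cfsg.SU 3 F 2 →* Fˣ := MonoidHom.mk' (fun x => Units.mk0 (l x) (hne x))
    fun x y => Units.ext (hlmul x y)
  have hfix1 : ∀ x, θ x = x → χ x = 1 := fun x h => by
    refine Units.ext ?_
    have h1 := hl x (ev 0)
    rw [h, inv_mul_cancel, act_one] at h1
    have := congrFun h1 0
    simp [ev] at this
    exact this.symm
  have hχ := char_trivial χ (fun x => Units.ext (by simpa [χ] using cube_of_ne (hne x)))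
    (by rintro _ ⟨y, rfl⟩; exact hfix1 _ (DFunLike.congr_fun h01 y))
    (by rintro _ ⟨y, rfl⟩; exact hfix1 _ (DFunLike.congr_fun h12 y))
  refine MonoidHom.ext fun x => ?_
  have h1 : l x = 1 := congrArg Units.val (DFunLike.congr_fun hχ x)
  refine (inv_mul_eq_one.mp (act_ext fun v => ?_)).symm
  rw [MonoidHom.id_apply, hl, h1, one_smul, act_one]

end Cfsg.Lib.Known.Phan
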