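import Cfsg.Agent.Known.Phan.TwoFrame
import Cfsg.Agent.Known.Phan.TwoRigid

/-! Two overlapping images of `SU 3` inside an image of `SU 4` over four elements. -/

set_option autoImplicit false
set_option linter.unusedSimpArgs false
set_option linter.unusedSectionVars false
set_option linter.style.haveILetI false

namespace Cfsg.Lib.Known.Phan

open Matrix

universe u v

variable {F : Type u} [Field F] [Fintype F] [hF : Fact (Fintype.card F = 2 ^ 2)] {G : Type v} [Group G]

local notation "cσ" => cb F 2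

/-- Coordinates of the left block. -/
theorem act01₂ (x : Cfsg.SU 2 F 2) (v : Fin 3 → F) :
    act (blk κ01 x) v = ![mat x 0 0 * v 0 + mat x 0 1 * v 1, mat x 1 0 * v 0 + mat x 1 1 * v 1, v 2] := by
  funext i
  fin_cases i
  · show act (blk κ01 x) v (κ01 0) = _
    rw [blk_apply_mem, act, Matrix.mulVec, dotProduct, Fin.sum_univ_two]
    rfl
  · show act (blk κ01 x) v (κ01 1) = _
    rw [blk_apply_mem, act, Matrix.mulVec, dotProduct, Fin.sum_univ_two]
    rfl
  · exact blk_apply_notMem κ01 x v κ01_two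

/-- Coordinates of the right block. -/
theorem act12₂ (x : Cfsg.SU 2 F 2) (v : Fin 3 → F) :
    act (blk κ12 x) v = ![v 0, mat x 0 0 * v 1 + mat x 0 1 * v 2, mat x 1 0 * v 1 + mat x 1 1 * v 2] := by
  funext i
  fin_cases i
  · exact blk_apply_notMem κ12 x v κ12_zero
  · show act (blk κ12 x) v (κ12 0) = _
    rw [blk_apply_mem, act, Matrix.mulVec, dotProduct, Fin.sum_univ_two]
    rfl
  · show act (blk κ12 x) v (κ12 1) = _
    rw [blk_apply_mem, act, Matrix.mulVec, dotProduct, Fin.sum_univ_two]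
    rfl

/-- Central elements of `SU 3` are scalar. -/
theorem central_scalar_two {z : Cfsg.SU 3 F 2} (hz : z ∈ Subgroup.center (Cfsg.SU 3 F 2)) :
    ∃ l : F, l * cσ l = 1 ∧ ∀ v, act z v = l • v := by
  obtain ⟨a, ha, ha1, hσa, haa⟩ := exists_omega (F := F)
  have ha' : a * cσ a + 0 * cσ 0 = 1 := by rw [zero_mul, add_zero, ha]
  have hz' := Subgroup.mem_center_iff.mp hz
  have hC : ∀ j : Fin 3, act z (ev j) = act (cyc3 F ^ (j : ℕ)) (act z (ev 0)) := fun j => by
    rw [← act_mul, hz', act_mul, cyc3_pow_ev, Fin.cast_val_eq_self, zero_add]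
  have h := congrArg (fun t => act t (ev 0)) (hz' (blk κ01 (su2 a 0 ha')))
  simp only [act_mul] at h
  rw [show act (blk κ01 (su2 a 0 ha')) (ev 0 : Fin 3 → F) = a • ev 0 by
    rw [blk01_ev0]; funext r; fin_cases r <;> simp [ev], act_smul] at h
  have h0 : act z (ev 0) = act z (ev 0) 0 • ev 0 := by
    funext r
    fin_cases r
    · simp [ev]
    · have h1 := congrFun h 1
      rw [act01₂] at h1
      simp [mat_su2] at h1
      simp [ev]
      rcases h1 with h1 | h1
      · exact absurd (h1.symm.trans hσa) haa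
      · exact h1
    · have h1 := congrFun h 2
      rw [act01₂] at h1
      simp at h1
      simp [ev]
      have : (a - 1) * act z (ev 0) 2 = 0 := by linear_combination -h1
      exact (mul_eq_zero.mp this).resolve_left (sub_ne_zero.mpr ha1)
  generalize act z (ev 0) 0 = l at h0
  have hev : ∀ j : Fin 3, act z (ev j) = l • ev j := fun j => by
    rw [hC, h0, act_smul, cyc3_pow_ev, Fin.cast_val_eq_self, zero_add]
  have hall : ∀ v, act z v = l • v := fun v => by
    have hv : v = ∑ j, v j • (ev j : Fin 3 → F) := by funext r; simp [ev, Pi.single_apply]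
    rw [hv]
    simp only [Fin.sum_univ_three, act_add, act_smul, hev, smul_add, smul_smul, mul_comm]
  exact ⟨l, scalar_norm (by norm_num) hall, hall⟩

theorem scalar_decomp {z : Cfsg.SU 3 F 2} {l : F} (hl : l * cσ l = 1) (h : ∀ v, act z v = l • v)
    (h1 : l * cσ l + 0 * cσ 0 = 1) (h2 : l * l * cσ (l * l) + 0 * cσ 0 = 1) :
    z = blk κ01 (su2 l 0 h1) * blk κ12 (su2 (l * l) 0 h2) := by
  refine act_ext fun v => ?_
  rw [h, torus_decomp]
  funext r
  have hσ : cσ l = l * l := by rw [cb_apply, sq]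
  have hl3 := cube_of_ne (ne_of_norm hl)
  fin_cases r <;> simp [hσ]
  · linear_combination -(l * v 1) * hl3
  · left; linear_combination -l * hl3

/-- Overlapping edges with commuting ends are faithful. -/
theorem edges_injective {f0 f1 : Cfsg.SU 3 F 2 →* G} {U0 U1 U2 : Subgroup G} (E0 : Edge f0 U0 U1)
    (E1 : Edge f1 U1 U2) (hag : f1.comp (blk κ01) = f0.comp (blk κ12))
    (hc : ∀ a ∈ U0, ∀ b ∈ U2, Commute a b) : Function.Injective f0 ∧ Function.Injective f1 := by
  have hw : (0 : F) * cσ 0 + 1 * cσ 1 = 1 := by simp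
  constructor <;> refine (injective_iff_map_eq_one _).mpr fun x hx => ?_
  · obtain ⟨l, hl, hall⟩ := central_scalar_two (E0.ker hx)
    have h1 : l * cσ l + 0 * cσ 0 = 1 := by rw [zero_mul, add_zero, hl]
    have h2 : l * l * cσ (l * l) + 0 * cσ 0 = 1 := by
      rw [map_mul, zero_mul, add_zero]; linear_combination (l * cσ l + 1) * hl
    rcases eq_or_ne l 1 with rfl | hne
    · exact act_ext fun v => by rw [hall, one_smul, act_one]
    exfalso
    rw [scalar_decomp hl hall h1 h2, map_mul] at hx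
    set t2 : Cfsg.SU 2 F 2 := su2 (l * l) 0 h2
    have hu : f0 (blk κ12 t2) ∈ U0 := by
      rw [eq_inv_of_mul_eq_one_right hx]
      exact inv_mem (E0.left.le ⟨_, rfl⟩)
    have hk := hc _ hu _ (E1.right.le ⟨su2 0 1 hw, rfl⟩)
    rw [show f0 (blk κ12 t2) = f1 (blk κ01 t2) from (DFunLike.congr_fun hag t2).symm] at hk
    set A := blk κ01 t2 * blk κ12 (su2 (0 : F) 1 hw)
    set B := blk κ12 (su2 (0 : F) 1 hw) * blk κ01 t2
    have hker : A⁻¹ * B ∈ f1.ker := by
      rw [MonoidHom.mem_ker, map_mul, map_inv, inv_mul_eq_one]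
      show f1 (_ * _) = f1 (_ * _)
      rw [map_mul, map_mul]
      exact hk.eq
    obtain ⟨c, -, hcs⟩ := central_scalar_two (E1.ker hker)
    have hB : ∀ v, act B v = act A (c • v) := fun v => by rw [← hcs, ← act_mul, mul_inv_cancel_left]
    have e0 := congrFun (hB (ev 0)) 0
    have e1 := congrFun (hB (ev 1)) 2
    simp [A, B, t2, act_mul, act01₂, act12₂, mat_su2, ev] at e0 e1
    have hc1 : c = 1 := mul_right_cancel₀ (ne_of_norm (show (l * l) * cσ (l * l) = 1 by simpa using h2))
      (by rw [one_mul]; linear_combination -e0)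
    have hl' : cσ (l * l) = 1 := by rw [map_mul]; linear_combination e1 + hc1
    rw [hl', mul_one] at h2
    refine hne ?_
    have hl3 := cube_of_ne (ne_of_norm hl)
    have hll : l * l = 1 := by simpa using h2
    linear_combination hl3 - l * hll
  · obtain ⟨l, hl, hall⟩ := central_scalar_two (E1.ker hx)
    have h1 : l * cσ l + 0 * cσ 0 = 1 := by rw [zero_mul, add_zero, hl]
    have h2 : l * l * cσ (l * l) + 0 * cσ 0 = 1 := by
      rw [map_mul, zero_mul, add_zero]; linear_combination (l * cσ l + 1) * hl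
    rcases eq_or_ne l 1 with rfl | hne
    · exact act_ext fun v => by rw [hall, one_smul, act_one]
    exfalso
    rw [scalar_decomp hl hall h1 h2, map_mul] at hx
    set t : Cfsg.SU 2 F 2 := su2 l 0 h1
    have hu : f1 (blk κ01 t) ∈ U2 := by
      rw [eq_inv_of_mul_eq_one_left hx]
      exact inv_mem (E1.right.le ⟨_, rfl⟩)
    have hk := hc _ (E0.left.le ⟨su2 0 1 hw, rfl⟩) _ hu
    rw [show f1 (blk κ01 t) = f0 (blk κ12 t) from DFunLike.congr_fun hag t] at hk
    set A := blk κ01 (su2 (0 : F) 1 hw) * blk κ12 t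
    set B := blk κ12 t * blk κ01 (su2 (0 : F) 1 hw)
    have hker : A⁻¹ * B ∈ f0.ker := by
      rw [MonoidHom.mem_ker, map_mul, map_inv, inv_mul_eq_one]
      show f0 (_ * _) = f0 (_ * _)
      rw [map_mul, map_mul]
      exact hk.eq
    obtain ⟨c, -, hcs⟩ := central_scalar_two (E0.ker hker)
    have hB : ∀ v, act B v = act A (c • v) := fun v => by rw [← hcs, ← act_mul, mul_inv_cancel_left]
    have e0 := congrFun (hB (ev 0)) 1
    have e2 := congrFun (hB (ev 2)) 2
    simp [A, B, t, act_mul, act01₂, act12₂, mat_su2, ev] at e0 e2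
    have hc1 : c = 1 := mul_left_cancel₀ (fun h => ne_of_norm hl (cb_eq_zero.mp h))
      (e2.symm.trans (mul_one _).symm)
    exact hne (by linear_combination e0 + hc1)

/-- A four dimensional image of `SU 3` agreeing with a block on its two blocks is that block. -/
theorem rigid (P : Fin 3 ↪ Fin 4) (j0 : Fin 4) (hj0 : j0 ∉ Set.range P) (hout : ∀ j, j ∉ Set.range P → j = j0)
    (k : Cfsg.SU 3 F 2 →* Cfsg.SU 4 F 2) (h01 : k.comp (blk κ01) = (blk P).comp (blk κ01))
    (h12 : k.comp (blk κ12) = (blk P).comp (blk κ12)) : k = blk P := by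
  classical
  obtain ⟨a, ha, ha1, hσa, haa⟩ := exists_omega (F := F)
  have h1 : a * cσ a + 0 * cσ 0 = 1 := by rw [zero_mul, add_zero, ha]
  have h2 : a * a * cσ (a * a) + 0 * cσ 0 = 1 := by
    rw [map_mul, zero_mul, add_zero]; linear_combination (a * cσ a + 1) * ha
  set z := blk κ01 (su2 a 0 h1) * blk κ12 (su2 (a * a) 0 h2) with hz
  have hzs : ∀ v, act z v = a • v := fun v => by
    rw [hz, torus_decomp]
    have hl3 := cube_of_ne (ne_of_norm ha)
    funext r
    fin_cases r <;> simp [hσa]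
    · linear_combination (a * v 1) * hl3
    · left; linear_combination a * hl3
  have hkz : k z = blk P z := by
    rw [hz, map_mul, map_mul]
    exact congrArg₂ (· * ·) (DFunLike.congr_fun h01 _) (DFunLike.congr_fun h12 _)
  have hfix : ∀ x, ∃ c : F, act (k x) (ev j0) = c • ev j0 := by
    intro x
    have hcm : k z * k x = k x * k z := by rw [← map_mul, ← map_mul, scalar_central hzs x]
    rw [hkz] at hcm
    have h := congrArg (fun t => act t (ev j0)) hcm
    simp only [act_mul, blk_fix P z hj0] at h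
    refine ⟨act (k x) (ev j0) j0, funext fun r => ?_⟩
    by_cases hr : r ∈ Set.range P
    · obtain ⟨i, rfl⟩ := hr
      have h' := congrFun h (P i)
      rw [blk_apply_mem, hzs, Pi.smul_apply, smul_eq_mul, Function.comp_apply] at h'
      have hne : (P i) ≠ j0 := fun e => hj0 ⟨i, e⟩
      simp [ev, hne]
      have : (a - 1) * act (k x) (Pi.single j0 1) (P i) = 0 := by
        show (a - 1) * act (k x) (ev j0) (P i) = 0
        linear_combination h'
      exact (mul_eq_zero.mp this).resolve_left (sub_ne_zero.mpr ha1)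
    · rw [hout r hr]; simp [ev]
  choose c hc using hfix
  have hne : ∀ x, c x ≠ 0 := fun x e => by
    have := act_h (k x) (ev j0) (ev j0)
    rw [hc, e, zero_smul, (HS F 2 4).zero_left, ev_ev, if_pos rfl] at this
    exact zero_ne_one this
  let χ : Cfsg.SU 3 F 2 →* Fˣ := MonoidHom.mk' (fun x => Units.mk0 (c x) (hne x)) fun x y => Units.ext (by
    have h := hc (x * y)
    rw [map_mul, act_mul, hc, act_smul, hc, smul_smul] at h
    have := congrFun h j0
    simp [ev] at this
    show c (x * y) = c x * c y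
    rw [← this, mul_comm])
  have hone : ∀ x, act (k x) (ev j0) = ev j0 → χ x = 1 := fun x h => Units.ext (by
    have := congrFun ((hc x).symm.trans h) j0
    simpa [χ, ev] using this)
  have hχ := char_trivial χ (fun x => Units.ext (by simpa [χ] using cube_of_ne (hne x)))
    (by
      rintro _ ⟨y, rfl⟩
      exact hone _ (by rw [show k (blk κ01 y) = blk P (blk κ01 y) from DFunLike.congr_fun h01 y, blk_fix P _ hj0]))
    (by
      rintro _ ⟨y, rfl⟩
      exact hone _ (by rw [show k (blk κ12 y) = blk P (blk κ12 y) from DFunLike.congr_fun h12 y, blk_fix P _ hj0]))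
  have hmem : ∀ x, k x ∈ (blk P).range := fun x => by
    obtain ⟨g', hg'⟩ := exists_blk P (g := k x) fun j hj => by
      rw [hout j hj, hc, show c x = 1 from congrArg Units.val (DFunLike.congr_fun hχ x), one_smul]
    exact ⟨g', hg'⟩
  let θ : Cfsg.SU 3 F 2 →* Cfsg.SU 3 F 2 :=
    (MonoidHom.ofInjective (blk_injective (F := F) (q := 2) P)).symm.toMonoidHom.comp (k.codRestrict _ hmem)
  have hθ : ∀ x, blk P (θ x) = k x := fun x =>
    MonoidHom.apply_ofInjective_symm (blk_injective (F := F) (q := 2) P) _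
  have hid := endo_trivial θ
    (MonoidHom.ext fun y => blk_injective P ((hθ _).trans (DFunLike.congr_fun h01 y)))
    (MonoidHom.ext fun y => blk_injective P ((hθ _).trans (DFunLike.congr_fun h12 y)))
  exact MonoidHom.ext fun x => by rw [← hθ x, hid, MonoidHom.id_apply]

/-- Rank one elements are generated by a torus element and the Weyl element. -/
theorem gen_su2_two {a : F} (ha : a * cσ a + 0 * cσ 0 = 1) (ha1 : a ≠ 1) (hw : (0 : F) * cσ 0 + 1 * cσ 1 = 1)
    (S : Subgroup (Cfsg.SU 2 F 2)) (hT : su2 a 0 ha ∈ S) (hW : su2 0 1 hw ∈ S) : S = ⊤ := by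
  have hmul : ∀ g k : Cfsg.SU 2 F 2, mat (g * k) = mat g * mat k := fun _ _ => rfl
  have ha' : a * cσ a = 1 := by simpa using ha
  have diag : ∀ (b : F) (hb : b * cσ b + 0 * cσ 0 = 1), su2 b 0 hb ∈ S := fun b hb => by
    rcases cube_cases ha' ha1 (show b * cσ b = 1 by simpa using hb) with rfl | rfl | rfl
    · rw [show su2 (1 : F) 0 hb = 1 from su2_ext (by simp [mat_su2, mat]) (by simp [mat_su2, mat])]
      exact one_mem _
    · exact hT
    · rw [show su2 (a * a) 0 hb = su2 a 0 ha * su2 a 0 ha from su2_ext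
        (by simp [hmul, Matrix.mul_apply, Fin.sum_univ_two, mat_su2])
        (by simp [hmul, Matrix.mul_apply, Fin.sum_univ_two, mat_su2])]
      exact mul_mem hT hT
  refine (Subgroup.eq_top_iff' S).mpr fun g => ?_
  rcases su2_cases g with ⟨hp, hm⟩ | ⟨hm, hp⟩
  · rw [show g = su2 (mat g 0 0) 0 (by rw [zero_mul, add_zero, hm]) from
      su2_ext (by simp [mat_su2]) (by simp [mat_su2, hp])]
    exact diag _ _
  · rw [show g = su2 0 1 hw * su2 (mat g 1 0) 0 (by rw [zero_mul, add_zero, hp]) from su2_ext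
        (by simp [hmul, Matrix.mul_apply, Fin.sum_univ_two, mat_su2, hm])
        (by simp [hmul, Matrix.mul_apply, Fin.sum_univ_two, mat_su2])]
    exact mul_mem hW (diag _ _)

/-- The powers of a cube root of unity. -/
def pw (a : F) (x : ZMod 3) : F := a ^ x.val

theorem pw_add {a : F} (ha : a ^ 3 = 1) (x y : ZMod 3) : pw a (x + y) = pw a x * pw a y := by
  rw [pw, pw, pw, ← pow_add, ZMod.val_add]
  exact (pow_eq_pow_mod _ ha).symm

theorem pw_injective {a : F} (ha : a * cσ a = 1) (ha1 : a ≠ 1) : Function.Injective (pw a) := by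
  have ha0 := ne_of_norm ha
  have h2 : a * a ≠ 1 := fun h => ha1 (by linear_combination cube_of_ne ha0 - a * h)
  have h3 : a ≠ a * a := fun h => ha1 (mul_left_cancel₀ ha0 (by rw [mul_one]; exact h.symm))
  have key : ∀ n m : ℕ, n < 3 → m < 3 → a ^ n = a ^ m → n = m := by
    intro n m hn hm h
    interval_cases n <;> interval_cases m <;> first
      | rfl
      | (exfalso; simp [pow_two] at h; first
          | exact ha1 h | exact ha1 h.symm | exact h2 h | exact h2 h.symm | exact h3 h | exact h3 h.symm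
          | exact h3 (by linear_combination h) | exact h3 (by linear_combination -h))
  exact fun x y h => ZMod.val_injective 3 (key _ _ (ZMod.val_lt x) (ZMod.val_lt y) h)

theorem pw_neg {a : F} (ha : a * cσ a = 1) (x : ZMod 3) : pw a (-x) = cσ (pw a x) := by
  have h : pw a x * pw a (-x) = 1 := by
    rw [← pw_add ((norm_cube a).symm.trans ha), add_neg_cancel, pw, ZMod.val_zero, pow_zero]
  have hn : pw a x * cσ (pw a x) = 1 := norm_of_ne (pow_ne_zero _ (ne_of_norm ha))
  exact mul_left_cancel₀ (left_ne_zero_of_mul_eq_one h) (h.trans hn.symm)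

/-- The transposition of two neighbours. -/
def swapAt : Fin 3 → Equiv.Perm (Fin 4) := ![Equiv.swap 0 1, Equiv.swap 1 2, Equiv.swap 2 3]

theorem swap_fix : ∀ (i : Fin 3) (j : Fin 4), (j : ℕ) ≠ i → (j : ℕ) ≠ i + 1 → swapAt i j = j := by decide

theorem swap_move : ∀ (i : Fin 3) (k : Fin 4), (k : ℕ) = i → swapAt i k ≠ k := by decide

/-- Scaling a triple. -/
def scl (e : ZMod 3) (x : Tri) : Tri := (e * x.1, e * x.2.1, e * x.2.2)

/-- The coordinates of a triple. -/
def nth (x : Tri) : Fin 3 → ZMod 3 := ![x.1, x.2.1, x.2.2]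

set_option maxRecDepth 2000 in
theorem refl_std : ∀ (i : Fin 3) (e : ZMod 3) (j : Fin 4),
    refl3 i (scl e (stdCol j)) = scl e (stdCol (swapAt i j)) := by decide

theorem nth_std : ∀ (e : ZMod 3) (i : Fin 3) (j : Fin 4), nth (scl e (stdCol j)) i =
    if (j : ℕ) = i then e else if (j : ℕ) = i + 1 then -e else 0 := by decide

theorem nth_ext {x y : Tri} (h : ∀ i, nth x i = nth y i) : x = y :=
  Prod.ext (h 0) (Prod.ext (h 1) (h 2))

theorem scl_injective {e : ZMod 3} (he : e = 1 ∨ e = -1) {x y : Tri} (h : scl e x = scl e y) : x = y := by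
  rcases he with rfl | rfl <;> simp [scl, Prod.ext_iff] at h <;> exact Prod.ext h.1 (Prod.ext h.2.1 h.2.2)

/-- Two faithful overlapping images of `SU 3` in `SU 4` come from an automorphism. -/
theorem four_two (h0 h1 : Cfsg.SU 3 F 2 →* Cfsg.SU 4 F 2) (hi0 : Function.Injective h0)
    (hag : h1.comp (blk κ01) = h0.comp (blk κ12))
    (hc : ∀ x y, Commute (h0 (blk κ01 x)) (h1 (blk κ12 y))) :
    ∃ Ψ : Cfsg.SU 4 F 2 →* Cfsg.SU 4 F 2, Ψ.comp (blk (win 3 0 (by omega))) = h0 ∧
      Ψ.comp (blk (win 3 1 (by omega))) = h1 := by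
  classical
  obtain ⟨a, ha, ha1, hσa, haa⟩ := exists_omega (F := F)
  have ha3 : a ^ 3 = 1 := (norm_cube a).symm.trans ha
  have hT : a * cσ a + 0 * cσ 0 = 1 := by rw [zero_mul, add_zero, ha]
  have hw : (0 : F) * cσ 0 + 1 * cσ 1 = 1 := by simp
  set T : Cfsg.SU 2 F 2 := su2 a 0 hT with hTdef
  set W : Cfsg.SU 2 F 2 := su2 0 1 hw with hWdef
  -- relations in three dimensions
  have r1 : blk κ01 T * blk κ12 T = blk κ12 T * (blk κ01 T : Cfsg.SU 3 F 2) := act_ext fun v => by
    simp only [act_mul, act01₂, act12₂, hTdef, mat_su2]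
    funext r; fin_cases r <;> simp <;> ring
  have r2 : blk κ01 W * (blk κ01 T * blk κ01 W) * blk κ01 T = (1 : Cfsg.SU 3 F 2) := act_ext fun v => by
    simp only [act_mul, act01₂, hTdef, hWdef, mat_su2, act_one]
    funext r; fin_cases r <;> simp [neg_self]
    · linear_combination (v 0) * ha
    · linear_combination (v 1) * ha
  have r3 : blk κ12 W * (blk κ12 T * blk κ12 W) * blk κ12 T = (1 : Cfsg.SU 3 F 2) := act_ext fun v => by
    simp only [act_mul, act12₂, hTdef, hWdef, mat_su2, act_one]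
    funext r; fin_cases r <;> simp [neg_self]
    · linear_combination (v 1) * ha
    · linear_combination (v 2) * ha
  have r4 : blk κ01 W * (blk κ12 T * blk κ01 W) = (blk κ01 T * blk κ12 T : Cfsg.SU 3 F 2) := act_ext fun v => by
    simp only [act_mul, act01₂, act12₂, hTdef, hWdef, mat_su2]
    funext r; fin_cases r <;> simp [neg_self]
    linear_combination -(v 1) * ha
  have r5 : blk κ12 W * (blk κ01 T * blk κ12 W) = (blk κ01 T * blk κ12 T : Cfsg.SU 3 F 2) := act_ext fun v => by
    simp only [act_mul, act01₂, act12₂, hTdef, hWdef, mat_su2]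
    funext r; fin_cases r <;> simp [neg_self]
    linear_combination -(v 1) * ha
  have hmul : ∀ g k : Cfsg.SU 2 F 2, mat (g * k) = mat g * mat k := fun _ _ => rfl
  have r6 : T * (T * T) = (1 : Cfsg.SU 2 F 2) := su2_ext
    (by simp [hTdef, hmul, Matrix.mul_apply, Fin.sum_univ_two, mat_su2, mat]; linear_combination ha3)
    (by simp [hTdef, hmul, Matrix.mul_apply, Fin.sum_univ_two, mat_su2, mat])
  have r7 : W * W = (1 : Cfsg.SU 2 F 2) := su2_ext
    (by simp [hWdef, hmul, Matrix.mul_apply, Fin.sum_univ_two, mat_su2, mat, neg_self])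
    (by simp [hWdef, hmul, Matrix.mul_apply, Fin.sum_univ_two, mat_su2, mat])
  let ψ : Fin 3 → (Cfsg.SU 2 F 2 →* Cfsg.SU 4 F 2) :=
    ![h0.comp (blk κ01), h0.comp (blk κ12), h1.comp (blk κ12)]
  have hψ1 : ∀ x, h1 (blk κ01 x) = ψ 1 x := fun x => DFunLike.congr_fun hag x
  let ts : Fin 3 → Cfsg.SU 4 F 2 := fun i => ψ i T
  let ws : Fin 3 → Cfsg.SU 4 F 2 := fun i => ψ i W
  have hw2 : ∀ i, ws i * ws i = 1 := fun i => by rw [← map_mul, r7, map_one]
  have hcomm : ∀ i j, Commute (ts i) (ts j) := by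
    have c01 : Commute (ts 0) (ts 1) := by
      show h0 _ * h0 _ = h0 _ * h0 _
      rw [← map_mul, ← map_mul, r1]
    have c12 : Commute (ts 1) (ts 2) := by
      show ψ 1 T * h1 _ = h1 _ * ψ 1 T
      rw [← hψ1, ← map_mul, ← map_mul, r1]
    have c02 : Commute (ts 0) (ts 2) := hc T T
    intro i j
    fin_cases i <;> fin_cases j <;> first
      | exact Commute.refl _ | exact c01 | exact c01.symm | exact c12 | exact c12.symm | exact c02 | exact c02.symm
  obtain ⟨p, hp, hpe⟩ := joint_frame ts (fun i => by rw [← map_mul, ← map_mul, r6, map_one]) hcomm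
  have hexp : ∀ j i, ∃ δ : ZMod 3, act (ts i) (p j) = pw a δ • p j := fun j i => by
    obtain ⟨l, hl⟩ := hpe j i
    have hn := act_h (ts i) (p j) (p j)
    rw [hl, (HS F 2 4).smul_left, (HS F 2 4).smul_right, hp, if_pos rfl, mul_one, hs_sigma] at hn
    rcases cube_cases ha ha1 hn with h | h | h
    · exact ⟨0, by rw [hl, h, pw, ZMod.val_zero, pow_zero]⟩
    · exact ⟨1, by rw [hl, h, pw, show (1 : ZMod 3).val = 1 from rfl, pow_one]⟩
    · exact ⟨2, by rw [hl, h, pw, show (2 : ZMod 3).val = 2 from rfl, sq]⟩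
  choose δ hδ using hexp
  let col : Fin 4 → Tri := fun j => (δ j 0, δ j 1, δ j 2)
  have hcol : ∀ j i, nth (col j) i = δ j i := fun j i => by fin_cases i <;> rfl
  have trefl : ∀ (i k : Fin 3) (x : Fin 4 → F) (χ : Tri), (∀ m, act (ts m) x = pw a (nth χ m) • x) →
      act (ts k) (act (ws i) x) = pw a (nth (refl3 i χ) k) • act (ws i) x := by
    intro i k x χ hχ
    have conv : ∀ t' : Cfsg.SU 4 F 2, ws i * (ts k * ws i) = t' → act (ts k) (act (ws i) x) =
        act (ws i) (act t' x) := fun t' h => by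
      rw [← h, ← act_mul, ← act_mul, ← mul_assoc, hw2, one_mul]
    have step_one : ∀ m, ws i * (ts k * ws i) = ts m → nth (refl3 i χ) k = nth χ m →
        act (ts k) (act (ws i) x) = pw a (nth (refl3 i χ) k) • act (ws i) x := fun m h e => by
      rw [conv _ h, hχ, act_smul, e]
    have step_two : ∀ m m', ws i * (ts k * ws i) = ts m * ts m' → nth (refl3 i χ) k = nth χ m + nth χ m' →
        act (ts k) (act (ws i) x) = pw a (nth (refl3 i χ) k) • act (ws i) x := fun m m' h e => by
      rw [conv _ h, act_mul, hχ, act_smul, hχ, smul_smul, act_smul, e, pw_add ha3, mul_comm]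
    have step_neg : ws i * (ts k * ws i) * ts k = 1 → nth (refl3 i χ) k = -nth χ k →
        act (ts k) (act (ws i) x) = pw a (nth (refl3 i χ) k) • act (ws i) x := fun h e => by
      rw [conv _ (mul_eq_one_iff_eq_inv.mp h), e]
      have hinv : act (ts k)⁻¹ x = pw a (-nth χ k) • x := act_inv_eq (by
        rw [act_smul, hχ, smul_smul, ← pw_add ha3, neg_add_cancel, pw, ZMod.val_zero, pow_zero, one_smul])
      rw [hinv, act_smul]
    have fixd : Commute (ws i) (ts k) → ws i * (ts k * ws i) = ts k := fun h => by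
      rw [← h.eq, ← mul_assoc, hw2, one_mul]
    fin_cases i <;> fin_cases k
    · exact step_neg (by show h0 _ * (h0 _ * h0 _) * h0 _ = 1; rw [← map_mul, ← map_mul, ← map_mul, r2, map_one]) rfl
    · exact step_two 0 1 (by show h0 _ * (h0 _ * h0 _) = h0 _ * h0 _; rw [← map_mul, ← map_mul, r4, map_mul]) rfl
    · exact step_one 2 (fixd (hc W T)) rfl
    · exact step_two 0 1 (by show h0 _ * (h0 _ * h0 _) = h0 _ * h0 _; rw [← map_mul, ← map_mul, r5, map_mul]) rfl
    · exact step_neg (by show h0 _ * (h0 _ * h0 _) * h0 _ = 1; rw [← map_mul, ← map_mul, ← map_mul, r3, map_one]) rfl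
    · exact step_two 1 2 (by
        show ψ 1 W * (h1 _ * ψ 1 W) = ψ 1 T * h1 _
        rw [← hψ1, ← hψ1, ← map_mul, ← map_mul, r4, map_mul]) rfl
    · exact step_one 0 (fixd (hc T W).symm) rfl
    · exact step_two 1 2 (by
        show h1 _ * (ψ 1 T * h1 _) = ψ 1 T * h1 _
        rw [← hψ1, ← map_mul, ← map_mul, r5, map_mul]) rfl
    · exact step_neg (by show h1 _ * (h1 _ * h1 _) * h1 _ = 1; rw [← map_mul, ← map_mul, ← map_mul, r3, map_one]) rfl
  set dP := (Matrix.of fun i j => p j i).det with hdP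
  have hdPn : dP * cσ dP = 1 := frame_det_norm p hp
  have coef : ∀ v : Fin 4 → F, (∀ k, (HS F 2 4).h v (p k) = 0) → v = 0 := by
    intro v hv
    refine funext fun r => ?_
    set P : Matrix (Fin 4) (Fin 4) F := Matrix.of fun i j => p j i with hP
    have h1 : (P.transpose.map cσ) *ᵥ v = 0 := by
      funext k
      have := hv k
      rw [hs_h] at this
      rw [Pi.zero_apply, ← this, Matrix.mulVec, dotProduct]
      exact Finset.sum_congr rfl fun l _ => by simp [hP, mul_comm]
    have hdet : (P.transpose.map cσ).det ≠ 0 := by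
      rw [show P.transpose.map cσ = (cb F 2).mapMatrix P.transpose from rfl, ← RingHom.map_det,
        Matrix.det_transpose]
      exact fun h => ne_of_norm hdPn (cb_eq_zero.mp h)
    exact congrFun (Matrix.eq_zero_of_mulVec_eq_zero hdet h1) r
  have sameval : ∀ (i : Fin 3) (x : Fin 4 → F) (k : Fin 4) (e : ZMod 3), act (ts i) x = pw a e • x →
      (HS F 2 4).h x (p k) ≠ 0 → δ k i = e := by
    intro i x k e hx hne
    have h := act_h (ts i) x (p k)
    rw [hx, hδ, (HS F 2 4).smul_left, (HS F 2 4).smul_right, hs_sigma, ← mul_assoc] at h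
    have h1 : pw a e * cσ (pw a (δ k i)) = 1 := mul_right_cancel₀ hne (by rw [one_mul]; exact h)
    refine (pw_injective ha ha1 ?_).symm
    have hn : pw a (δ k i) * cσ (pw a (δ k i)) = 1 := norm_of_ne (pow_ne_zero _ (ne_of_norm ha))
    exact mul_right_cancel₀ (right_ne_zero_of_mul_eq_one hn) (h1.trans hn.symm)
  have hclosed : ∀ i j, ∃ k, col k = refl3 i (col j) := by
    intro i j
    set x := act (ws i) (p j) with hx
    have hx0 : x ≠ 0 := fun h => by
      have := act_h (ws i) (p j) (p j)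
      rw [← hx, h, (HS F 2 4).zero_left, hp, if_pos rfl] at this
      exact zero_ne_one this
    obtain ⟨k, hk⟩ : ∃ k, (HS F 2 4).h x (p k) ≠ 0 := by
      by_contra h
      push Not at h
      exact hx0 (coef x h)
    refine ⟨k, nth_ext fun m => ?_⟩
    rw [hcol]
    exact sameval m x k _ (trefl i m (p j) (col j) fun m' => by rw [hcol]; exact hδ j m') hk
  have hne0 : ∃ j, col j ≠ 0 := by
    by_contra h
    push Not at h
    have hfix : ∀ j, act (ts 0) (p j) = p j := fun j => by
      rw [hδ, show δ j 0 = 0 from congrArg Prod.fst (h j), pw, ZMod.val_zero, pow_zero, one_smul]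
    have h1 : ts 0 = 1 := act_ext fun v => by
      rw [act_one]
      refine sub_eq_zero.mp (coef _ fun k => ?_)
      rw [(HS F 2 4).sub_left, sub_eq_zero]
      conv_lhs => rw [← hfix k]
      exact act_h _ _ _
    have h2 : (blk κ01 T : Cfsg.SU 3 F 2) = 1 := hi0 (h1.trans (map_one h0).symm)
    have := congrArg (fun t => act t (ev 0) 0) h2
    simp [act01₂, hTdef, mat_su2, act_one, ev] at this
    exact ha1 this
  obtain ⟨π, e, he, hπ⟩ := columns_standard col hclosed hne0
  have hπ' : ∀ k, col (π k) = scl e (stdCol k) := hπ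
  set dπ := (Matrix.of fun i j => p (π j) i).det with hdπ
  have hdπn : dπ * cσ dπ = 1 := frame_det_norm (fun j => p (π j)) (fun i j => by
    rw [hp]; simp [π.injective.eq_iff])
  let sc : Fin 4 → F := ![cσ dπ, 1, 1, 1]
  have hscn : ∀ i, sc i * cσ (sc i) = 1 := fun i => by
    fin_cases i
    · simp [sc, cb_cb, mul_comm, hdπn]
    · simp [sc]
    · simp [sc]
    · simp [sc]
  obtain ⟨y, hy⟩ := mk_frame (q := 2) (fun k => sc k • p (π k)) (fun i j => by
      rw [(HS F 2 4).smul_left, (HS F 2 4).smul_right, hs_sigma, hp]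
      rcases eq_or_ne i j with rfl | hne
      · rw [if_pos rfl, if_pos rfl, mul_one, hscn]
      · rw [if_neg (fun h => hne (π.injective h)), if_neg hne, mul_zero, mul_zero]) (by
      have e1 : (Matrix.of fun i j => (sc j • p (π j)) i) = (Matrix.of fun i j => p (π j) i) * Matrix.diagonal sc := by
        ext i j
        simp [Matrix.mul_diagonal, mul_comm]
      rw [e1, Matrix.det_mul, Matrix.det_diagonal, ← hdπ]
      simp [sc, Fin.prod_univ_four, hdπn])
  have hty : ∀ i k, act (ts i) (act y (ev k)) = pw a (nth (scl e (stdCol k)) i) • act y (ev k) := fun i k => by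
    rw [hy, act_smul, hδ, ← hcol, hπ', smul_comm]
  set ω : Fin 3 → (Fin 2 ↪ Fin 4) :=
    fun i => win 2 (i : ℕ) (by omega) with hω
  have hω0 : ∀ i, (ω i 0 : ℕ) = i := fun i => rfl
  have hω1 : ∀ i, (ω i 1 : ℕ) = i + 1 := fun i => rfl
  have hωout : ∀ i (j : Fin 4), j ∉ Set.range (ω i) ↔ ((j : ℕ) ≠ i ∧ (j : ℕ) ≠ i + 1) := by
    intro i j
    constructor
    · intro h
      exact ⟨fun e => h ⟨0, Fin.ext (by rw [hω0, e])⟩, fun e => h ⟨1, Fin.ext (by rw [hω1, e])⟩⟩
    · rintro ⟨h1, h2⟩ ⟨l, hl⟩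
      fin_cases l
      · exact h1 (by rw [← hl]; exact hω0 i)
      · exact h2 (by rw [← hl]; exact hω1 i)
  let τ : F ≃+* F := if e = 1 then RingEquiv.refl F else RingEquiv.ofBijective (cb F 2)
    (Finite.injective_iff_bijective.mp (cb F 2).injective)
  have hτa : τ a = pw a e := by
    rcases he with rfl | rfl
    · simp only [τ, if_pos rfl]
      rw [pw, show (1 : ZMod 3).val = 1 from rfl, pow_one]; rfl
    · simp only [τ]
      rw [if_neg (by decide)]
      show cσ a = pw a (-1)
      rw [pw_neg ha, pw, show (1 : ZMod 3).val = 1 from rfl, pow_one]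
  have hTτ : τ a * cσ (τ a) + 0 * cσ 0 = 1 := by rw [zero_mul, add_zero, ← ringAut_cb, ← map_mul, ha, map_one]
  -- torus elements in the frame
  have htform : ∀ i, y⁻¹ * ts i * y = blk (ω i) (su2 (τ a) 0 hTτ) := by
    intro i
    have key : ∀ k, act (y⁻¹ * ts i * y) (ev k) = act (blk (ω i) (su2 (τ a) 0 hTτ)) (ev k) := by
      intro k
      rw [act_mul, act_mul, hty, act_smul, act_inv_act, nth_std]
      by_cases h1 : (k : ℕ) = i
      · rw [if_pos h1, show k = ω i 0 from Fin.ext (h1.trans (hω0 i).symm), blk_ev, act_su2_zero, hτa,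
          show (![pw a e, 0] : Fin 2 → F) = pw a e • ev 0 by funext r; fin_cases r <;> simp [ev],
          ← pad_ev]
        funext l
        by_cases hl : l ∈ Set.range (ω i)
        · obtain ⟨r, rfl⟩ := hl; simp [pad_mem]
        · simp [pad_notMem _ _ hl]
      rw [if_neg h1]
      by_cases h2 : (k : ℕ) = i + 1
      · rw [if_pos h2, show k = ω i 1 from Fin.ext (h2.trans (hω1 i).symm), blk_ev, act_su2_one, hτa,
          pw_neg ha, map_zero, neg_zero,
          show (![0, cσ (pw a e)] : Fin 2 → F) = cσ (pw a e) • ev 1 by funext r; fin_cases r <;> simp [ev],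
          ← pad_ev]
        funext l
        by_cases hl : l ∈ Set.range (ω i)
        · obtain ⟨r, rfl⟩ := hl; simp [pad_mem]
        · simp [pad_notMem _ _ hl]
      rw [if_neg h2, pw, ZMod.val_zero, pow_zero, one_smul, blk_fix _ _ ((hωout i k).mpr ⟨h1, h2⟩)]
    refine Subtype.ext (Subtype.ext (Matrix.ext fun r k => ?_))
    have h1 := congrFun (key k) r
    rw [act, act, ev, Matrix.mulVec_single_one, Matrix.mulVec_single_one] at h1
    exact h1
  -- Weyl elements in the frame
  have hwform : ∀ i, ∃ (c : F) (hcn : (0 : F) * cσ 0 + c * cσ c = 1), c * cσ c = 1 ∧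
      y⁻¹ * ws i * y = blk (ω i) (su2 0 c hcn) := by
    intro i
    set s := y⁻¹ * ws i * y with hs
    have hzero : ∀ j l, l ≠ swapAt i j → act s (ev j) l = 0 := by
      intro j l hl
      by_contra hne
      refine hl (stdCol_injective (scl_injective he (nth_ext fun m => pw_injective ha ha1 ?_)))
      rw [← refl_std]
      have h := congrFun (congrArg (act y⁻¹) (trefl i m (act y (ev j)) (scl e (stdCol j)) fun m' => hty m' j)) l
      rw [act_smul, Pi.smul_apply, smul_eq_mul] at h
      have h' : act y⁻¹ (act (ts m) (act (ws i) (act y (ev j)))) = act (y⁻¹ * ts m * y) (act s (ev j)) := by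
        simp only [hs, act_mul, act_act_inv]
      rw [h', show act y⁻¹ (act (ws i) (act y (ev j))) l = act s (ev j) l by simp only [hs, act_mul]] at h
      have hdiag : act (y⁻¹ * ts m * y) (act s (ev j)) l = pw a (nth (scl e (stdCol l)) m) * act s (ev j) l := by
        generalize act s (ev j) = v
        have hv : v = ∑ r, v r • (ev r : Fin 4 → F) := by funext r; simp [ev, Pi.single_apply]
        conv_lhs => rw [hv]
        simp only [Fin.sum_univ_four, act_add, act_smul, act_mul, hty, act_inv_act]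
        fin_cases l <;> simp [ev, mul_comm]
      rw [hdiag] at h
      exact mul_right_cancel₀ hne h
    have hss : s * s = 1 := by
      rw [hs, show y⁻¹ * ws i * y * (y⁻¹ * ws i * y) = y⁻¹ * (ws i * ws i) * y by group, hw2, mul_one,
        inv_mul_cancel]
    obtain ⟨r, hr⟩ := exists_blk (ω i) (g := s) fun j hj => by
      obtain ⟨hj1, hj2⟩ := (hωout i j).mp hj
      have hsw : swapAt i j = j := swap_fix i j hj1 hj2
      have hd : act s (ev j) = act s (ev j) j • ev j := funext fun l => by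
        rcases eq_or_ne l j with rfl | hl
        · simp [ev]
        · rw [hzero j l (hsw.symm ▸ hl)]; simp [ev, hl]
      have h2 : act s (ev j) j * act s (ev j) j = 1 := by
        have := congrFun (congrArg (fun t => act t (ev j)) hss) j
        rw [act_mul, act_one, hd, act_smul, hd] at this
        simpa [ev] using this
      have h3 : act s (ev j) j = 1 := by
        have : (act s (ev j) j - 1) * (act s (ev j) j - 1) = 0 := by
          linear_combination h2 + (1 - act s (ev j) j) * two_eq_zero (F := F)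
        exact sub_eq_zero.mp (mul_self_eq_zero.mp this)
      rw [hd, h3, one_smul]
    have h00 : mat r 0 0 = 0 := by
      have hsw : swapAt i (ω i 0) ≠ ω i 0 := swap_move i _ (hω0 i)
      have h1 := hzero (ω i 0) (ω i 0) hsw.symm
      rw [← hr, blk_ev, pad_mem, act, ev, Matrix.mulVec_single_one] at h1
      exact h1
    have hn := su2_norm r
    rw [h00, zero_mul, zero_add] at hn
    exact ⟨mat r 1 0, by rw [zero_mul, zero_add, hn], hn, by
      rw [← hr]
      exact congrArg _ (su2_ext (by simp [mat_su2, h00]) (by simp [mat_su2]))⟩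
  choose c hcn hc1 hcw using hwform
  set d : Fin 4 → F := ![1, c 0, c 0 * c 1, c 0 * c 1 * c 2] with hd
  have hdn : ∀ i, d i * cσ (d i) = 1 := fun i => norm_of_ne (by
    have := ne_of_norm (hc1 0)
    have := ne_of_norm (hc1 1)
    have := ne_of_norm (hc1 2)
    fin_cases i <;> simp [hd, *])
  have hdc : ∀ i, d (ω i 1) * cσ (d (ω i 0)) = c i := by
    intro i
    fin_cases i
    · show c 0 * cσ 1 = c 0
      rw [map_one, mul_one]
    · show c 0 * c 1 * cσ (c 0) = c 1
      linear_combination c 1 * hc1 0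
    · show c 0 * c 1 * c 2 * cσ (c 0 * c 1) = c 2
      rw [map_mul]
      linear_combination (c 1 * cσ (c 1) * c 2) * hc1 0 + c 2 * hc1 1
  set Ψ := (MulAut.conj y).toMonoidHom.comp (dfield d hdn τ) with hΨ
  have hblk : ∀ i x, Ψ (blk (ω i) x) = ψ i x := by
    intro i
    have hS := gen_su2_two hT ha1 hw ((Ψ.comp (blk (ω i))).eqLocus (ψ i)) ?_ ?_
    · exact fun x => hS.ge (Subgroup.mem_top x)
    · show y * dfield d hdn τ (blk (ω i) T) * y⁻¹ = ts i
      rw [dfield_blk]
      obtain ⟨q0, q1⟩ := dfield_su2 (d ∘ ω i) (fun l => hdn (ω i l)) τ T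
      rw [show dfield (d ∘ ω i) (fun l => hdn (ω i l)) τ T = su2 (τ a) 0 hTτ from su2_ext
        (q0.trans (by simp [hTdef, mat_su2])) (q1.trans (by simp [hTdef, mat_su2])), ← htform]
      group
    · show y * dfield d hdn τ (blk (ω i) W) * y⁻¹ = ws i
      rw [dfield_blk]
      obtain ⟨q0, q1⟩ := dfield_su2 (d ∘ ω i) (fun l => hdn (ω i l)) τ W
      rw [show dfield (d ∘ ω i) (fun l => hdn (ω i l)) τ W = su2 0 (c i) (hcn i) from su2_ext
        (q0.trans (by simp [hWdef, mat_su2])) (q1.trans (by simp [hWdef, mat_su2, hdc])), ← hcw]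
      group
  have hbij : Function.Bijective Ψ := (MulAut.conj y).bijective.comp (dfield_bijective d hdn τ)
  let Θ := MulEquiv.ofBijective Ψ hbij
  have hrig : ∀ (P : Fin 3 ↪ Fin 4) (j0 : Fin 4) (h : Cfsg.SU 3 F 2 →* Cfsg.SU 4 F 2) (i i' : Fin 3),
      j0 ∉ Set.range P → (∀ j, j ∉ Set.range P → j = j0) → (∀ x, h (blk κ01 x) = ψ i x) →
      (∀ x, h (blk κ12 x) = ψ i' x) → (∀ x, blk P (blk κ01 x) = blk (ω i) (x : Cfsg.SU 2 F 2)) →
      (∀ x, blk P (blk κ12 x) = blk (ω i') (x : Cfsg.SU 2 F 2)) → Ψ.comp (blk P) = h := by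
    intro P j0 h i i' hj hout e1 e2 b1 b2
    have := rigid P j0 hj hout (Θ.symm.toMonoidHom.comp h)
      (MonoidHom.ext fun x => Θ.injective (by
        show Θ (Θ.symm (h (blk κ01 x))) = Ψ (blk P (blk κ01 x))
        rw [Θ.apply_symm_apply, b1, hblk, e1]))
      (MonoidHom.ext fun x => Θ.injective (by
        show Θ (Θ.symm (h (blk κ12 x))) = Ψ (blk P (blk κ12 x))
        rw [Θ.apply_symm_apply, b2, hblk, e2]))
    refine MonoidHom.ext fun x => ?_
    rw [← this]
    exact Θ.apply_symm_apply (h x)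
  refine ⟨Ψ, hrig _ 3 h0 0 1 ?_ ?_ (fun x => rfl) (fun x => rfl) ?_ ?_,
    hrig _ 0 h1 1 2 ?_ ?_ hψ1 (fun x => rfl) ?_ ?_⟩
  · rintro ⟨l, hl⟩
    have h : (0 : ℕ) + (l : ℕ) = 3 := congrArg Fin.val hl
    omega
  · intro j hj
    by_contra hne
    exact hj ⟨⟨j, by omega⟩, Fin.ext (show 0 + (j : ℕ) = j from Nat.zero_add _)⟩
  · intro x; rw [blk_blk, κ01_eq_win, win_trans]; rfl
  · intro x; rw [blk_blk, κ12_eq_win, win_trans]; rfl
  · rintro ⟨l, hl⟩
    have h : 1 + (l : ℕ) = 0 := congrArg Fin.val hl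
    omega
  · intro j hj
    by_contra hne
    have h0' : (j : ℕ) ≠ 0 := fun h => hne (Fin.ext h)
    exact hj ⟨⟨(j : ℕ) - 1, by omega⟩, Fin.ext (show 1 + ((j : ℕ) - 1) = j by omega)⟩
  · intro x; rw [blk_blk, κ01_eq_win, win_trans]; rfl
  · intro x; rw [blk_blk, κ12_eq_win, win_trans]; rfl

/-- Two overlapping edges inside an image of `SU 4`. -/
theorem base_two {f0 f1 : Cfsg.SU 3 F 2 →* G} {U0 U1 U2 : Subgroup G} (E0 : Edge f0 U0 U1)
    (E1 : Edge f1 U1 U2) (hag : f1.comp (blk κ01) = f0.comp (blk κ12))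
    (hc : ∀ a ∈ U0, ∀ b ∈ U2, Commute a b) (g : Cfsg.SU 4 F 2 →* G) (hr0 : f0.range ≤ g.range)
    (hr1 : f1.range ≤ g.range) :
    ∃ Φ : Cfsg.SU 4 F 2 →* G, Φ.comp (blk (win 3 0 (by omega))) = f0 ∧
      Φ.comp (blk (win 3 1 (by omega))) = f1 := by
  classical
  obtain ⟨hi0, hi1⟩ := edges_injective E0 E1 hag hc
  have hg : Function.Injective g := by
    rcases normal_scalar le_rfl g.ker with htop | hsc
    · exfalso
      have h1 : ∀ x, f0 x = 1 := fun x => by
        obtain ⟨s, hs⟩ := hr0 ⟨x, rfl⟩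
        rw [← hs]
        exact MonoidHom.mem_ker.mp (htop ▸ Subgroup.mem_top s)
      have h2 := hi0 ((h1 (cyc3 F)).trans (map_one f0).symm)
      have := congrArg (fun t => act t (ev 0) 0) h2
      simp [act_cyc3, act_one, ev] at this
    · refine (injective_iff_map_eq_one _).mpr fun k hk => ?_
      obtain ⟨l, hl⟩ := hsc k hk
      have hn := scalar_norm (by norm_num) hl
      have hdet : mat k = l • (1 : Matrix (Fin 4) (Fin 4) F) := Matrix.ext_of_mulVec_single fun i => by
        rw [Matrix.smul_mulVec, Matrix.one_mulVec]; exact hl _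
      have h4 : l ^ 4 = 1 := by
        have := (k : Matrix.SpecialLinearGroup (Fin 4) F).2
        change (mat k).det = 1 at this
        rwa [hdet, Matrix.det_smul, Matrix.det_one, Fintype.card_fin, mul_one] at this
      have hl1 : l = 1 := by linear_combination h4 - l * cube_of_ne (ne_of_norm hn)
      exact act_ext fun v => by rw [hl, hl1, one_smul, act_one]
  let lift : ∀ (f : Cfsg.SU 3 F 2 →* G), f.range ≤ g.range → (Cfsg.SU 3 F 2 →* Cfsg.SU 4 F 2) := fun f h =>
    (MonoidHom.ofInjective hg).symm.toMonoidHom.comp ((Subgroup.inclusion h).comp f.rangeRestrict)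
  have hlift : ∀ f h x, g (lift f h x) = f x := fun f h x => MonoidHom.apply_ofInjective_symm hg _
  obtain ⟨Ψ, e0, e1⟩ := four_two (lift f0 hr0) (lift f1 hr1)
    (fun x x' h => hi0 (by rw [← hlift f0 hr0, h, hlift]))
    (MonoidHom.ext fun x => hg (by
      simp only [MonoidHom.comp_apply, hlift]
      exact DFunLike.congr_fun hag x))
    (fun x y => hg (by
      rw [map_mul, map_mul, hlift, hlift]
      exact (hc _ (E0.left.le ⟨x, rfl⟩) _ (E1.right.le ⟨y, rfl⟩)).eq))
  refine ⟨g.comp Ψ, MonoidHom.ext fun x => ?_, MonoidHom.ext fun x => ?_⟩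
  · exact (congrArg g (DFunLike.congr_fun e0 x)).trans (hlift f0 hr0 x)
  · exact (congrArg g (DFunLike.congr_fun e1 x)).trans (hlift f1 hr1 x)

end Cfsg.Lib.Known.Phan
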