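import Cfsg.Agent.Known.Phan.NineLift
import Cfsg.Agent.Known.Phan.TwoBase

/-! Joint frames for commuting elements of order three over four elements, and the root combinatorics. -/

set_option autoImplicit false
set_option linter.unusedSimpArgs false
set_option linter.unusedSectionVars false
set_option linter.style.haveILetI false

namespace Cfsg.Lib.Known.Phan

open Matrix

universe u

variable {F : Type u} [Field F] [Fintype F] [hF : Fact (Fintype.card F = 2 ^ 2)]

local notation "cσ" => cb F 2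

/-- Spectral projection. -/
def proj {N : ℕ} (t : Cfsg.SU N F 2) (a : F) (v : Fin N → F) : Fin N → F :=
  v + (a * a) • act t v + a • act t (act t v)

theorem proj_eigen {N : ℕ} {t : Cfsg.SU N F 2} (ht : t * (t * t) = 1) {a : F} (ha : a ^ 3 = 1) (v : Fin N → F) :
    act t (proj t a v) = a • proj t a v := by
  have h3 : act t (act t (act t v)) = v := by rw [← act_mul, ← act_mul, mul_assoc, ht, act_one]
  simp only [proj, act_add, act_smul, h3, smul_add, smul_smul, show a * (a * a) = 1 by linear_combination ha,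
    one_smul]
  abel

theorem proj_sum {N : ℕ} (t : Cfsg.SU N F 2) {a : F} (ha : a ≠ 1) (ha3 : a ^ 3 = 1) (v : Fin N → F) :
    proj t 1 v + proj t a v + proj t (a * a) v = v := by
  have hs : a * a + a + 1 = 0 := by
    have h : (a - 1) * (a * a + a + 1) = 0 := by linear_combination ha3
    exact (mul_eq_zero.mp h).resolve_left (sub_ne_zero.mpr ha)
  funext i
  simp only [proj, Pi.add_apply, Pi.smul_apply, smul_eq_mul]
  linear_combination (v i) * two_eq_zero (F := F) + (act t v i + act t (act t v) i) * hs +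
    (a * act t v i) * ha3

/-- A joint eigenvector of norm one orthogonal to given eigenvectors. -/
theorem joint_unit {N n : ℕ} (hn : n < N) (ts : Fin 3 → Cfsg.SU N F 2) (h3 : ∀ i, ts i * (ts i * ts i) = 1)
    (hc : ∀ i j, Commute (ts i) (ts j)) (p : Fin n → (Fin N → F))
    (hp : ∀ i j, (HS F 2 N).h (p i) (p j) = if i = j then 1 else 0)
    (he : ∀ j i, ∃ l : F, act (ts i) (p j) = l • p j) :
    ∃ w : Fin N → F, (HS F 2 N).h w w = 1 ∧ (∀ j, (HS F 2 N).h w (p j) = 0) ∧
      ∀ i, ∃ l : F, act (ts i) w = l • w := by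
  classical
  set H := HS F 2 N
  obtain ⟨a, ha, ha1, -, -⟩ := exists_omega (F := F)
  have ha3 : a ^ 3 = 1 := (norm_cube a).symm.trans ha
  set W := H.orth (Submodule.span F (Set.range p)) with hW
  have memW : ∀ {v}, v ∈ W ↔ ∀ j, H.h v (p j) = 0 := fun {v} =>
    H.mem_orth_span.trans ⟨fun h j => h _ ⟨j, rfl⟩, fun h w ⟨j, hj⟩ => hj ▸ h j⟩
  have hinv : ∀ i, ∀ v ∈ W, act (ts i) v ∈ W := fun i v hv => memW.mpr fun j => by
    obtain ⟨l, hl⟩ := he j i
    have h1 := act_h (ts i) v (p j)
    rw [hl, H.smul_right, memW.mp hv j, mul_eq_zero, hs_sigma, cb_eq_zero] at h1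
    refine h1.resolve_left fun e => ?_
    have h2 := act_h (ts i) (p j) (p j)
    rw [hl, e, zero_smul, H.zero_left, hp, if_pos rfl] at h2
    exact zero_ne_one h2
  have hprojW : ∀ i c, ∀ v ∈ W, proj (ts i) c v ∈ W := fun i c v hv =>
    W.add_mem (W.add_mem hv (W.smul_mem _ (hinv i v hv))) (W.smul_mem _ (hinv i _ (hinv i v hv)))
  have hkeep : ∀ i j (c l : F) (v : Fin N → F), act (ts j) v = l • v →
      act (ts j) (proj (ts i) c v) = l • proj (ts i) c v := fun i j c l v hv => by
    have e : ∀ x, act (ts j) (act (ts i) x) = act (ts i) (act (ts j) x) := fun x => by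
      rw [← act_mul, ← act_mul, (hc j i).eq]
    have e1 : act (ts j) (act (ts i) v) = l • act (ts i) v := by rw [e, hv, act_smul]
    have e2 : act (ts j) (act (ts i) (act (ts i) v)) = l • act (ts i) (act (ts i) v) := by
      rw [e, e1, act_smul]
    rw [proj, act_add, act_add, act_smul, act_smul, hv, e1, e2]
    funext r
    simp only [Pi.add_apply, Pi.smul_apply, smul_eq_mul]
    ring
  have hpick : ∀ i, ∀ v ∈ W, v ≠ 0 → ∃ c : F, c ^ 3 = 1 ∧ proj (ts i) c v ≠ 0 := fun i v _ hv0 => by
    by_contra hcon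
    push Not at hcon
    refine hv0 ?_
    rw [← proj_sum (ts i) ha1 ha3 v, hcon 1 (one_pow 3), hcon a ha3,
      hcon (a * a) (by linear_combination (a ^ 3 + 1) * ha3), add_zero, add_zero]
  obtain ⟨v0, hv0, hv00⟩ : ∃ v ∈ W, v ≠ (0 : Fin N → F) := by
    refine Submodule.exists_mem_ne_zero_of_ne_bot fun h => ?_
    have h1 := congrArg (fun S : Submodule F (Fin N → F) => Module.finrank F S) h
    simp only [finrank_bot, hW] at h1
    rw [H.finrank_orth, Module.finrank_fin_fun] at h1
    have h2 : Module.finrank F (Submodule.span F (Set.range p)) ≤ n := by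
      simpa [Set.finrank] using finrank_range_le_card (R := F) p
    omega
  obtain ⟨c0, hc0, hne0⟩ := hpick 0 v0 hv0 hv00
  obtain ⟨c1, hc1, hne1⟩ := hpick 1 _ (hprojW 0 c0 v0 hv0) hne0
  obtain ⟨c2, hc2, hne2⟩ := hpick 2 _ (hprojW 1 c1 _ (hprojW 0 c0 v0 hv0)) hne1
  set v := proj (ts 2) c2 (proj (ts 1) c1 (proj (ts 0) c0 v0)) with hv
  have hvW : v ∈ W := hprojW 2 c2 _ (hprojW 1 c1 _ (hprojW 0 c0 v0 hv0))
  let cs : Fin 3 → F := ![c0, c1, c2]
  have hcs : ∀ i, cs i ^ 3 = 1 := fun i => by fin_cases i <;> assumption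
  have hvE : ∀ i, act (ts i) v = cs i • v := fun i => by
    fin_cases i
    · exact hkeep 2 0 c2 c0 _ (hkeep 1 0 c1 c0 _ (proj_eigen (h3 0) hc0 v0))
    · exact hkeep 2 1 c2 c1 _ (proj_eigen (h3 1) hc1 _)
    · exact proj_eigen (h3 2) hc2 _
  by_contra hcon
  push Not at hcon
  have iso : ∀ w ∈ W, (∀ i, act (ts i) w = cs i • w) → H.h w w = 0 := fun w hw hwE => by
    by_contra hne
    obtain ⟨l, -, hl⟩ := exists_scale_unit (q := 2) hne
    obtain ⟨i, hi⟩ := hcon (l • w) hl fun j => by rw [H.smul_left, memW.mp hw j, mul_zero]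
    exact hi (cs i) (by rw [act_smul, hwE, smul_comm])
  have same : ∀ y ∈ W, (∀ i, act (ts i) y = cs i • y) → H.h v y = 0 := fun y hy hyE => by
    by_contra hne
    obtain ⟨d, hd⟩ := exists_trace_eq (q := 2) hne (a := 1) (map_one _)
    have h1 := iso (d • v + y) (W.add_mem (W.smul_mem _ hvW) hy) fun i => by
      rw [act_add, act_smul, hvE, hyE, smul_add, smul_comm]
    simp only [H.add_left, H.add_right, H.smul_left, H.smul_right, iso v hvW hvE, iso y hy hyE,
      H.symm y v, mul_zero, zero_add, add_zero, hs_sigma] at h1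
    rw [map_mul] at hd
    rw [show H.σ = cσ from rfl] at h1
    exact one_ne_zero (α := F) (by linear_combination h1 - hd)
  have diff : ∀ i (c : F), c ^ 3 = 1 → c ≠ cs i → ∀ y, act (ts i) y = c • y → H.h v y = 0 := by
    intro i c hc3 hne y hy
    have h1 := act_h (ts i) v y
    rw [hvE, hy, H.smul_left, H.smul_right, hs_sigma] at h1
    by_contra h0
    refine hne ?_
    have h2 : cs i * cσ c = 1 := mul_right_cancel₀ h0 (by rw [one_mul]; linear_combination h1)
    linear_combination -c * h2 + (cs i) * ((norm_cube c).trans hc3)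
  have split : ∀ i (y : Fin N → F), (∀ c : F, c ^ 3 = 1 → H.h v (proj (ts i) c y) = 0) → H.h v y = 0 := by
    intro i y hy
    rw [← proj_sum (ts i) ha1 ha3 y, H.add_right, H.add_right, hy 1 (one_pow 3), hy a ha3,
      hy (a * a) (by linear_combination (a ^ 3 + 1) * ha3), add_zero, add_zero]
  have hperp : ∀ y ∈ W, H.h v y = 0 := fun y hy =>
    split 0 y fun d0 hd0 => by
      have e0 := proj_eigen (h3 0) hd0 y
      rcases ne_or_eq d0 (cs 0) with h | h
      · exact diff 0 d0 hd0 h _ e0
      refine split 1 _ fun d1 hd1 => ?_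
      have e1 := proj_eigen (h3 1) hd1 (proj (ts 0) d0 y)
      rcases ne_or_eq d1 (cs 1) with h' | h'
      · exact diff 1 d1 hd1 h' _ e1
      refine split 2 _ fun d2 hd2 => ?_
      have e2 := proj_eigen (h3 2) hd2 (proj (ts 1) d1 (proj (ts 0) d0 y))
      rcases ne_or_eq d2 (cs 2) with h'' | h''
      · exact diff 2 d2 hd2 h'' _ e2
      refine same _ (hprojW 2 _ _ (hprojW 1 _ _ (hprojW 0 _ _ hy))) fun i => ?_
      fin_cases i
      · show _ = cs 0 • _
        rw [← h]
        exact hkeep 2 0 d2 d0 _ (hkeep 1 0 d1 d0 _ e0)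
      · show _ = cs 1 • _
        rw [← h']
        exact hkeep 2 1 d2 d1 _ e1
      · show _ = cs 2 • _
        rw [← h'']
        exact e2
  refine hne2 (H.nondeg v fun x => ?_)
  set x' := x - ∑ j, H.h x (p j) • p j with hx'
  have hx'W : x' ∈ W := memW.mpr fun k => by
    rw [hx', H.sub_left, H.sum_left, Finset.sum_eq_single k (fun j _ hj => by
      rw [H.smul_left, hp, if_neg hj, mul_zero]) (fun h => absurd (Finset.mem_univ k) h), H.smul_left, hp,
      if_pos rfl, mul_one, sub_self]
  have h1 := H.eq_zero_symm (hperp x' hx'W)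
  rwa [hx', H.sub_left, H.sum_left, Finset.sum_eq_zero (fun j _ => by
    rw [H.smul_left, H.eq_zero_symm (memW.mp hvW j), mul_zero]), sub_zero] at h1

/-- A joint frame. -/
theorem joint_frame (ts : Fin 3 → Cfsg.SU 4 F 2) (h3 : ∀ i, ts i * (ts i * ts i) = 1)
    (hc : ∀ i j, Commute (ts i) (ts j)) :
    ∃ p : Fin 4 → (Fin 4 → F), (∀ i j, (HS F 2 4).h (p i) (p j) = if i = j then 1 else 0) ∧
      ∀ j i, ∃ l : F, act (ts i) (p j) = l • p j := by
  suffices h : ∀ n, n ≤ 4 → ∃ p : Fin n → (Fin 4 → F),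
      (∀ i j, (HS F 2 4).h (p i) (p j) = if i = j then 1 else 0) ∧ ∀ j i, ∃ l : F, act (ts i) (p j) = l • p j from
    h 4 le_rfl
  intro n
  induction n with
  | zero => exact fun _ => ⟨Fin.elim0, fun i => Fin.elim0 i, fun j => Fin.elim0 j⟩
  | succ n ih =>
    intro hn
    obtain ⟨p, hp, he⟩ := ih (by omega)
    obtain ⟨w, hw, hwp, hwe⟩ := joint_unit (N := 4) (by omega) ts h3 hc p hp he
    refine ⟨Fin.cons w p, fun i j => ?_, fun j => ?_⟩
    · rcases Fin.eq_zero_or_eq_succ i with rfl | ⟨i, rfl⟩ <;> rcases Fin.eq_zero_or_eq_succ j with rfl | ⟨j, rfl⟩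
      · simpa using hw
      · simp [hwp j, (Fin.succ_ne_zero j).symm]
      · simp [(HS F 2 4).eq_zero_symm (hwp i), Fin.succ_ne_zero i]
      · simp [hp]
    · rcases Fin.eq_zero_or_eq_succ j with rfl | ⟨j, rfl⟩
      · simpa using hwe
      · simpa using he j

/-- Exponent triples. -/
abbrev Tri := ZMod 3 × ZMod 3 × ZMod 3

/-- The three reflections. -/
def refl3 : Fin 3 → Tri → Tri :=
  ![fun x => (-x.1, x.1 + x.2.1, x.2.2), fun x => (x.1 + x.2.1, -x.2.1, x.2.1 + x.2.2),
    fun x => (x.1, x.2.1 + x.2.2, -x.2.2)]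

/-- The standard columns. -/
def stdCol : Fin 4 → Tri := ![(1, 0, 0), (-1, 1, 0), (0, -1, 1), (0, 0, -1)]

/-- Closing a set under the reflections. -/
def grow (S : Finset Tri) : Finset Tri := S ∪ S.image (refl3 0) ∪ S.image (refl3 1) ∪ S.image (refl3 2)

set_option maxRecDepth 4000 in
theorem orbit_cases : ∀ χ : Tri, χ = 0 ∨ 4 < (grow (grow (grow {χ}))).card ∨
    (∀ k, stdCol k ∈ grow (grow (grow {χ}))) ∨ ∀ k, -stdCol k ∈ grow (grow (grow {χ})) := by decide

theorem stdCol_injective : Function.Injective stdCol := by decide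

/-- Closed columns are the standard ones. -/
theorem columns_standard (col : Fin 4 → Tri) (hclosed : ∀ i j, ∃ k, col k = refl3 i (col j))
    (hne : ∃ j, col j ≠ 0) :
    ∃ (π : Equiv.Perm (Fin 4)) (e : ZMod 3), (e = 1 ∨ e = -1) ∧
      ∀ k, col (π k) = (e * (stdCol k).1, e * (stdCol k).2.1, e * (stdCol k).2.2) := by
  classical
  obtain ⟨j0, hj0⟩ := hne
  set C := Finset.univ.image col with hC
  have hgrow : ∀ S, S ⊆ C → grow S ⊆ C := by
    intro S hS x hx
    simp only [grow, Finset.mem_union, Finset.mem_image] at hx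
    rcases hx with ((h | ⟨y, hy, rfl⟩) | ⟨y, hy, rfl⟩) | ⟨y, hy, rfl⟩
    · exact hS h
    all_goals
      obtain ⟨j, -, rfl⟩ := Finset.mem_image.mp (hS hy)
      refine Finset.mem_image.mpr ?_
      first
        | exact (hclosed 0 j).imp fun k hk => ⟨Finset.mem_univ k, hk⟩
        | exact (hclosed 1 j).imp fun k hk => ⟨Finset.mem_univ k, hk⟩
        | exact (hclosed 2 j).imp fun k hk => ⟨Finset.mem_univ k, hk⟩
  have hsub : grow (grow (grow {col j0})) ⊆ C :=
    hgrow _ (hgrow _ (hgrow _ (Finset.singleton_subset_iff.mpr (Finset.mem_image_of_mem col (Finset.mem_univ j0)))))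
  have hcard : (grow (grow (grow {col j0}))).card ≤ 4 :=
    (Finset.card_le_card hsub).trans (Finset.card_image_le.trans (by simp))
  have build : ∀ e : ZMod 3, (∀ k, (e * (stdCol k).1, e * (stdCol k).2.1, e * (stdCol k).2.2) ∈ C) →
      (e = 1 ∨ e = -1) → ∃ (π : Equiv.Perm (Fin 4)) (e : ZMod 3), (e = 1 ∨ e = -1) ∧
        ∀ k, col (π k) = (e * (stdCol k).1, e * (stdCol k).2.1, e * (stdCol k).2.2) := by
    intro e hk he
    choose σ hσu hσ using fun k => Finset.mem_image.mp (hk k)
    have hinj : Function.Injective σ := fun a b h => stdCol_injective (by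
      have h1 := (hσ a).symm.trans ((congrArg col h).trans (hσ b))
      simp only [Prod.mk.injEq] at h1
      rcases he with rfl | rfl
      · simp only [one_mul] at h1
        exact Prod.ext h1.1 (Prod.ext h1.2.1 h1.2.2)
      · simp only [neg_mul, one_mul, neg_inj] at h1
        exact Prod.ext h1.1 (Prod.ext h1.2.1 h1.2.2))
    exact ⟨Equiv.ofBijective σ (Finite.injective_iff_bijective.mp hinj), e, he, hσ⟩
  rcases orbit_cases (col j0) with h | h | h | h
  · exact absurd h hj0
  · omega
  · exact build 1 (fun k => by simpa using hsub (h k)) (Or.inl rfl)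
  · exact build (-1) (fun k => by
      have := hsub (h k)
      rw [show -stdCol k = (-(stdCol k).1, -(stdCol k).2.1, -(stdCol k).2.2) from rfl] at this
      simpa using this) (Or.inr rfl)

end Cfsg.Lib.Known.Phan
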