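import Cfsg.Agent.Known.Phan.TwoBase

/-! Gluing over the field with four elements in at least five dimensions. -/

set_option autoImplicit false
set_option linter.unusedSimpArgs false
set_option linter.unusedSectionVars false
set_option linter.style.haveILetI false

namespace Cfsg.Lib.Known.Phan

universe u v

variable {F : Type u} [Field F] [Fintype F] [hF : Fact (Fintype.card F = 2 ^ 2)]

local notation "σ" => cb F 2

namespace Gluing

variable {m : ℕ} {G : Type v} [Group G]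

/-- The first four coordinates. -/
def κ4 (h : 3 ≤ m) : Fin 4 ↪ Fin (m + 2) := Fin.castLEEmb (by omega)

/-- The additional data over four elements. -/
structure Extra (D : Gluing F 2 m G) where
  hm3 : 3 ≤ m
  ξ : Cfsg.SU 4 F 2 →* G
  first : ∀ k : Cfsg.SU 3 F 2, ξ (blk (win 3 0 (by omega)) k) = D.φ k
  last : ∀ (g : Cfsg.SU 4 F 2) (hg : blk (κ4 hm3) g ∈ stab0 F 2 m), ξ g = D.ψ ⟨_, hg⟩
  comm3 : ∀ (k : Cfsg.SU 3 F 2) (b : ↥(stab0 F 2 m)), act b.1 (ev 1) = ev 1 →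
    act b.1 (ev (κ3 D.hm 2)) = ev (κ3 D.hm 2) → Commute (D.φ k) (D.ψ b)

namespace Extra

variable {D : Gluing F 2 m G} (E : D.Extra)
include E

local notation "V" => (Fin (m + 2) → F)
set_option quotPrecheck false in
local notation "⟪" x ", " y "⟫" => (HS F 2 (m + 2)).h x y

theorem κ4_win (k : Cfsg.SU 3 F 2) :
    blk (κ4 E.hm3) (blk (win 3 0 (show 0 + 3 ≤ 4 by omega)) k) = blk (κ3 D.hm) k := by
  rw [blk_blk]
  exact congrArg (fun κ : Fin 3 ↪ Fin (m + 2) => blk κ k)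
    (DFunLike.ext _ _ fun i => Fin.ext (by simp [κ4, κ3, win]))

/-- A lift of an element of the first four coordinates. -/
noncomputable def p4 (g : Cfsg.SU 4 F 2) : ↥(Cfsg.SU (m + 2) F 2) × G := (blk (κ4 E.hm3) g, E.ξ g)

theorem p4_mul (g g' : Cfsg.SU 4 F 2) : E.p4 (g * g') = E.p4 g * E.p4 g' := by simp [p4]

theorem p4_win (k : Cfsg.SU 3 F 2) : E.p4 (blk (win 3 0 (by omega)) k) = D.kp k :=
  Prod.ext (E.κ4_win k) (E.first k)

theorem p4_mem {g : Cfsg.SU 4 F 2} (hg : act g (ev 0) = ev 0) : E.p4 g ∈ D.graphA := by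
  have h : blk (κ4 E.hm3) g ∈ stab0 F 2 m := by
    rw [mem_stab0, show (0 : Fin (m + 2)) = κ4 E.hm3 0 from rfl, blk_ev, hg, pad_ev]
  have := D.mem_graphA h
  rwa [← E.last g h] at this

theorem p4_inv (g : Cfsg.SU 4 F 2) : E.p4 g⁻¹ = (E.p4 g)⁻¹ :=
  eq_inv_of_mul_eq_one_left (by rw [← p4_mul, inv_mul_cancel]; simp [p4])

/-- The fourth coordinate vector. -/
def e3 : V := ev (κ4 E.hm3 3)

theorem e3_unit : ⟪E.e3, E.e3⟫ = 1 := by rw [e3, ev_ev, if_pos rfl]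

theorem e3_base : ⟪E.e3, D.pt D.base⟫ = 0 := by
  rw [e3, D.pt_base, ev_ev, if_neg]
  intro h
  simpa [κ4] using congrArg Fin.val h

theorem adj_e3 (k : Cfsg.SU 3 F 2) : D.Adj (D.step D.base E.e3) (D.cl (D.kp k)) := by
  obtain ⟨s, hs, hs1⟩ := exists_stab_move (q := 2) (m := 2) (by omega) (v := (ev 3 : Fin 4 → F))
    (by rw [ev_ev, if_pos rfl]) (by rw [ev_ev, if_neg (by decide)])
  set w : Cfsg.SU 4 F 2 := blk (win 3 0 (by omega)) (w3 F 2) with hw
  have hwev : act w (ev 0) = ev 1 := by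
    rw [hw, show (0 : Fin 4) = win 3 0 (show 0 + 3 ≤ 4 by omega) 0 from rfl, blk_ev, w3_ev0, pad_ev]
    rfl
  have hγ : act (s * w) (ev 0) = ev 3 := by rw [act_mul, hwev, hs1]
  have hX : D.step D.base E.e3 = D.cl (E.p4 (s * w)) := by
    refine D.step_eq ⟨E.p4 s, ?_, ?_⟩ ?_
    · rw [← D.smul_base, D.smul_base_of_mem (E.p4_mem hs)]
    · rw [p4_mul, hw, p4_win]
    · rw [D.pt_cl, p4, show (0 : Fin (m + 2)) = κ4 E.hm3 0 from rfl, blk_ev, hγ, pad_ev]
      rfl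
  have hfix : D.kp k • D.step D.base E.e3 = D.step D.base E.e3 := by
    rw [hX, D.smul_cl, ← E.p4_win, ← E.p4_mul]
    set k4 := blk (win 3 0 (show 0 + 3 ≤ 4 by omega)) k with hk4
    have h3 : act k4 (ev 3) = ev 3 := blk_fix _ _ (by
      rintro ⟨i, hi⟩
      have := congrArg Fin.val hi
      simp [win] at this
      omega)
    have hz : act ((s * w)⁻¹ * (k4 * (s * w))) (ev 0) = ev 0 := by
      rw [act_mul (s * w)⁻¹]
      refine act_inv_eq ?_
      rw [act_mul k4, hγ, h3]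
    have e : k4 * (s * w) = (s * w) * ((s * w)⁻¹ * (k4 * (s * w))) := (mul_inv_cancel_left _ _).symm
    rw [e, p4_mul, D.cl_mul_of_mem (E.p4_mem hz)]
  have h := (D.step_spec E.e3_unit E.e3_base).1.symm.smul (D.kp k)
  rwa [hfix, D.smul_base] at h

/-- Lifts above the first three coordinates. -/
theorem via_kp (k : Cfsg.SU 3 F 2) {x : V} (hx : ⟪x, x⟫ = 1) (hx3 : ∀ i : Fin 3, x (κ3 D.hm i) = 0) :
    D.Common D.base x (D.pt (D.cl (D.kp k))) ∧
      D.via D.base x (D.pt (D.cl (D.kp k))) = D.cl (D.kp k) := by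
  classical
  have sy := @Cfsg.Lib.Classical.HermSpace.eq_zero_symm _ _ _ _ _ (HS F 2 (m + 2))
  have hcom : ∀ y : V, ⟪y, y⟫ = 1 → (∀ i : Fin 3, y (κ3 D.hm i) = 0) →
      D.Common D.base y (D.pt (D.cl (D.kp k))) := fun y hy hy3 => by
    refine ⟨hy, ?_, ?_⟩
    · rw [D.pt_base, h_ev]; exact hy3 0
    · rw [D.pt_kp, h_split (κ3 D.hm), show y ∘ κ3 D.hm = 0 from funext hy3, (HS F 2 3).zero_left, zero_add]
      exact Finset.sum_eq_zero fun j _ => by rw [pad_notMem _ _ j.2, map_zero, mul_zero]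
  refine ⟨hcom x hx hx3, ?_⟩
  set κt : Fin (m - 1) ↪ Fin (m + 2) := win (m - 1) 3 (by have := E.hm3; omega) with hκt
  have hpad : ∀ y : V, (∀ i : Fin 3, y (κ3 D.hm i) = 0) → pad κt (y ∘ κt) = y := fun y hy => by
    funext j
    by_cases hj : j ∈ Set.range κt
    · obtain ⟨i, rfl⟩ := hj; rw [pad_mem]; rfl
    · rw [pad_notMem _ _ hj]
      have hj3 : (j : ℕ) < 3 := by
        by_contra h
        exact hj ⟨⟨j - 3, by omega⟩, Fin.ext (show 3 + ((j : ℕ) - 3) = j by omega)⟩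
      exact (hy ⟨j, hj3⟩).symm.trans (congrArg y (Fin.ext (by simp [κ3])))
  have he3 : E.e3 = ev (κt ⟨0, by have := E.hm3; omega⟩) := congrArg ev (Fin.ext (show (3 : ℕ) = 3 + 0 from rfl))
  obtain ⟨g, hg⟩ := exists_act_unit (q := 2) (N := m - 1) (by have := E.hm3; omega) (v := ev ⟨0, by have := E.hm3; omega⟩)
    (v' := x ∘ κt) (isUnit1_ev _) (by rw [IsUnit1, ← h_pad κt, hpad x hx3]; exact hx)
  have hout : ∀ i : Fin 3, κ3 D.hm i ∉ Set.range κt := fun i ⟨l, hl⟩ => by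
    have h : 3 + (l : ℕ) = (i : ℕ) := congrArg Fin.val hl
    omega
  set b := blk κt g with hb
  have hb0 : b ∈ stab0 F 2 m := blk_fix _ _ (hout 0)
  have hb1 : act b (ev 1) = ev 1 := blk_fix _ _ (hout 1)
  have hb2 : act b (ev (κ3 D.hm 2)) = ev (κ3 D.hm 2) := blk_fix _ _ (hout 2)
  set β : ↥(Cfsg.SU (m + 2) F 2) × G := (b, D.ψ ⟨b, hb0⟩) with hβ
  have hbe : act b E.e3 = x := by rw [hb, he3, blk_ev, hg, hpad x hx3]
  have hinv : β • D.cl (D.kp k) = D.cl (D.kp k) := by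
    have hc : β * D.kp k = D.kp k * β := by
      refine Prod.ext ?_ (E.comm3 k ⟨b, hb0⟩ hb1 hb2).eq.symm
      show b * blk (κ3 D.hm) k = blk (κ3 D.hm) k * b
      refine (blk_commute (κ3 D.hm) κt (fun i j h => hout i ⟨j, h.symm⟩) k g).symm
    rw [D.smul_cl, hc, D.cl_mul_of_mem (D.mem_graphA hb0)]
  have hX : β • D.step D.base E.e3 = D.step D.base x := by
    rw [← D.step_smul β E.e3_unit E.e3_base, D.smul_base_of_mem (D.mem_graphA hb0)]
    exact congrArg (D.step D.base) hbe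
  refine D.step_eq ?_ rfl
  rw [← hX, ← hinv]
  exact (E.adj_e3 k).smul β

theorem exists_off_isotropic {r : V} (hr0 : r 0 = 0) (hne : r ≠ 0) :
    ∃ p : V, ⟪p, p⟫ = 1 ∧ ⟪p, ev 0⟫ = 0 ∧ ⟪r, p⟫ ≠ 0 := by
  obtain ⟨i, hi⟩ : ∃ i, r i ≠ 0 := by
    by_contra h
    push Not at h
    exact hne (funext h)
  refine ⟨ev i, by rw [ev_ev, if_pos rfl], ?_, by rw [h_ev]; exact hi⟩
  rw [ev_ev, if_neg]
  rintro rfl
  exact hi hr0

/-- Two step lifts from the base do not depend on the middle vertex. -/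
theorem indep_base {v : V} (hv : ⟪v, v⟫ = 1) : D.Indep D.base v := by
  classical
  set H := HS F 2 (m + 2)
  have sy := @Cfsg.Lib.Classical.HermSpace.eq_zero_symm _ _ _ _ _ H
  intro x y hx hy
  have hx0 : ⟪x, ev 0⟫ = 0 := by rw [← D.pt_base]; exact hx.2.1
  have hy0 : ⟪y, ev 0⟫ = 0 := by rw [← D.pt_base]; exact hy.2.1
  by_cases h0 : ⟪v, ev 0⟫ = 0
  · have key : ∀ z, D.Common D.base z v → D.via D.base z v = D.step D.base v := fun z hz => by
      have sv := D.step_spec (X := D.base) hv (by rw [D.pt_base]; exact h0)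
      exact D.step_eq (D.triangle sv.1 hz.1 hz.2.1 (by rw [sv.2]; exact hz.2.2)) sv.2
    rw [key x hx, key y hy]
  set a := ⟪v, ev 0⟫ with ha
  have han : a * σ a = 1 := norm_of_ne h0
  set r := v - a • ev 0 with hr
  have hre : ⟪r, ev 0⟫ = 0 := by
    rw [hr, H.sub_left, H.smul_left, ev_ev, if_pos rfl, mul_one, ← ha, sub_self]
  by_cases hr0 : r = 0
  · -- proportional vectors
    obtain ⟨z, hz, hzy, hzx, hze⟩ := exists_perp3 (q := 2) (N := m + 2) (by have := E.hm3; omega) hy.1 hx.1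
      (show ⟪ev 0, ev 0⟫ = 1 by rw [ev_ev, if_pos rfl]) hx0 (Or.inl (by have := E.hm3; omega))
    have hzc : D.Common D.base z v := ⟨hz, by rw [D.pt_base]; exact hze, by
      rw [sub_eq_zero.mp hr0, H.smul_right, hze, mul_zero]⟩
    rw [D.wheel hx hzc (sy hzx) hv, D.wheel hzc hy hzy hv]
  have hrv : ⟪r, v⟫ = 0 := by
    rw [hr, H.sub_left, H.smul_left, hv, H.symm (ev 0) v, ← ha, hs_sigma]
    linear_combination -han
  have hrr : ⟪r, r⟫ = 0 := by
    conv_lhs => arg 3; rw [hr]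
    rw [H.sub_right, H.smul_right, hre, hrv, mul_zero, sub_zero]
  obtain ⟨p, hp, hpe, hrp⟩ := E.exists_off_isotropic (r := r) (by rw [← h_ev (q := 2) r 0]; exact hre) hr0
  set c := ⟪r, p⟫ with hc
  set r2 := r - c • p with hr2
  have hr2e : ⟪r2, ev 0⟫ = 0 := by rw [hr2, H.sub_left, H.smul_left, hre, hpe, mul_zero, sub_zero]
  have hr2p : ⟪r2, p⟫ = 0 := by rw [hr2, H.sub_left, H.smul_left, hp, mul_one, ← hc, sub_self]
  have hr2u : ⟪r2, r2⟫ = 1 := by
    conv_lhs => arg 3; rw [hr2]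
    rw [H.sub_right, H.smul_right, hr2p, mul_zero, sub_zero, hr2, H.sub_left, H.smul_left, hrr,
      H.symm p r, ← hc, hs_sigma, norm_of_ne hrp, zero_sub, neg_self]
  obtain ⟨a1, ha1, ha1p⟩ := exists_stab_move (q := 2) (by have := E.hm3; omega) hp hpe
  set r2' := act a1⁻¹ r2 with hr2'
  obtain ⟨b, hb, hb1, hb2⟩ := exists_stab2_move (q := 2) D.hm (v := r2') (by rw [hr2', act_h]; exact hr2u)
    (by rw [hr2', ← act_h a1, act_act_inv, mem_stab0.mp ha1]; exact hr2e)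
    (by rw [hr2', ← act_h a1, act_act_inv, ha1p]; exact hr2p)
  set γ := a1 * b with hγ
  have hγ0 : γ ∈ stab0 F 2 m := mul_mem ha1 hb
  set v' : V := a • ev 0 + c • ev 1 + ev (κ3 D.hm 2) with hv'
  have hγv : act γ v' = v := by
    rw [hv', act_add, act_add, act_smul, act_smul, mem_stab0.mp hγ0, hγ, act_mul, act_mul, hb1, ha1p, hb2,
      hr2', act_act_inv, hr2, hr]
    abel
  have hv'u : ⟪v', v'⟫ = 1 := by rw [← act_h γ, hγv]; exact hv
  have hv'3 : pad (κ3 D.hm) (v' ∘ κ3 D.hm) = v' := by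
    funext j
    by_cases hj : j ∈ Set.range (κ3 D.hm)
    · obtain ⟨i, rfl⟩ := hj; rw [pad_mem]; rfl
    · rw [pad_notMem _ _ hj]
      have hne : ∀ i, j ≠ κ3 D.hm i := fun i h => hj ⟨i, h.symm⟩
      have h0' := hne 0
      have h1' := hne 1
      have h2' := hne 2
      rw [κ3_zero] at h0'
      rw [κ3_one] at h1'
      simp [hv', ev, h0', h1', h2']
  obtain ⟨k, hk⟩ := exists_act_unit (q := 2) (N := 3) (by omega) (v := ev 0) (v' := v' ∘ κ3 D.hm) (isUnit1_ev 0)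
    (by rw [IsUnit1, ← h_pad (κ3 D.hm), hv'3]; exact hv'u)
  have hpt : D.pt (D.cl (D.kp k)) = v' := by rw [D.pt_kp, hk, hv'3]
  have key : ∀ z, D.Common D.base z v' → D.via D.base z v' = D.cl (D.kp k) := by
    intro z hz
    have hz0 : z 0 = 0 := by
      have := hz.2.1
      rwa [D.pt_base, h_ev] at this
    have hzv : z 1 * σ c + z (κ3 D.hm 2) = 0 := by
      have := hz.2.2
      rw [hv', H.add_right, H.add_right, H.smul_right, H.smul_right, h_ev, h_ev, h_ev, hs_sigma, hz0] at this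
      linear_combination this
    set z0 : V := fun j => if (j : ℕ) < 3 then 0 else z j with hz0d
    have hz03 : ∀ i : Fin 3, z0 (κ3 D.hm i) = 0 := fun i => by simp [hz0d, κ3]
    have hz00 : z0 ∘ κ3 D.hm = 0 := funext hz03
    have hout : ∀ j : ↥(Set.range (κ3 D.hm))ᶜ, z0 j = z j := fun j => by
      have : ¬ ((j : Fin (m + 2)) : ℕ) < 3 := fun h => j.2 ⟨⟨_, h⟩, Fin.ext (by simp [κ3])⟩
      simp [hz0d, this]
    have hz0u : ⟪z0, z0⟫ = 1 := by
      have h1 := h_split (q := 2) (κ3 D.hm) z z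
      rw [hz.1, hs_h (N := 3), Fin.sum_univ_three] at h1
      simp only [Function.comp_apply, κ3_zero, κ3_one, hz0, zero_mul, zero_add] at h1
      rw [h_split (κ3 D.hm) z0 z0, hz00, (HS F 2 3).zero_left, zero_add]
      simp only [hout]
      have h2 : z (κ3 D.hm 2) = -(z 1 * σ c) := eq_neg_of_add_eq_zero_right hzv
      rw [h2, map_neg, map_mul, cb_cb] at h1
      have hc1 := norm_of_ne hrp
      linear_combination -h1 - (z 1 * σ (z 1)) * hc1 - (z 1 * σ (z 1)) * two_eq_zero (F := F)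
    -- a unit vector orthogonal to both in the last coordinates
    set κt : Fin (m - 1) ↪ Fin (m + 2) := win (m - 1) 3 (by have := E.hm3; omega) with hκt
    have hpad : pad κt (z0 ∘ κt) = z0 := by
      funext j
      by_cases hj : j ∈ Set.range κt
      · obtain ⟨i, rfl⟩ := hj; rw [pad_mem]; rfl
      · rw [pad_notMem _ _ hj]
        have hj3 : (j : ℕ) < 3 := by
          by_contra h
          exact hj ⟨⟨j - 3, by omega⟩, Fin.ext (show 3 + ((j : ℕ) - 3) = j by omega)⟩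
        simp [hz0d, hj3]
    obtain ⟨g, hg⟩ := exists_act_unit (q := 2) (N := m - 1) (by have := E.hm3; omega)
      (v := ev ⟨0, by have := E.hm3; omega⟩) (v' := z0 ∘ κt) (isUnit1_ev _)
      (by rw [IsUnit1, ← h_pad κt, hpad]; exact hz0u)
    set w : V := pad κt (act g (ev ⟨1, by have := E.hm3; omega⟩)) with hw
    have hw3 : ∀ i : Fin 3, w (κ3 D.hm i) = 0 := fun i => pad_notMem _ _ (fun ⟨l, hl⟩ => by
      have h : 3 + (l : ℕ) = (i : ℕ) := congrArg Fin.val hl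
      omega)
    have hwu : ⟪w, w⟫ = 1 := by rw [hw, h_pad, act_h, ev_ev, if_pos rfl]
    obtain ⟨hwc, hwl⟩ := E.via_kp k hwu hw3
    rw [hpt] at hwc hwl
    have hwz : ⟪z, w⟫ = 0 := by
      rw [h_split (κ3 D.hm), show w ∘ κ3 D.hm = 0 from funext hw3, (HS F 2 3).zero_right, zero_add]
      have h2 : ⟪z0, w⟫ = 0 := by
        rw [← hpad, hw, h_pad, ← hg, act_h, ev_ev, if_neg]
        intro h
        simpa using congrArg Fin.val h
      rw [h_split (κ3 D.hm), hz00, (HS F 2 3).zero_left, zero_add] at h2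
      simp only [hout] at h2
      exact h2
    rw [D.wheel hz hwc hwz hv'u, hwl]
  have hind : D.Indep D.base v' := fun z z' hz hz' => by rw [key z hz, key z' hz']
  have hfin := D.indep_smul (γ, D.ψ ⟨γ, hγ0⟩) hv'u hind
  rw [D.smul_base_of_mem (D.mem_graphA hγ0), hγv] at hfin
  exact hfin x y hx hy

theorem sec_eq₂ {x v : V} (hv : ⟪v, v⟫ = 1) (hx : D.Common D.base x v) : D.sec v = D.via D.base x v := by
  have h : ∃ x, D.Common D.base x v := ⟨x, hx⟩
  rw [sec, dif_pos h]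
  exact E.indep_base hv _ _ h.choose_spec hx

theorem sec_pt₂ {v : V} (hv : ⟪v, v⟫ = 1) : D.pt (D.sec v) = v := by
  obtain ⟨x, hx⟩ := D.exists_common_base hv
  rw [E.sec_eq₂ hv hx, (D.via_spec hx hv).2]

theorem sec_base₂ : D.sec (D.pt D.base) = D.base := by
  obtain ⟨x, hx⟩ := D.exists_common_base (D.pt_unit D.base)
  rw [E.sec_eq₂ (D.pt_unit D.base) hx]
  exact D.step_eq (D.step_spec hx.1 hx.2.1).1.symm rfl

theorem sec_of_adj₂ {v : V} (hv : ⟪v, v⟫ = 1) (h0 : ⟪v, D.pt D.base⟫ = 0) : D.sec v = D.step D.base v := by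
  obtain ⟨x, hx⟩ := D.exists_common_base hv
  rw [E.sec_eq₂ hv hx]
  have h := D.triangle (D.step_spec hv h0).1 hx.1 hx.2.1 (by rw [(D.step_spec hv h0).2]; exact hx.2.2)
  exact D.step_eq h (D.step_spec hv h0).2

theorem sec_adj₂ {v v' : V} (hv : ⟪v, v⟫ = 1) (hv' : ⟪v', v'⟫ = 1) (hvv : ⟪v, v'⟫ = 0) :
    D.Adj (D.sec v) (D.sec v') := by
  have sy := @Cfsg.Lib.Classical.HermSpace.eq_zero_symm _ _ _ _ _ (HS F 2 (m + 2))
  have hee := D.pt_unit D.base
  set e := D.pt D.base with he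
  by_cases h0 : ⟪v, e⟫ = 0
  · rw [E.sec_of_adj₂ hv h0, E.sec_eq₂ hv' (x := v) ⟨hv, h0, hvv⟩]
    exact (D.via_spec ⟨hv, h0, hvv⟩ hv').1
  by_cases h0' : ⟪v', e⟫ = 0
  · rw [E.sec_of_adj₂ hv' h0', E.sec_eq₂ hv (x := v') ⟨hv', h0', sy hvv⟩]
    exact (D.via_spec ⟨hv', h0', sy hvv⟩ hv).1.symm
  obtain ⟨z, hz, hze, hzv, hzv'⟩ := exists_perp3 (q := 2) (N := m + 2) (by have := D.hm; omega) hee hv hv' hvv
    (Or.inl (by have := E.hm3; omega))
  rw [E.sec_eq₂ hv ⟨hz, hze, hzv⟩, E.sec_eq₂ hv' ⟨hz, hze, hzv'⟩]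
  have sv := D.via_spec (X := D.base) ⟨hz, hze, hzv'⟩ hv'
  exact D.triangle sv.1 hv (by rw [(D.step_spec hz hze).2]; exact sy hzv) (by rw [sv.2]; exact hvv)

theorem sec_unique₂ (S : V → D.Lift) (hpt : ∀ v, ⟪v, v⟫ = 1 → D.pt (S v) = v) (h0 : S (D.pt D.base) = D.base)
    (hadj : ∀ v v', ⟪v, v⟫ = 1 → ⟪v', v'⟫ = 1 → ⟪v, v'⟫ = 0 → D.Adj (S v) (S v')) {v : V}
    (hv : ⟪v, v⟫ = 1) : S v = D.sec v := by
  obtain ⟨x, hx⟩ := D.exists_common_base hv
  rw [E.sec_eq₂ hv hx, via]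
  have h1 := hadj _ _ (D.pt_unit D.base) hx.1 ((HS F 2 _).eq_zero_symm hx.2.1)
  rw [h0] at h1
  rw [D.step_eq h1 (hpt x hx.1), D.step_eq (hadj x v hx.1 hv hx.2.2) (hpt v hv)]

theorem good_of_base₂ {g : ↥(Cfsg.SU (m + 2) F 2) × G} (h : g • D.base = D.sec (act g.1 (D.pt D.base))) :
    D.Good g := by
  intro v hv
  have hu : ∀ w : V, ⟪w, w⟫ = 1 → ⟪act g.1 w, act g.1 w⟫ = 1 := fun w hw => (act_h g.1 w w).trans hw
  have := E.sec_unique₂ (fun w => g⁻¹ • D.sec (act g.1 w))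
    (fun w hw => by rw [pt_smul, E.sec_pt₂ (hu w hw), Prod.fst_inv, act_inv_act])
    (by rw [← h, inv_smul_smul])
    (fun w w' hw hw' hww => (E.sec_adj₂ (hu w hw) (hu w' hw') (by rw [act_h]; exact hww)).smul _) hv
  rw [← this, smul_inv_smul]

theorem good_graph₂ {g : ↥(Cfsg.SU (m + 2) F 2) × G} (hg : g ∈ D.graph) : D.Good g := by
  induction hg using Subgroup.closure_induction with
  | mem x hx =>
    rcases hx with hx | ⟨k, rfl⟩
    · refine E.good_of_base₂ ?_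
      rw [D.smul_base_of_mem hx, ← D.pt_smul, D.smul_base_of_mem hx, E.sec_base₂]
    · refine E.good_of_base₂ ?_
      rw [D.smul_base, show act (D.kp k).1 (D.pt D.base) = D.pt (D.cl (D.kp k)) from by rw [D.pt_base]; rfl]
      obtain ⟨hc, hl⟩ := E.via_kp k E.e3_unit (fun i => by
        rw [e3, ev, Pi.single_eq_of_ne]
        intro h
        have := congrArg Fin.val h
        simp [κ3, κ4] at this
        omega)
      rw [E.sec_eq₂ (D.pt_unit _) hc, hl]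
  | one => intro v _; rw [one_smul, Prod.fst_one, act_one]
  | mul x y _ _ hx hy =>
    intro v hv
    rw [mul_smul, hy v hv, hx _ ((act_h _ _ _).trans hv), Prod.fst_mul, act_mul]
  | inv x _ hx =>
    intro v hv
    rw [inv_smul_eq_iff, hx _ ((act_h _ _ _).trans hv), Prod.fst_inv, act_act_inv]

theorem graph_inj₂ {g : G} (hg : ((1 : ↥(Cfsg.SU (m + 2) F 2)), g) ∈ D.graph) : g = 1 := by
  have := E.good_graph₂ hg _ (D.pt_unit D.base)
  rw [act_one, E.sec_base₂, D.smul_base] at this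
  obtain ⟨a, ha⟩ := QuotientGroup.eq.mp (this.symm : D.cl 1 = D.cl (1, g))
  rw [inv_one, one_mul] at ha
  have h1 : a = 1 := Subtype.ext (congrArg Prod.fst ha)
  have h2 : D.ψ a = g := congrArg Prod.snd ha
  rw [← h2, h1, map_one]

/-- The glued homomorphism. -/
theorem exists_hom₂ : ∃ Φ : ↥(Cfsg.SU (m + 2) F 2) →* G, (∀ a : ↥(stab0 F 2 m), Φ a.1 = D.ψ a) ∧
    ∀ k : Cfsg.SU 3 F 2, Φ (blk (κ3 D.hm) k) = D.φ k := by
  let p := (MonoidHom.fst ↥(Cfsg.SU (m + 2) F 2) G).comp D.graph.subtype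
  have hinj : Function.Injective p := by
    rw [injective_iff_map_eq_one]
    rintro ⟨⟨s, g⟩, h⟩ (rfl : s = 1)
    exact Subtype.ext (Prod.ext rfl (E.graph_inj₂ h))
  have hsurj : Function.Surjective p := by
    rw [← MonoidHom.range_eq_top]
    refine gen_top D.hm _ (fun a ha => ?_) ?_
    · exact ⟨⟨(a, D.ψ ⟨a, ha⟩), Subgroup.subset_closure (Or.inl (D.mem_graphA ha))⟩, rfl⟩
    · exact ⟨⟨D.kp (w3 F 2), Subgroup.subset_closure (Or.inr ⟨_, rfl⟩)⟩, rfl⟩
  let Eq' := MulEquiv.ofBijective p ⟨hinj, hsurj⟩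
  let Φ : ↥(Cfsg.SU (m + 2) F 2) →* G :=
    ((MonoidHom.snd ↥(Cfsg.SU (m + 2) F 2) G).comp D.graph.subtype).comp Eq'.symm.toMonoidHom
  have hΦ : ∀ x : D.graph, Φ x.1.1 = x.1.2 := fun x => by
    show (((Eq'.symm (p x)) : D.graph) : ↥(Cfsg.SU (m + 2) F 2) × G).2 = _
    rw [show p x = Eq' x from rfl, Eq'.symm_apply_apply]
  exact ⟨Φ, fun a => hΦ ⟨_, Subgroup.subset_closure (Or.inl (D.mem_graphA a.2))⟩,
    fun k => hΦ ⟨_, Subgroup.subset_closure (Or.inr ⟨k, rfl⟩)⟩⟩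

end Extra

end Gluing

end Cfsg.Lib.Known.Phan
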