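import Cfsg.Agent.Known.Phan.TwoGlue
import Cfsg.Agent.Known.Phan.TwoFour
import Cfsg.Agent.Known.Phan.Recog

/-! The inductive construction over four elements. -/

set_option autoImplicit false
set_option linter.unusedSimpArgs false
set_option linter.unusedSectionVars false
set_option linter.style.haveILetI false

namespace Cfsg.Lib.Known.Phan

open Matrix

universe u v

variable {F : Type u} [Field F] [Fintype F] [hF : Fact (Fintype.card F = 2 ^ 2)]
variable {G : Type v} [Group G]

/-- The construction over four elements. -/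
theorem exists_glued_two {k : ℕ} {U : ℕ → Subgroup G} {f : ℕ → (Cfsg.SU 3 F 2 →* G)}
    (h : Family k U f) (h4 : ∀ i, i + 2 ≤ k → ∃ Φ : Cfsg.SU 4 F 2 →* G,
      ∀ j (hj : j + 3 ≤ 4), Φ.comp (blk (win 3 j hj)) = f (i + j))
    (hUf : ∀ i j, j < k → (i + 2 ≤ j ∨ j + 3 ≤ i) → i ≤ k → ∀ u ∈ U i, ∀ x, Commute u (f j x))
    (hff : ∀ i j, i + 3 ≤ j → j < k → ∀ x y, Commute (f i x) (f j y)) :
    ∀ N i, 3 ≤ N → i + N ≤ k + 2 → ∃ Φ : Cfsg.SU N F 2 →* G,
      ∀ j (hj : j + 3 ≤ N), Φ.comp (blk (win 3 j hj)) = f (i + j) := by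
  intro N
  induction N with
  | zero => intro i h; omega
  | succ N ih =>
    intro i h3 hik
    rcases Nat.lt_or_ge N 3 with hN | hN
    · have hN2 : N = 2 := by omega
      subst hN2
      refine ⟨f i, fun j hj => ?_⟩
      have hj0 : j = 0 := by omega
      subst hj0
      refine MonoidHom.ext fun s => ?_
      rw [MonoidHom.comp_apply, add_zero]
      exact congrArg (f i) (blk_id 3 s)
    obtain ⟨m, rfl⟩ : ∃ m, N = m + 1 := ⟨N - 1, by omega⟩
    have hm : 2 ≤ m := by omega
    rcases Nat.lt_or_ge m 3 with hm3 | hm3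
    · have hm2 : m = 2 := by omega
      subst hm2
      exact h4 i (by omega)
    obtain ⟨Ψ, hΨ⟩ := ih (i + 1) (by omega) (by omega)
    obtain ⟨Ξ, hΞ⟩ := h4 i (by omega)
    let ι : ↥(stab0 F 2 m) →* Cfsg.SU (m + 1) F 2 :=
      (MonoidHom.ofInjective (blk_injective (F := F) (q := 2) (κs (m + 1)))).symm.toMonoidHom.comp
        (Subgroup.inclusion fun g hg => exists_blk_stab hg)
    have hι : ∀ g, blk (κs (m + 1)) (ι g) = g.1 := fun g =>
      MonoidHom.apply_ofInjective_symm (blk_injective (F := F) (q := 2) (κs (m + 1))) _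
    have hι' : ∀ x hx, ι ⟨blk (κs (m + 1)) x, hx⟩ = x := fun x hx => blk_injective (κs (m + 1)) (hι _)
    have hagree : ∀ (x : Cfsg.SU 3 F 2) (hx : blk (κ3 hm) x ∈ stab0 F 2 m),
        (Ψ.comp ι) ⟨_, hx⟩ = f i x := by
      intro x hx
      have hx0 : act x (ev 0) = ev 0 := by
        have := congrArg (fun v => v ∘ κ3 hm) (mem_stab0.mp hx)
        rwa [blk_comp, show (0 : Fin (m + 2)) = κ3 hm 0 from rfl, ev_comp] at this
      obtain ⟨y, rfl⟩ := exists_blk κ12 (g := x) fun j hj => by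
        have hj0 : j = 0 := by fin_cases j <;> simp_all [range_κ12]
        rw [hj0, hx0]
      have e : blk (κ3 hm) (blk κ12 y) = blk (κs (m + 1)) (blk (win 2 0 (by omega)) y) := by
        rw [blk_blk, blk_blk, κ3_eq_win, κ12_eq_win, κs_eq_win, win_trans, win_trans]
      have hx' := hx
      rw [e] at hx'
      rw [MonoidHom.comp_apply, show (⟨_, hx⟩ : ↥(stab0 F 2 m)) = ⟨_, hx'⟩ from Subtype.ext e, hι']
      have e2 := DFunLike.congr_fun (h.agree i (by omega)) y
      rw [MonoidHom.comp_apply, MonoidHom.comp_apply] at e2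
      rw [← e2, ← add_zero (i + 1), ← hΨ 0 (by omega), MonoidHom.comp_apply, blk_blk, κ01_eq_win, win_trans]
    -- images of the far coordinates commute with the first rank one block
    have far1 : ∀ b : Cfsg.SU m F 2, ∀ u ∈ U i, Commute u (Ψ (blk (win m 1 (by omega)) b)) := by
      intro b u hu
      have hr : (Ψ.comp (blk (win m 1 (by omega)))).range ≤ Subgroup.centralizer {u} := by
        refine range_le_windows hm3 _ fun j hj => ?_
        have e' : (Ψ.comp (blk (win m 1 (by omega)))).comp (blk (win 3 j hj)) = f (i + 1 + (1 + j)) := by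
          rw [← hΨ (1 + j) (by omega)]
          exact MonoidHom.ext fun t => by simp only [MonoidHom.comp_apply]; rw [blk_blk, win_trans]
        rw [e']
        rintro _ ⟨x, rfl⟩
        exact Subgroup.mem_centralizer_iff.mpr fun w hw => by
          rw [Set.mem_singleton_iff.mp hw]
          exact (hUf i _ (by omega) (Or.inl (by omega)) (by omega) u hu x).eq
      exact Subgroup.mem_centralizer_iff.mp (hr ⟨b, rfl⟩) u rfl
    -- images of the coordinates beyond three commute with the first edge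
    have far2 : ∀ (b : Cfsg.SU (m - 1) F 2) (x : Cfsg.SU 3 F 2),
        Commute (f i x) (Ψ (blk (win (m - 1) 2 (by omega)) b)) := by
      intro b x
      have hr : (Ψ.comp (blk (win (m - 1) 2 (by omega)))).range ≤ Subgroup.centralizer {f i x} := by
        have single : ∀ z, Commute (f i x) z → z ∈ Subgroup.centralizer {f i x} := fun z hz =>
          Subgroup.mem_centralizer_iff.mpr fun w hw => by rw [Set.mem_singleton_iff.mp hw]; exact hz.eq
        rcases Nat.lt_or_ge m 4 with hm4 | hm4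
        · have hm33 : m = 3 := by omega
          subst hm33
          rintro _ ⟨s, rfl⟩
          refine single _ ?_
          have hb := h.block_range (N := 4) (i := i + 1) (by omega) (by omega) hΨ 2 (by omega)
          exact (hUf (i + 1 + 2) i (by omega) (Or.inr (by omega)) (by omega) _ (hb.le ⟨s, rfl⟩) x).symm
        · refine range_le_windows (by omega) _ fun j hj => ?_
          have e' : (Ψ.comp (blk (win (m - 1) 2 (by omega)))).comp (blk (win 3 j hj)) = f (i + 1 + (2 + j)) := by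
            rw [← hΨ (2 + j) (by omega)]
            exact MonoidHom.ext fun t => by simp only [MonoidHom.comp_apply]; rw [blk_blk, win_trans]
          rw [e']
          rintro _ ⟨z, rfl⟩
          exact single _ (hff i _ (by omega) (by omega) x z)
      exact Subgroup.mem_centralizer_iff.mp (hr ⟨b, rfl⟩) _ rfl
    let D : Gluing F 2 m G :=
      { hm := hm
        ψ := Ψ.comp ι
        φ := f i
        agree := hagree
        comm := by
          intro s b hb
          obtain ⟨b', hb'⟩ := exists_blk (κss m) (g := b.1) fun j hj => by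
            rcases notMem_κss hj with rfl | rfl
            · exact b.2
            · exact hb
          have e : blk (κss m) b' = blk (κs (m + 1)) (blk (win m 1 (by omega)) b') := by
            rw [blk_blk, κss_eq_win, κs_eq_win, win_trans]
          have eb : ι b = blk (win m 1 (by omega)) b' :=
            blk_injective (κs (m + 1)) (by rw [hι, ← e, hb'])
          show Commute (f i (blk κ01 s)) (Ψ (ι b))
          rw [eb]
          exact far1 b' _ ((h.edge i (by omega)).left.le ⟨s, rfl⟩) }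
    let E : D.Extra :=
      { hm3 := hm3
        ξ := Ξ
        first := fun x => by
          have := DFunLike.congr_fun (hΞ 0 (by omega)) x
          rwa [add_zero] at this
        last := by
          intro g hg
          have hg0 : act g (ev 0) = ev 0 := by
            have := congrArg (fun v => v ∘ Gluing.κ4 hm3) (mem_stab0.mp hg)
            rwa [blk_comp, show (0 : Fin (m + 2)) = Gluing.κ4 hm3 0 from rfl, ev_comp] at this
          obtain ⟨y, rfl⟩ := exists_blk (win 3 1 (by omega)) (g := g) fun j hj => by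
            have hj0 : j = 0 := by
              by_contra hne
              have h0 : (j : ℕ) ≠ 0 := fun h => hne (Fin.ext h)
              exact hj ⟨⟨(j : ℕ) - 1, by omega⟩, Fin.ext (show 1 + ((j : ℕ) - 1) = j by omega)⟩
            rw [hj0, hg0]
          have e : blk (Gluing.κ4 hm3) (blk (win 3 1 (show 1 + 3 ≤ 4 by omega)) y) =
              blk (κs (m + 1)) (blk (win 3 0 (by omega)) y) := by
            rw [blk_blk, blk_blk, κs_eq_win, win_trans]
            exact congrArg (fun κ : Fin 3 ↪ Fin (m + 2) => blk κ y)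
              (DFunLike.ext _ _ fun r : Fin 3 => Fin.ext (show 1 + (r : ℕ) = 1 + 0 + r by omega))
          have hg' := hg
          rw [e] at hg'
          show Ξ _ = Ψ (ι _)
          rw [show (⟨_, hg⟩ : ↥(stab0 F 2 m)) = ⟨_, hg'⟩ from Subtype.ext e, hι']
          exact ((DFunLike.congr_fun (hΞ 1 (by omega)) y).trans
            (DFunLike.congr_fun (hΨ 0 (by omega)) y).symm : _)
        comm3 := by
          intro x b hb1 hb2
          obtain ⟨b', hb'⟩ := exists_blk (win (m - 1) 3 (show 3 + (m - 1) ≤ m + 2 by omega)) (g := b.1)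
            fun j hj => by
              have hj3 : (j : ℕ) < 3 := by
                by_contra h
                exact hj ⟨⟨j - 3, by omega⟩, Fin.ext (show 3 + ((j : ℕ) - 3) = j by omega)⟩
              rcases (show (j : ℕ) = 0 ∨ (j : ℕ) = 1 ∨ (j : ℕ) = 2 by omega) with h0 | h0 | h0
              · rw [show j = 0 from Fin.ext h0]; exact b.2
              · rw [show j = 1 from Fin.ext (h0.trans (by simp))]; exact hb1
              · rw [show j = κ3 hm 2 from Fin.ext h0]; exact hb2
          have e : blk (win (m - 1) 3 (show 3 + (m - 1) ≤ m + 2 by omega)) b' =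
              blk (κs (m + 1)) (blk (win (m - 1) 2 (by omega)) b') := by
            rw [blk_blk, κs_eq_win, win_trans]
          have eb : ι b = blk (win (m - 1) 2 (by omega)) b' :=
            blk_injective (κs (m + 1)) (by rw [hι, ← e, hb'])
          show Commute (f i x) (Ψ (ι b))
          rw [eb]
          exact far2 b' x }
    obtain ⟨Φ, hΦA, hΦ3⟩ := E.exists_hom₂
    refine ⟨Φ, fun j hj => ?_⟩
    refine MonoidHom.ext fun s => ?_
    rw [MonoidHom.comp_apply]
    rcases Nat.eq_zero_or_pos j with rfl | hjpos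
    · rw [add_zero]
      have := hΦ3 s
      rw [κ3_eq_win] at this
      exact this
    obtain ⟨j', rfl⟩ : ∃ j', j = 1 + j' := ⟨j - 1, by omega⟩
    have e : blk (win 3 (1 + j') hj) s = blk (κs (m + 1)) (blk (win 3 j' (by omega)) s) := by
      rw [blk_blk, κs_eq_win, win_trans]
    rw [e, show blk (κs (m + 1)) (blk (win 3 j' (by omega)) s) =
      (⟨_, blk_κs_mem _⟩ : ↥(stab0 F 2 m)).1 from rfl, hΦA]
    show Ψ (ι _) = _
    rw [hι', ← Nat.add_assoc, ← hΨ j' (by omega), MonoidHom.comp_apply]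

/-- Recognition over four elements. -/
theorem recog_two (n : ℕ) (hn : 4 ≤ n)
    (U : Fin n → Subgroup G) (e : ∀ i, ↥(Cfsg.SU 2 F 2) ≃* ↥(U i))
    (V : Fin n → Fin n → Subgroup G)
    (h1 : ∀ i j : Fin n, (i : ℕ) + 2 ≤ j → ∀ x ∈ U i, ∀ y ∈ U j, x * y = y * x)
    (h2 : ∀ i j : Fin n, (i : ℕ) + 1 = j → Cfsg.IsStandardUnitaryPair (V i j) (U i) (U j) F 2)
    (hgen : (⨆ i, U i) ⊔ (⨆ (i : Fin n) (j : Fin n) (_ : (i : ℕ) + 1 = j), V i j) = ⊤)
    (h4 : ∀ i j k : Fin n, (i : ℕ) + 1 = j → (j : ℕ) + 1 = k →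
      ∃ g : ↥(Cfsg.SU 4 F 2) →* ↥(V i j ⊔ V j k), Function.Surjective g)
    (h5 : ∀ i j k : Fin n, (j : ℕ) + 1 = k → ((i : ℕ) + 2 ≤ j ∨ (k : ℕ) + 2 ≤ i) →
      ∀ x ∈ U i, ∀ y ∈ V j k, x * y = y * x)
    (h6 : ∀ i j k l : Fin n, (i : ℕ) + 1 = j → (k : ℕ) + 1 = l → (j : ℕ) + 2 ≤ k →
      ∀ x ∈ V i j, ∀ y ∈ V k l, x * y = y * x) :
    ∃ Φ : ↥(Cfsg.SU (n + 1) F 2) →* G, Function.Surjective Φ := by
  classical
  let U' : ℕ → Subgroup G := fun i => if h : i < n then U ⟨i, h⟩ else ⊥
  have hU' : ∀ i (hi : i < n), U' i = U ⟨i, hi⟩ := fun i hi => dif_pos hi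
  have hedge : ∀ i, i < n - 1 → ∃ f : Cfsg.SU 3 F 2 →* G, Edge f (U' i) (U' (i + 1)) ∧
      ∀ (hi : i < n) (hi' : i + 1 < n), f.range = V ⟨i, hi⟩ ⟨i + 1, hi'⟩ := by
    intro i hi
    obtain ⟨f, hf, hr⟩ := exists_edge (h2 ⟨i, by omega⟩ ⟨i + 1, by omega⟩ rfl) (e _) (e _)
    refine ⟨f, ?_, fun _ _ => hr⟩
    rw [hU' i (by omega), hU' (i + 1) (by omega)]
    exact hf
  choose f0 hf0 hf0r using hedge
  let f : ℕ → (Cfsg.SU 3 F 2 →* G) := fun i => if h : i < n - 1 then f0 i h else 1
  have hfe : ∀ i (hi : i < n - 1), f i = f0 i hi := fun i hi => dif_pos hi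
  obtain ⟨f', hf', hfr⟩ := exists_family_two (k := n - 1) f (fun i hi => by rw [hfe i hi]; exact hf0 i hi)
  have hrange : ∀ i (hi : i < n - 1), (f' i).range = V ⟨i, by omega⟩ ⟨i + 1, by omega⟩ := fun i hi => by
    rw [hfr i hi, hfe i hi]; exact hf0r i hi (by omega) (by omega)
  have hbase : ∀ i, i + 2 ≤ n - 1 → ∃ Φ : Cfsg.SU 4 F 2 →* G,
      ∀ j (hj : j + 3 ≤ 4), Φ.comp (blk (win 3 j hj)) = f' (i + j) := by
    intro i hik
    obtain ⟨g, hg⟩ := h4 ⟨i, by omega⟩ ⟨i + 1, by omega⟩ ⟨i + 2, by omega⟩ rfl rfl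
    have hgr : ((Subgroup.subtype _).comp g).range = V ⟨i, by omega⟩ ⟨i + 1, by omega⟩ ⊔
        V ⟨i + 1, by omega⟩ ⟨i + 2, by omega⟩ := by
      rw [MonoidHom.range_comp, MonoidHom.range_eq_top.mpr hg, ← MonoidHom.range_eq_map, Subgroup.range_subtype]
    obtain ⟨Φ, hΦ0, hΦ1⟩ := base_two (hf'.edge i (by omega)) (hf'.edge (i + 1) (by omega))
      (hf'.agree i (by omega)) (fun a ha b hb => by
        rw [hU' i (by omega)] at ha
        rw [hU' (i + 1 + 1) (by omega)] at hb
        exact h1 ⟨i, by omega⟩ ⟨i + 1 + 1, by omega⟩ le_rfl a ha b hb)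
      ((Subgroup.subtype _).comp g)
      (by rw [hgr, hrange i (by omega)]; exact le_sup_left)
      (by rw [hgr, hrange (i + 1) (by omega)]; exact le_sup_right)
    refine ⟨Φ, fun j hj => ?_⟩
    rcases (show j = 0 ∨ j = 1 by omega) with rfl | rfl
    · exact hΦ0
    · exact hΦ1
  have hUf : ∀ i j, j < n - 1 → (i + 2 ≤ j ∨ j + 3 ≤ i) → i ≤ n - 1 → ∀ u ∈ U' i, ∀ x, Commute u (f' j x) := by
    intro i j hj hij hi u hu x
    rw [hU' i (by omega)] at hu
    exact h5 ⟨i, by omega⟩ ⟨j, by omega⟩ ⟨j + 1, by omega⟩ rfl (hij.imp id fun h => by simpa using (show j + 1 + 2 ≤ i by omega))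
      u hu _ ((hrange j hj).le ⟨x, rfl⟩)
  have hff : ∀ i j, i + 3 ≤ j → j < n - 1 → ∀ x y, Commute (f' i x) (f' j y) := by
    intro i j hij hj x y
    exact h6 ⟨i, by omega⟩ ⟨i + 1, by omega⟩ ⟨j, by omega⟩ ⟨j + 1, by omega⟩ rfl rfl
      (show i + 1 + 2 ≤ j by omega) _ ((hrange i (by omega)).le ⟨x, rfl⟩) _ ((hrange j hj).le ⟨y, rfl⟩)
  obtain ⟨Φ, hΦ⟩ := exists_glued_two hf' hbase hUf hff (n + 1) 0 (by omega) (by omega)
  have hVle : ∀ i (hi : i < n - 1), V ⟨i, by omega⟩ ⟨i + 1, by omega⟩ ≤ Φ.range := fun i hi => by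
    have := hΦ i (by omega)
    rw [zero_add] at this
    rw [← hrange i hi, ← this]
    rintro _ ⟨s, rfl⟩
    exact ⟨_, rfl⟩
  have hblock := hf'.block_range (N := n + 1) (i := 0) (by omega) (by omega) hΦ
  have hUle : ∀ i : Fin n, U i ≤ Φ.range := fun i => by
    rw [← hU' i.1 i.2, ← Nat.zero_add i.1, ← hblock i.1 (by omega)]
    rintro _ ⟨s, rfl⟩
    exact ⟨_, rfl⟩
  refine ⟨Φ, MonoidHom.range_eq_top.mp ((eq_top_iff).mpr ?_)⟩
  rw [← hgen, sup_le_iff, iSup_le_iff, iSup_le_iff]
  refine ⟨hUle, fun i => iSup_le fun j => iSup_le fun hij => ?_⟩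
  have hj : (⟨(i : ℕ) + 1, by omega⟩ : Fin n) = j := Fin.ext hij
  rw [← hj]
  exact hVle i (by omega)

end Cfsg.Lib.Known.Phan
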