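import Cfsg.Agent.Known.Phan.Basic

/-! Vectors of norm one orthogonal to given vectors. -/

set_option autoImplicit false
set_option linter.unusedSimpArgs false
set_option linter.unusedSectionVars false
set_option linter.style.haveILetI false

namespace Cfsg.Lib.Known.Phan

universe u

variable {F : Type u} [Field F] [Fintype F] {q : ℕ} [hF : Fact (Fintype.card F = q ^ 2)]

local notation "σ" => cb F q

theorem conjF : Cfsg.Lib.Classical.IsConj (cb F q) := Cfsg.Lib.Classical.powConj_isConj hF.out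

/-- A norm different from zero and one. -/
theorem exists_norm_avoid (hq : 3 ≤ q) : ∃ c : F, c ≠ 0 ∧ c * σ c ≠ 1 := by
  classical
  haveI : Fintype (Cfsg.Lib.Classical.fixedField σ) := Fintype.ofFinite _
  have hc : Fintype.card (Cfsg.Lib.Classical.fixedField σ) = q := by
    rw [← Nat.card_eq_fintype_card]
    exact (Cfsg.Lib.Classical.exists_conj_pow hF.out).choose_spec.2.2
  obtain ⟨a, -, ha⟩ := Finset.exists_mem_notMem_of_card_lt_card
    (s := ({0, 1} : Finset (Cfsg.Lib.Classical.fixedField σ))) (t := Finset.univ)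
    (lt_of_le_of_lt (Finset.card_le_two) (by rw [Finset.card_univ, hc]; omega))
  obtain ⟨c, hc'⟩ := (conjF (F := F) (q := q)).norm_surjective (Cfsg.Lib.Classical.mem_fixedField.mp a.2)
  simp only [Finset.mem_insert, Finset.mem_singleton, not_or] at ha
  refine ⟨c, fun h => ha.1 (Subtype.ext ?_), fun h => ha.2 (Subtype.ext ?_)⟩
  · rw [← hc', h, zero_mul]; rfl
  · rw [← hc', h]; rfl

/-- Prescribing `trace (x * d)`. -/
theorem exists_trace_eq {x a : F} (hx : x ≠ 0) (ha : σ a = a) : ∃ d : F, x * d + σ (x * d) = a := by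
  obtain ⟨θ, hθ⟩ := (conjF (F := F) (q := q)).exists_trace_one
  refine ⟨θ * a / x, ?_⟩
  rw [mul_div_cancel₀ _ hx, map_mul, ha, ← add_mul, hθ, one_mul]

variable {N : ℕ}

set_option quotPrecheck false in
local notation "⟪" x ", " y "⟫" => (HS F q N).h x y

/-- The basic adjustment. -/
theorem adjust (hq : 3 ≤ q) {z r : Fin N → F} (hz : ⟪z, z⟫ = 1) (hr : ⟪r, r⟫ = 0) (hzr : ⟪z, r⟫ ≠ 0) :
    ∃ c d : F, c ≠ 0 ∧ c * σ c ≠ 1 ∧ ⟪c • z + d • r, c • z + d • r⟫ = 1 ∧
      ⟪c • z + d • r, r⟫ = c * ⟪z, r⟫ := by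
  obtain ⟨c, hc0, hc1⟩ := exists_norm_avoid (F := F) hq
  obtain ⟨d, hd⟩ := exists_trace_eq (q := q) (mul_ne_zero hc0 hzr) (a := 1 - c * σ c)
    (by rw [map_sub, map_one, map_mul, cb_cb, mul_comm])
  refine ⟨c, σ d, hc0, hc1, ?_, ?_⟩
  · have hrz : ⟪r, z⟫ = σ ⟪z, r⟫ := (HS F q N).symm r z
    simp only [(HS F q N).add_left, (HS F q N).add_right, (HS F q N).smul_left, (HS F q N).smul_right,
      hs_sigma, hz, hr, hrz, cb_cb]
    rw [map_mul, map_mul] at hd
    linear_combination hd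
  · rw [(HS F q N).add_left, (HS F q N).smul_left, (HS F q N).smul_left, hr, mul_zero, add_zero]

/-- Scaling to norm one. -/
theorem exists_scale_unit {w : Fin N → F} (hw : ⟪w, w⟫ ≠ 0) : ∃ c : F, c ≠ 0 ∧ ⟪c • w, c • w⟫ = 1 := by
  obtain ⟨c, hc⟩ := (conjF (F := F) (q := q)).norm_surjective (a := (⟪w, w⟫)⁻¹) (by
    rw [map_inv₀]; exact congrArg _ ((HS F q N).self_fixed w))
  refine ⟨c, fun h => inv_ne_zero hw (by rw [← hc, h, zero_mul]), ?_⟩
  rw [(HS F q N).smul_left, (HS F q N).smul_right, hs_sigma, ← mul_assoc, hc, inv_mul_cancel₀ hw]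

/-- A subspace with only isotropic vectors is totally isotropic. -/
theorem totally_isotropic {W : Submodule F (Fin N → F)} (h : ∀ x ∈ W, ⟪x, x⟫ = 0) {x y : Fin N → F}
    (hx : x ∈ W) (hy : y ∈ W) : ⟪x, y⟫ = 0 := by
  by_contra hne
  obtain ⟨d, hd⟩ := exists_trace_eq (q := q) hne (a := 1) (map_one _)
  have key := h (d • x + y) (W.add_mem (W.smul_mem _ hx) hy)
  simp only [(HS F q N).add_left, (HS F q N).add_right, (HS F q N).smul_left, (HS F q N).smul_right,
    hs_sigma, h x hx, h y hy, (HS F q N).symm y x, mul_zero, zero_add, add_zero] at key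
  rw [map_mul] at hd
  exact one_ne_zero (hd.symm.trans (by linear_combination key))

/-- Finding a unit vector in the orthogonal of a set. -/
theorem exists_unit_orth (s : Set (Fin N → F))
    (h : ¬ (HS F q N).orth (Submodule.span F s) ≤ Submodule.span F s) :
    ∃ z, ⟪z, z⟫ = 1 ∧ ∀ x ∈ s, ⟪z, x⟫ = 0 := by
  by_contra hcon
  push Not at hcon
  refine h fun x hx => ?_
  rw [← (HS F q N).orth_orth (Submodule.span F s)]
  refine fun y hy => totally_isotropic (fun w hw => ?_) hx hy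
  by_contra hw0
  obtain ⟨c, hc0, hc⟩ := exists_scale_unit hw0
  obtain ⟨t, ht, hne⟩ := hcon (c • w) hc
  exact hne (by rw [(HS F q N).smul_left, hw t (Submodule.subset_span ht), mul_zero])

theorem exists_perp2 (hN : 4 ≤ N) {u v : Fin N → F} (hu : ⟪u, u⟫ = 1) (hv : ⟪v, v⟫ = 1) :
    ∃ z, ⟪z, z⟫ = 1 ∧ ⟪z, u⟫ = 0 ∧ ⟪z, v⟫ = 0 := by
  classical
  obtain ⟨z, hz, h⟩ := exists_unit_orth (q := q) ({u, v} : Set (Fin N → F)) (fun hle => by
    have h1 : (HS F q N).orth (Submodule.span F {u, v}) ≤ Submodule.span F {u - ⟪u, v⟫ • v} := fun x hx => by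
      obtain ⟨a, b, rfl⟩ := Submodule.mem_span_pair.mp (hle hx)
      have := (HS F q N).mem_orth_span.mp hx v (by simp)
      rw [(HS F q N).add_left, (HS F q N).smul_left, (HS F q N).smul_left, hv, mul_one] at this
      rw [eq_neg_of_add_eq_zero_right this]
      exact Submodule.mem_span_singleton.mpr ⟨a, by module⟩
    have h2 := (Submodule.finrank_mono h1).trans (show Module.finrank F (Submodule.span F {u - ⟪u, v⟫ • v}) ≤ 1 from
      (finrank_span_le_card _).trans (by simp))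
    rw [(HS F q N).finrank_orth, Module.finrank_fin_fun] at h2
    have h3 : Module.finrank F (Submodule.span F ({u, v} : Set (Fin N → F))) ≤ 2 :=
      (finrank_span_le_card _).trans (by rw [Set.toFinset_insert, Set.toFinset_singleton]; exact Finset.card_le_two)
    omega)
  exact ⟨z, hz, h u (by simp), h v (by simp)⟩

theorem exists_perp3 (hN : 4 ≤ N) {u v w : Fin N → F} (hu : ⟪u, u⟫ = 1) (hv : ⟪v, v⟫ = 1) (hw : ⟪w, w⟫ = 1)
    (hvw : ⟪v, w⟫ = 0) (hc : 5 ≤ N ∨ ⟪u, v⟫ * σ ⟪u, v⟫ + ⟪u, w⟫ * σ ⟪u, w⟫ ≠ 1) :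
    ∃ z, ⟪z, z⟫ = 1 ∧ ⟪z, u⟫ = 0 ∧ ⟪z, v⟫ = 0 ∧ ⟪z, w⟫ = 0 := by
  classical
  obtain ⟨z, hz, h⟩ := exists_unit_orth (q := q) ({u, v, w} : Set (Fin N → F)) (fun hle => by
    have hwv : ⟪w, v⟫ = 0 := (HS F q N).eq_zero_symm hvw
    have h1 : ∀ x ∈ (HS F q N).orth (Submodule.span F ({u, v, w} : Set (Fin N → F))), ∃ a : F,
        a • (u - ⟪u, v⟫ • v - ⟪u, w⟫ • w) = x ∧ a * (1 - ⟪u, v⟫ * σ ⟪u, v⟫ - ⟪u, w⟫ * σ ⟪u, w⟫) = 0 := by
      intro x hx
      obtain ⟨a, b, c, rfl⟩ := Submodule.mem_span_triple.mp (hle hx)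
      have hxv := (HS F q N).mem_orth_span.mp hx v (by simp)
      have hxw := (HS F q N).mem_orth_span.mp hx w (by simp)
      have hxu := (HS F q N).mem_orth_span.mp hx u (by simp)
      simp only [(HS F q N).add_left, (HS F q N).smul_left, hv, hw, hvw, hwv, mul_zero, mul_one,
        add_zero] at hxv hxw
      simp only [(HS F q N).add_left, (HS F q N).smul_left, hu, (HS F q N).symm v u, (HS F q N).symm w u,
        hs_sigma, mul_one] at hxu
      refine ⟨a, ?_, ?_⟩
      · rw [eq_neg_of_add_eq_zero_right hxv, eq_neg_of_add_eq_zero_right hxw]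
        module
      · linear_combination hxu - σ ⟪u, v⟫ * hxv - σ ⟪u, w⟫ * hxw
    have h2 : (HS F q N).orth (Submodule.span F {u, v, w}) ≤
        Submodule.span F {u - ⟪u, v⟫ • v - ⟪u, w⟫ • w} := fun x hx => by
      obtain ⟨a, ha, -⟩ := h1 x hx
      exact Submodule.mem_span_singleton.mpr ⟨a, ha⟩
    have h3 : Module.finrank F (Submodule.span F ({u, v, w} : Set (Fin N → F))) ≤ 3 :=
      (finrank_span_le_card _).trans (by
        rw [Set.toFinset_insert, Set.toFinset_insert, Set.toFinset_singleton]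
        exact Finset.card_le_three)
    have h4 := (Submodule.finrank_mono h2).trans (show Module.finrank F
        (Submodule.span F {u - ⟪u, v⟫ • v - ⟪u, w⟫ • w}) ≤ 1 from (finrank_span_le_card _).trans (by simp))
    rw [(HS F q N).finrank_orth, Module.finrank_fin_fun] at h4
    rcases hc with h5 | h5
    · omega
    · have h6 : (HS F q N).orth (Submodule.span F ({u, v, w} : Set (Fin N → F))) = ⊥ :=
        (Submodule.eq_bot_iff _).mpr fun x hx => by
          obtain ⟨a, ha, ha'⟩ := h1 x hx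
          rcases mul_eq_zero.mp ha' with ha0 | h7
          · rw [← ha, ha0, zero_smul]
          · exact absurd (by linear_combination -h7) h5
      have h7 := congrArg (fun W : Submodule F (Fin N → F) => Module.finrank F W) h6
      simp only [finrank_bot] at h7
      rw [(HS F q N).finrank_orth, Module.finrank_fin_fun] at h7
      omega)
  exact ⟨z, hz, h u (by simp), h v (by simp), h w (by simp)⟩

/-- Two unit vectors in the orthogonal of a unit vector `u` have a short connection there. -/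
theorem exists_link (hN : 4 ≤ N) (hq : 3 ≤ q) {u x y : Fin N → F} (hu : ⟪u, u⟫ = 1) (hx : ⟪x, x⟫ = 1)
    (hy : ⟪y, y⟫ = 1) (hxu : ⟪x, u⟫ = 0) (hyu : ⟪y, u⟫ = 0) :
    ∃ z z', ⟪z, z⟫ = 1 ∧ ⟪z', z'⟫ = 1 ∧ ⟪z, u⟫ = 0 ∧ ⟪z', u⟫ = 0 ∧ ⟪x, z⟫ = 0 ∧ ⟪z, z'⟫ = 0 ∧
      ⟪z', y⟫ = 0 := by
  have sy := @Cfsg.Lib.Classical.HermSpace.eq_zero_symm _ _ _ _ _ (HS F q N)
  obtain ⟨z, hz1, hz, hzx, hne⟩ : ∃ z, ⟪z, z⟫ = 1 ∧ ⟪z, u⟫ = 0 ∧ ⟪z, x⟫ = 0 ∧ ⟪y, z⟫ * σ ⟪y, z⟫ ≠ 1 := by
    by_cases ha : ⟪y, x⟫ * σ ⟪y, x⟫ = 1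
    · obtain ⟨z0, h1, h2, h3⟩ := exists_perp2 hN hu hx
      by_cases hb : ⟪y, z0⟫ * σ ⟪y, z0⟫ = 1
      · set r := y - ⟪y, x⟫ • x with hr
        have hru : ⟪r, u⟫ = 0 := by
          rw [hr, (HS F q N).sub_left, (HS F q N).smul_left, hxu, hyu, mul_zero, sub_zero]
        have hrx : ⟪r, x⟫ = 0 := by
          rw [hr, (HS F q N).sub_left, (HS F q N).smul_left, hx, mul_one, sub_self]
        have hrr : ⟪r, r⟫ = 0 := by
          have : ⟪r, r⟫ = ⟪r, y⟫ := by
            conv_lhs => arg 3; rw [hr]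
            rw [(HS F q N).sub_right, (HS F q N).smul_right, hrx, mul_zero, sub_zero]
          rw [this, hr, (HS F q N).sub_left, (HS F q N).smul_left, hy, (HS F q N).symm x y, hs_sigma]
          linear_combination -ha
        have hz0r : ⟪z0, r⟫ = σ ⟪y, z0⟫ := by
          rw [hr, (HS F q N).sub_right, (HS F q N).smul_right, h3, mul_zero, sub_zero, (HS F q N).symm z0 y,
            hs_sigma]
        have hne0 : ⟪z0, r⟫ ≠ 0 := by
          rw [hz0r]; intro h; rw [h, mul_zero] at hb; exact zero_ne_one hb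
        obtain ⟨c, d, hc0, hc1, hn, hv⟩ := adjust hq h1 hrr hne0
        refine ⟨c • z0 + d • r, hn, ?_, ?_, ?_⟩
        · rw [(HS F q N).add_left, (HS F q N).smul_left, (HS F q N).smul_left, h2, hru]; ring
        · rw [(HS F q N).add_left, (HS F q N).smul_left, (HS F q N).smul_left, h3, hrx]; ring
        · have e : ⟪y, c • z0 + d • r⟫ = σ c * ⟪y, z0⟫ := by
            have : y = r + ⟪y, x⟫ • x := by rw [hr]; abel
            have e1 : ⟪x, c • z0 + d • r⟫ = 0 := by
              rw [(HS F q N).add_right, (HS F q N).smul_right, (HS F q N).smul_right, sy h3, sy hrx]; ring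
            conv_lhs => rw [this]
            rw [(HS F q N).add_left, (HS F q N).smul_left, e1, mul_zero, add_zero, (HS F q N).symm r, hv,
              hs_sigma, map_mul, hz0r, cb_cb]
          intro h
          refine hc1 ?_
          rw [e, map_mul, cb_cb] at h
          linear_combination h - c * σ c * hb
      · exact ⟨z0, h1, h2, h3, hb⟩
    · obtain ⟨z, h1, h2, h3, h4⟩ := exists_perp3 hN hy hx hu hxu (Or.inr (by rw [hyu]; simpa using ha))
      exact ⟨z, h1, h4, h3, by rw [sy h2, zero_mul]; exact zero_ne_one⟩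
  obtain ⟨z', h1, h2, h3, h4⟩ := exists_perp3 hN hy hz1 hu hz (Or.inr (by rw [hyu]; simpa using hne))
  exact ⟨z, z', hz1, h1, hz, h4, sy hzx, sy h3, h2⟩

end Cfsg.Lib.Known.Phan
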